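import Mathlib

/-!
# The order of the normaliser of an isolated cyclic torus from the order of the group (helper946)

`card_normalizer` : `a` of prime order `t` with cyclic centraliser of order `N`, `|G| = N K`, `t ∤ K`, `K ≡ m mod t`,
`0 < m < t`: `|N_G(⟨a⟩)| = N m`.
-/

set_option autoImplicit false

namespace Cfsg.Agent.H946.Rad

variable {G : Type*} [Group G] [Finite G]

theorem mem_zpowers_of_cyclic {C : Subgroup G} (hc : IsCyclic ↥C) {a b : G} (ha : a ∈ C) (hb : b ∈ C)
    (h : b ^ orderOf a = 1) : b ∈ Subgroup.zpowers a := by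
  classical
  let _ : Fintype ↥C := Fintype.ofFinite _
  let _ : Fintype G := Fintype.ofFinite _
  have h1 := IsCyclic.card_pow_eq_one_le (α := ↥C) (n := orderOf a) (orderOf_pos a)
  have h2 : (Finset.univ.filter fun z : ↥C => z ∈ Subgroup.zpowers (⟨a, ha⟩ : ↥C)) ⊆
      Finset.univ.filter fun z : ↥C => z ^ orderOf a = 1 := by
    intro z hz
    rw [Finset.mem_filter] at hz ⊢
    refine ⟨Finset.mem_univ _, ?_⟩
    obtain ⟨k, hk⟩ := Subgroup.mem_zpowers_iff.1 hz.2
    rw [← hk]
    have h3 : (⟨a, ha⟩ : ↥C) ^ orderOf a = 1 := by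
      apply Subtype.ext
      simp [pow_orderOf_eq_one]
    rw [← zpow_natCast, ← zpow_mul, mul_comm, zpow_mul, zpow_natCast, h3, one_zpow]
  have h4 : (Finset.univ.filter fun z : ↥C => z ∈ Subgroup.zpowers (⟨a, ha⟩ : ↥C)).card = orderOf a := by
    have h5 : Nat.card ↥(Subgroup.zpowers (⟨a, ha⟩ : ↥C)) = orderOf a := by
      rw [Nat.card_zpowers, Subgroup.orderOf_mk]
    rw [← h5, Nat.card_eq_fintype_card, Fintype.card_subtype]
  have h6 := Finset.eq_of_subset_of_card_le h2 (by rw [h4]; exact h1)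
  have h7 : (⟨b, hb⟩ : ↥C) ∈ Finset.univ.filter fun z : ↥C => z ^ orderOf a = 1 := by
    rw [Finset.mem_filter]
    exact ⟨Finset.mem_univ _, Subtype.ext (by simpa using h)⟩
  rw [← h6, Finset.mem_filter] at h7
  obtain ⟨k, hk⟩ := Subgroup.mem_zpowers_iff.1 h7.2
  exact Subgroup.mem_zpowers_iff.2 ⟨k, by simpa using congrArg Subtype.val hk⟩

theorem card_normalizer {a : G} {t : ℕ} (ht : t.Prime) (ha : orderOf a = t)
    (hcyc : IsCyclic ↥(Subgroup.centralizer ({a} : Set G))) {N K m : ℕ}
    (hN : Nat.card ↥(Subgroup.centralizer ({a} : Set G)) = N) (hK : Nat.card G = N * K) (htK : ¬ t ∣ K)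
    (hm : K ≡ m [MOD t]) (hm0 : 0 < m) (hmt : m < t) :
    Nat.card ↥(Subgroup.normalizer (Subgroup.zpowers a : Set G)) = N * m := by
  classical
  have := Fact.mk ht
  have hN0 : 0 < N := by rw [← hN]; exact Nat.card_pos
  have hK0 : 0 < K := Nat.pos_of_ne_zero (by rintro rfl; exact htK (dvd_zero _))
  set C := Subgroup.centralizer ({a} : Set G) with hC
  have haC : a ∈ C := Subgroup.mem_centralizer_singleton_iff.2 rfl
  have hcomm : ∀ x ∈ C, ∀ y ∈ C, x * y = y * x := by
    intro x hx y hy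
    let _ : CommGroup ↥C := IsCyclic.commGroup
    exact congrArg Subtype.val (mul_comm (⟨x, hx⟩ : ↥C) ⟨y, hy⟩)
  -- the Sylow subgroup
  obtain ⟨P₀⟩ : Nonempty (Sylow t ↥C) := inferInstance
  have hcardP : Nat.card ↥((P₀ : Subgroup ↥C).map C.subtype) = t ^ (Nat.card G).factorization t := by
    rw [Subgroup.card_map_of_injective C.subtype_injective, P₀.card_eq_multiplicity, hN, hK,
      Nat.factorization_mul hN0.ne' hK0.ne', Finsupp.add_apply, Nat.factorization_eq_zero_of_not_dvd htK, add_zero]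
  let P : Sylow t G := Sylow.ofCard ((P₀ : Subgroup ↥C).map C.subtype) hcardP
  have hPC : ∀ z ∈ (P : Subgroup G), z ∈ C := by
    rintro z ⟨y, -, rfl⟩
    exact y.2
  have hP0n : (P₀ : Subgroup ↥C).Normal := by
    refine ⟨fun n hn g => ?_⟩
    have : g * n * g⁻¹ = n := by
      have h1 : g * n = n * g := Subtype.ext (hcomm _ g.2 _ n.2)
      rw [h1, mul_inv_cancel_right]
    rwa [this]
  have hmemP : ∀ z ∈ C, ∀ k : ℕ, z ^ t ^ k = 1 → z ∈ (P : Subgroup G) := by
    intro z hz k hk
    have h1 : IsPGroup t ↥(Subgroup.zpowers (⟨z, hz⟩ : ↥C)) := by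
      rw [IsPGroup.iff_card]
      have h2 : orderOf (⟨z, hz⟩ : ↥C) ∣ t ^ k := by
        rw [Subgroup.orderOf_mk]
        exact orderOf_dvd_of_pow_eq_one hk
      obtain ⟨j, -, hj⟩ := (Nat.dvd_prime_pow ht).1 h2
      exact ⟨j, by rw [Nat.card_zpowers, hj]⟩
    obtain ⟨Q, hQ⟩ := h1.exists_le_sylow
    have h3 : Q = P₀ := by
      obtain ⟨g, hg⟩ := MulAction.exists_smul_eq ↥C P₀ Q
      rw [← hg, Sylow.smul_eq_of_normal]
    rw [h3] at hQ
    exact ⟨⟨z, hz⟩, hQ (Subgroup.mem_zpowers _), rfl⟩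
  have haP : a ∈ (P : Subgroup G) := hmemP a haC 1 (by rw [pow_one, ← ha, pow_orderOf_eq_one])
  -- the normalisers
  set Nn := Subgroup.normalizer (Subgroup.zpowers a : Set G) with hNn
  have hconjC : ∀ g ∈ Nn, ∀ z ∈ C, g * z * g⁻¹ ∈ C := by
    intro g hg z hz
    have h1 : g⁻¹ * a * g ∈ Subgroup.zpowers a := by
      have h2 := (Subgroup.mem_normalizer_iff.1 (inv_mem hg) a).1 (Subgroup.mem_zpowers a)
      simpa using h2
    obtain ⟨k, hk⟩ := Subgroup.mem_zpowers_iff.1 h1
    rw [hC, Subgroup.mem_centralizer_singleton_iff]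
    have hz' : z * a = a * z := Subgroup.mem_centralizer_singleton_iff.1 hz
    have h3 : Commute z (a ^ k) := Commute.zpow_right hz' k
    have h4 : a = g * a ^ k * g⁻¹ := by rw [hk]; group
    calc g * z * g⁻¹ * a = g * z * g⁻¹ * (g * a ^ k * g⁻¹) := by rw [← h4]
      _ = g * (z * a ^ k) * g⁻¹ := by group
      _ = g * (a ^ k * z) * g⁻¹ := by rw [h3.eq]
      _ = (g * a ^ k * g⁻¹) * (g * z * g⁻¹) := by group
      _ = a * (g * z * g⁻¹) := by rw [← h4]
  have hnorm : Subgroup.normalizer ((P : Subgroup G) : Set G) = Nn := by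
    apply le_antisymm
    · intro g hg
      have h1 : g * a * g⁻¹ ∈ (P : Subgroup G) := (Subgroup.mem_normalizer_iff.1 hg a).1 haP
      have h2 : g⁻¹ * a * g ∈ (P : Subgroup G) := by
        have := (Subgroup.mem_normalizer_iff.1 (inv_mem hg) a).1 haP
        simpa using this
      have key : ∀ b : G, b ∈ C → b ^ t = 1 → b ∈ Subgroup.zpowers a := fun b hb hb' =>
        mem_zpowers_of_cyclic hcyc haC hb (by rwa [ha])
      rw [hNn, Subgroup.mem_normalizer_iff]
      have hap : a ^ t = 1 := by rw [← ha, pow_orderOf_eq_one]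
      have h3 : g * a * g⁻¹ ∈ Subgroup.zpowers a := key _ (hPC _ h1) (by rw [conj_pow, hap]; group)
      have h4 : g⁻¹ * a * g ∈ Subgroup.zpowers a := key _ (hPC _ h2) (by
        have := conj_pow (a := g⁻¹) (b := a) (i := t)
        rw [inv_inv] at this
        rw [this, hap]; group)
      intro z
      constructor
      · intro hz
        obtain ⟨k, rfl⟩ := Subgroup.mem_zpowers_iff.1 hz
        rw [← conj_zpow]
        exact zpow_mem h3 k
      · intro hz
        obtain ⟨k, hk⟩ := Subgroup.mem_zpowers_iff.1 hz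
        have : z = (g⁻¹ * a * g) ^ k := by
          have h5 := conj_zpow (a := g⁻¹) (b := a) (i := k)
          rw [inv_inv] at h5
          rw [h5, hk]; group
        rw [this]
        exact zpow_mem h4 k
    · intro g hg
      rw [Subgroup.mem_normalizer_iff]
      have key : ∀ g ∈ Nn, ∀ z ∈ (P : Subgroup G), g * z * g⁻¹ ∈ (P : Subgroup G) := by
        intro g hg z hz
        obtain ⟨k, hk⟩ := P.2 ⟨z, hz⟩
        have hk' : z ^ t ^ k = 1 := by simpa using congrArg Subtype.val hk
        exact hmemP _ (hconjC g hg z (hPC z hz)) k (by rw [conj_pow, hk']; group)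
      intro z
      refine ⟨key g hg z, fun hz => ?_⟩
      have := key g⁻¹ (inv_mem hg) _ hz
      have e : g⁻¹ * (g * z * g⁻¹) * g⁻¹⁻¹ = z := by group
      rwa [e] at this
  -- the index
  have hCN : C ≤ Nn := by
    intro z hz
    rw [hNn, Subgroup.mem_normalizer_iff]
    have hz' : Commute z a := Subgroup.mem_centralizer_singleton_iff.1 hz
    have key : ∀ y ∈ Subgroup.zpowers a, z * y * z⁻¹ = y := by
      intro y hy
      obtain ⟨k, rfl⟩ := Subgroup.mem_zpowers_iff.1 hy
      have h3 : Commute z (a ^ k) := Commute.zpow_right hz' k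
      rw [h3.eq, mul_inv_cancel_right]
    intro y
    refine ⟨fun hy => by rwa [key y hy], fun hy => ?_⟩
    have h4 := key _ hy
    have h5 : z * y * z⁻¹ = y := by
      have h6 : z * (z * y * z⁻¹) * z⁻¹ = z * y * z⁻¹ := h4
      have h7 := congrArg (fun w => z⁻¹ * w * z) h6
      simpa [mul_assoc] using h7
    rwa [h5] at hy
  set k := C.relIndex Nn with hk
  have hcardN : Nat.card ↥Nn = N * k := by
    rw [← hN, hk, Subgroup.relIndex, mul_comm, ← Subgroup.card_mul_index (C.subgroupOf Nn), mul_comm]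
    congr 1
    exact Nat.card_congr (Subgroup.subgroupOfEquivOfLe hCN).toEquiv.symm |>.symm
  have hkt : k < t := by
    have h1 : k ≤ Nat.card {b : ↥(Subgroup.zpowers a) // b ≠ 1} := by
      rw [hk, Subgroup.relIndex, Subgroup.index]
      have hmemz : ∀ g : ↥Nn, (g : G) * a * (g : G)⁻¹ ∈ Subgroup.zpowers a := fun g =>
        (Subgroup.mem_normalizer_iff.1 g.2 a).1 (Subgroup.mem_zpowers a)
      have ha1 : a ≠ 1 := by
        rintro rfl
        rw [orderOf_one] at ha
        exact ht.one_lt.ne ha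
      let f : ↥Nn → {b : ↥(Subgroup.zpowers a) // b ≠ 1} := fun g => ⟨⟨_, hmemz g⟩, by
        intro h
        have h2 : (g : G) * a * (g : G)⁻¹ = 1 := congrArg Subtype.val h
        exact ha1 (by simpa using h2)⟩
      have hf : ∀ g h : ↥Nn, f g = f h ↔ g⁻¹ * h ∈ C.subgroupOf Nn := by
        intro g h
        rw [Subgroup.mem_subgroupOf, hC, Subgroup.mem_centralizer_singleton_iff]
        constructor
        · intro he
          have h3 : (g : G) * a * (g : G)⁻¹ = h * a * (h : G)⁻¹ := congrArg (fun z => ((z.1 : ↥(Subgroup.zpowers a)) : G)) he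
          have h4 : (h : G) * a * (h : G)⁻¹ * h = (g : G) * a * (g : G)⁻¹ * h := by rw [h3]
          show ((g : G)⁻¹ * h) * a = a * ((g : G)⁻¹ * h)
          have h5 : (h : G) * a = (g : G) * a * (g : G)⁻¹ * h := by simpa using h4
          calc ((g : G)⁻¹ * h) * a = (g : G)⁻¹ * (h * a) := by group
            _ = (g : G)⁻¹ * ((g : G) * a * (g : G)⁻¹ * h) := by rw [h5]
            _ = _ := by group
        · intro he
          have he' : ((g : G)⁻¹ * h) * a = a * ((g : G)⁻¹ * h) := he
          apply Subtype.ext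
          apply Subtype.ext
          show (g : G) * a * (g : G)⁻¹ = h * a * (h : G)⁻¹
          calc (g : G) * a * (g : G)⁻¹ = (g : G) * (a * ((g : G)⁻¹ * h)) * (h : G)⁻¹ := by group
            _ = (g : G) * (((g : G)⁻¹ * h) * a) * (h : G)⁻¹ := by rw [he']
            _ = _ := by group
      let F : ↥Nn ⧸ C.subgroupOf Nn → {b : ↥(Subgroup.zpowers a) // b ≠ 1} :=
        Quotient.lift f (fun g h hgh => (hf g h).2 (QuotientGroup.leftRel_apply.1 hgh))
      refine Nat.card_le_card_of_injective F ?_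
      rintro ⟨g⟩ ⟨h⟩ hgh
      exact QuotientGroup.eq.2 ((hf g h).1 hgh)
    have h2 : Nat.card {b : ↥(Subgroup.zpowers a) // b ≠ 1} < t := by
      have h3 : Nat.card ↥(Subgroup.zpowers a) = t := by rw [Nat.card_zpowers, ha]
      rw [← h3]
      let _ : Fintype ↥(Subgroup.zpowers a) := Fintype.ofFinite _
      rw [Nat.card_eq_fintype_card, Nat.card_eq_fintype_card]
      exact Fintype.card_subtype_lt (x := (1 : ↥(Subgroup.zpowers a))) (by simp)
    omega
  have hsyl := card_sylow_modEq_one t G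
  have hidx : Nat.card (Sylow t G) = (Subgroup.normalizer ((P : Subgroup G) : Set G)).index :=
    P.card_eq_index_normalizer
  rw [hnorm] at hidx
  have hG : N * K = N * (k * Nat.card (Sylow t G)) := by
    rw [← hK, ← Subgroup.card_mul_index Nn, hcardN, hidx, mul_assoc]
  have hKk : K = k * Nat.card (Sylow t G) := Nat.eq_of_mul_eq_mul_left hN0 hG
  have h5 : K ≡ k [MOD t] := by
    rw [hKk]
    have := hsyl.mul_left k
    rwa [mul_one] at this
  have h6 : k ≡ m [MOD t] := h5.symm.trans hm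
  have h7 : k = m := by
    have := h6
    unfold Nat.ModEq at this
    rwa [Nat.mod_eq_of_lt hkt, Nat.mod_eq_of_lt hmt] at this
  rw [hcardN, h7]

end Cfsg.Agent.H946.Rad
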