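import Cfsg.Agent.H946.RadG2
import Cfsg.Agent.H946.NormCard

/-!
# The solvable radical of full subgroups of `³D₄(q)` (helper946)

`T` a group with the torus data of `³D₄(q)`, `M` a subgroup whose order is divisible by all prime divisors of `|T|`:
the solvable radical of `M` is trivial.
-/

set_option autoImplicit false

namespace Cfsg.Agent.H946.Num

open Cfsg.Agent.H436

theorem case3 {p a : ℕ} (hp : p.Prime) (ha : 0 < a) (hple : p ≤ 28)
    (hall : ∀ s, s.Prime → s ∣ N12 (p ^ a) → s ≤ 28) : p = 2 ∧ a = 1 := by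
  have h2 := hp.two_le
  have h1p : 1 ≤ p := by omega
  have h1 : 1 ≤ p ^ a := Nat.one_le_pow _ _ h1p
  obtain ⟨w, hw⟩ := exists_prim (q := p) (e := 12 * a) (by omega) (by omega) (by
    rintro ⟨rfl, h6⟩
    omega)
  have hw1 := hall w hw.prime (prim_N12 h1 (prim_pow ha hw))
  have hw2 := prim_mod h1p (by omega) hw
  have hw3 := prim_lt h1p (by omega) hw
  have hwp := hw.prime
  have ha2 : a = 1 := by
    by_contra hne
    have : a = 2 := by omega
    subst this
    have : w = 25 := by omega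
    rw [this] at hwp
    revert hwp; norm_num
  subst ha2
  have hx : ∀ s, s.Prime → 28 < s → ¬ s ∣ N12 (p ^ 1) := fun s hs h hd => absurd (hall s hs hd) (by omega)
  refine ⟨?_, rfl⟩
  interval_cases p <;> first | rfl | (exfalso; revert hp; norm_num; done) | skip
  · exact absurd (by decide) (hx 73 (by norm_num) (by norm_num))
  · exact absurd (by decide) (hx 601 (by norm_num) (by norm_num))
  · exact absurd (by decide) (hx 181 (by norm_num) (by norm_num))
  · exact absurd (by decide) (hx 1117 (by norm_num) (by norm_num))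
  · exact absurd (by decide) (hx 28393 (by norm_num) (by norm_num))
  · exact absurd (by decide) (hx 83233 (by norm_num) (by norm_num))
  · exact absurd (by decide) (hx 769 (by norm_num) (by norm_num))
  · exact absurd (by decide) (hx 37 (by norm_num) (by norm_num))

end Cfsg.Agent.H946.Num

namespace Cfsg.Agent.H946.Rad

open Cfsg.Agent.H946.Num Cfsg.Agent.H436 Cfsg.Agent.H325.Loc

/-- the normaliser of a cyclic torus -/
theorem norm_case {T : Type*} [Group T] [Finite T] {M : Subgroup T} {A : Subgroup ↥M} [hAn : A.Normal]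
    (hAc : ∀ x ∈ A, ∀ y ∈ A, x * y = y * x) {a : ↥M} (ha : a ∈ A) (hat : (orderOf a).Prime)
    (hAt : ∀ x ∈ A, x ^ orderOf a = 1) (hcyc : IsCyclic ↥(Subgroup.centralizer ({(a : T)} : Set T))) {N K m : ℕ}
    (hN : Nat.card ↥(Subgroup.centralizer ({(a : T)} : Set T)) = N) (hK : Nat.card T = N * K)
    (hm : K ≡ m [MOD orderOf a]) (hm0 : 0 < m) (hmt : m < orderOf a) : Nat.card ↥M ∣ N * m := by
  have h0 : orderOf (a : T) = orderOf a := Subgroup.orderOf_coe a
  have htK : ¬ orderOf (a : T) ∣ K := by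
    intro h
    rw [h0] at h
    have h1 : m ≡ 0 [MOD orderOf a] := hm.symm.trans ((Nat.modEq_zero_iff_dvd).2 h)
    exact absurd (Nat.le_of_dvd hm0 ((Nat.modEq_zero_iff_dvd).1 h1)) (by omega)
  have h1 := card_normalizer (a := (a : T)) (t := orderOf (a : T)) (by rw [h0]; exact hat) rfl hcyc hN hK htK
    (by rw [h0]; exact hm) hm0 (by rw [h0]; exact hmt)
  rw [← h1]
  have h2 : A.map M.subtype = Subgroup.zpowers (a : T) := by
    apply le_antisymm
    · rintro _ ⟨x, hx, rfl⟩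
      refine mem_zpowers_of_cyclic hcyc (Subgroup.mem_centralizer_singleton_iff.2 rfl)
        (Subgroup.mem_centralizer_singleton_iff.2 (congrArg Subtype.val (hAc x hx a ha))) ?_
      rw [h0]
      exact congrArg Subtype.val (hAt x hx)
    · rw [Subgroup.zpowers_le]
      exact ⟨a, ha, rfl⟩
  rw [← h2]
  exact Subgroup.card_dvd_of_le (le_normalizer_map hAn)

/-- torus data of `³D₄(q)` -/
structure DatD4 (T : Type*) [Group T] (p a : ℕ) : Prop where
  hp : p.Prime
  ha : 0 < a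
  card : Nat.card T = (p ^ a) ^ 12 * ((p ^ a) ^ 8 + (p ^ a) ^ 4 + 1) * ((p ^ a) ^ 6 - 1) * ((p ^ a) ^ 2 - 1)
  t12 : Tor T (N12 (p ^ a)) 0
  iso : ∃ w, w.Prime ∧ w ∣ Nat.card T ∧ PIso p w T

theorem eight_factor (q : ℕ) : q ^ 8 + q ^ 4 + 1 = N12 q * (N3 q * N6 q) := by
  zify
  rw [cast_N6, cast_N12]
  unfold N3
  push_cast
  ring

theorem d4_card (q : ℕ) : q ^ 12 * (q ^ 8 + q ^ 4 + 1) * (q ^ 6 - 1) * (q ^ 2 - 1) =
    N12 q * (q ^ 12 * (N3 q * N6 q) * (q ^ 6 - 1) * (q ^ 2 - 1)) := by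
  rw [eight_factor]; ring

theorem d4_mod {q t : ℕ} (hq : 1 ≤ q) (htp : t.Prime) (ht : t ∣ N12 q) :
    q ^ 12 * (N3 q * N6 q) * (q ^ 6 - 1) * (q ^ 2 - 1) ≡ 4 [MOD t] := by
  have h0 := zm_N12 htp ht
  rw [← ZMod.natCast_eq_natCast_iff]
  have e6 : ((N6 q : ℕ) : ZMod t) = (q : ZMod t) ^ 2 - q + 1 := by
    unfold N6
    rw [Nat.cast_add, Nat.cast_sub le_sq]; push_cast; ring
  have e3 : ((N3 q : ℕ) : ZMod t) = (q : ZMod t) ^ 2 + q + 1 := by unfold N3; push_cast; ring
  push_cast [Nat.one_le_pow 6 q hq, Nat.one_le_pow 2 q hq]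
  rw [e6, e3]
  generalize (q : ZMod t) = x at h0
  have h6 : x ^ 6 = -1 := by linear_combination (x ^ 2 + 1) * h0
  have h12 : x ^ 12 = 1 := by
    have : x ^ 12 = (x ^ 6) ^ 2 := by ring
    rw [this, h6]; ring
  rw [h12, h6]
  linear_combination (-2 * (x ^ 2 - 1) - 4) * h0

variable {T : Type*} [Group T] [Finite T] {p a : ℕ}

theorem DatD4.dvd12 (D : DatD4 T p a) : N12 (p ^ a) ∣ Nat.card T := by
  rw [D.card, d4_card]
  exact Dvd.intro _ rfl

theorem DatD4.dvd3 (D : DatD4 T p a) : N3 (p ^ a) ∣ Nat.card T := by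
  rw [D.card, d4_card]
  exact ((((Dvd.intro _ rfl).mul_left _).mul_right _).mul_right _).mul_left _

theorem DatD4.dvdp (D : DatD4 T p a) : p ∣ Nat.card T := by
  rw [D.card]
  have h1 : p ∣ p ^ a := dvd_pow_self p D.ha.ne'
  exact (((h1.trans (dvd_pow_self _ (by norm_num))).mul_right _).mul_right _).mul_right _

theorem not_dvd_N12 {p a : ℕ} (hp : p.Prime) (ha : 0 < a) : ¬ p ∣ N12 (p ^ a) := by
  intro h
  unfold N12 at h
  have h1 : p ∣ p ^ a := dvd_pow_self p ha.ne'
  have h2 : p ∣ (p ^ a) ^ 4 - (p ^ a) ^ 2 :=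
    Nat.dvd_sub (h1.trans (dvd_pow_self _ (by norm_num))) (h1.trans (dvd_pow_self _ (by norm_num)))
  exact hp.one_lt.ne' (Nat.dvd_one.1 ((Nat.dvd_add_right h2).1 h))

theorem thirteen_le {q s : ℕ} (hs : s.Prime) (h : s ∣ N12 q) : 13 ≤ s := by
  have h1 := mod_of_order hs (by norm_num) (od_N12 hs h)
  have := hs.two_le
  have := Nat.le_of_dvd (by omega) h1
  omega

/-- the `p`-core is trivial -/
theorem DatD4.core (D : DatD4 T p a) {M : Subgroup T} (hM : Full M) (Q : Subgroup ↥M) (hQ : Q.Normal)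
    (hQp : IsPGroup p ↥Q) : Q = ⊥ := by
  obtain ⟨w, hw, hwT, hiso⟩ := D.iso
  exact core_eq_bot hiso (hM w hw hwT) Q hQ hQp

theorem DatD4.free (D : DatD4 T p a) {M : Subgroup T} {x : ↥M} (hx : (orderOf x).Prime)
    (hxN : orderOf x ∣ N12 (p ^ a)) {y : ↥M} (hxy : Commute x y) : orderOf y ∣ N12 (p ^ a) := by
  have h0 : orderOf (x : T) = orderOf x := Subgroup.orderOf_coe x
  have h1 := (D.t12 (x : T) (by rw [h0]; exact hx) (by rw [h0]; exact hx.ne_zero) (by rw [h0]; exact hxN)).2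
  have h2 := orderOf_dvd_cent (commute_coe hxy)
  rwa [h1, Subgroup.orderOf_coe] at h2

/-- **The case `q = 2`.** -/
theorem DatD4.two (D : DatD4 T 2 1) {M : Subgroup T} (hM : Full M) {A : Subgroup ↥M}
    [hAn : A.Normal] (hA : A ≠ ⊥) {t : ℕ} (ht : t.Prime) (ht2 : t ≠ 2) (ht13 : t ≠ 13)
    (hAc : ∀ a ∈ A, ∀ b ∈ A, a * b = b * a) (hAt : ∀ a ∈ A, a ^ t = 1) : False := by
  have e13 : N12 (2 ^ 1) = 13 := by decide
  have hcard : Nat.card T = 2 ^ 12 * 3 ^ 4 * 7 ^ 2 * 13 := by rw [D.card]; norm_num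
  obtain ⟨x, hx⟩ := hM.exists_elt (r := 13) (by norm_num) (by rw [hcard]; norm_num)
  have hfree : ∀ Q : Subgroup ↥M, ∀ s : ℕ, s.Prime → s ≠ 13 → IsPGroup s ↥Q → ∀ b ∈ Q, x * b = b * x → b = 1 := by
    intro Q s hs hs13 hQs b hb hxb
    have := Fact.mk hs
    obtain ⟨k, hk⟩ := (IsPGroup.iff_orderOf.1 hQs) ⟨b, hb⟩
    rw [Subgroup.orderOf_mk] at hk
    have h1 := D.free (x := x) (by rw [hx]; norm_num) (by rw [hx, e13]) (y := b) hxb
    rw [e13, hk] at h1
    rcases Nat.eq_zero_or_pos k with rfl | hk0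
    · rw [pow_zero] at hk
      exact orderOf_eq_one_iff.1 hk
    · exact absurd ((Nat.prime_dvd_prime_iff_eq hs (by norm_num)).1 ((dvd_pow_self s hk0.ne').trans h1)) hs13
  have hmod : ∀ Q : Subgroup ↥M, Q.Normal → ∀ s : ℕ, s.Prime → s ≠ 13 → IsPGroup s ↥Q → Nat.card ↥Q ≡ 1 [MOD 13] := by
    intro Q hQ s hs hs13 hQs
    exact card_of_free (by norm_num) hx (hfree Q s hs hs13 hQs)
  have hle : ∀ Q : Subgroup ↥M, Nat.card ↥Q ∣ 2 ^ 12 * 3 ^ 4 * 7 ^ 2 * 13 := by
    intro Q
    rw [← hcard]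
    exact (Subgroup.card_subgroup_dvd_card Q).trans (Subgroup.card_subgroup_dvd_card M)
  have hseven : ∀ Q : Subgroup ↥M, Q.Normal → IsPGroup 7 ↥Q → Q = ⊥ := by
    intro Q hQ hQ7
    have := Fact.mk (by norm_num : Nat.Prime 7)
    obtain ⟨k, hk⟩ := hQ7.exists_card_eq
    have h1 := hmod Q hQ 7 (by norm_num) (by norm_num) hQ7
    have h2 := hle Q
    rw [hk] at h1 h2
    have h3 : k ≤ 2 := by
      by_contra h
      have h4 : 7 ^ 3 ∣ 2 ^ 12 * 3 ^ 4 * 7 ^ 2 * 13 := (pow_dvd_pow 7 (by omega)).trans h2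
      revert h4; norm_num
    interval_cases k
    · exact Subgroup.card_eq_one.1 (by rw [hk, pow_zero])
    · exact absurd h1 (by decide)
    · exact absurd h1 (by decide)
  have htt : IsPGroup t ↥A := fun a => ⟨1, by rw [pow_one]; exact Subtype.ext (hAt a a.2)⟩
  have htd : t ∣ 2 ^ 12 * 3 ^ 4 * 7 ^ 2 * 13 := by
    obtain ⟨⟨b, hb⟩, hb1⟩ := (Subgroup.ne_bot_iff_exists_ne_one (H := A)).1 hA
    have := Fact.mk ht
    have h1 : orderOf b = t := orderOf_eq_prime (hAt b hb) fun h => hb1 (Subtype.ext h)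
    rw [← hcard, ← h1, ← Subgroup.orderOf_coe]
    exact orderOf_dvd_natCard _
  have ht37 : t = 3 ∨ t = 7 := by
    rcases (ht.dvd_mul).1 htd with h | h
    · rcases (ht.dvd_mul).1 h with h | h
      · rcases (ht.dvd_mul).1 h with h | h
        · exact absurd ((Nat.prime_dvd_prime_iff_eq ht Nat.prime_two).1 (ht.dvd_of_dvd_pow h)) ht2
        · exact Or.inl ((Nat.prime_dvd_prime_iff_eq ht Nat.prime_three).1 (ht.dvd_of_dvd_pow h))
      · exact Or.inr ((Nat.prime_dvd_prime_iff_eq ht (by norm_num)).1 (ht.dvd_of_dvd_pow h))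
    · exact absurd ((Nat.prime_dvd_prime_iff_eq ht (by norm_num)).1 h) ht13
  rcases ht37 with rfl | rfl
  · -- `t = 3`
    have := Fact.mk Nat.prime_three
    obtain ⟨k, hk⟩ := htt.exists_card_eq
    have h1 := hmod A hAn 3 (by norm_num) (by norm_num) htt
    have h2 := hle A
    rw [hk] at h1 h2
    have h3 : k ≤ 4 := by
      by_contra h
      have h4 : 3 ^ 5 ∣ 2 ^ 12 * 3 ^ 4 * 7 ^ 2 * 13 := (pow_dvd_pow 3 (by omega)).trans h2
      revert h4; norm_num
    have hk3 : k = 3 := by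
      have h9 : k ≠ 0 := by
        rintro rfl
        exact hA (Subgroup.card_eq_one.1 (by rw [hk, pow_zero]))
      interval_cases k
      · exact absurd rfl h9
      · exact absurd h1 (by decide)
      · exact absurd h1 (by decide)
      · rfl
      · exact absurd h1 (by decide)
    subst hk3
    obtain ⟨y, hy⟩ := hM.exists_elt (r := 7) (by norm_num) (by rw [hcard]; norm_num)
    have h10 := card_modEq_cent (A := A) (by norm_num : Nat.Prime 7) hy
    have h13 : Nat.card ↥(A ⊓ Subgroup.centralizer ({y} : Set ↥M)) ∣ 3 ^ 3 := by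
      rw [← hk]; exact Subgroup.card_dvd_of_le inf_le_left
    obtain ⟨j, hj, hj2⟩ := (Nat.dvd_prime_pow Nat.prime_three).1 h13
    have hj3 : j = 3 := by
      rw [hk, hj2] at h10
      interval_cases j
      · exact absurd h10 (by decide)
      · exact absurd h10 (by decide)
      · exact absurd h10 (by decide)
      · rfl
    subst hj3
    have h14 : A ⊓ Subgroup.centralizer ({y} : Set ↥M) = A := by
      apply Subgroup.eq_of_le_of_card_ge inf_le_left
      rw [hj2, hk]
    have h15 : y ∈ Subgroup.centralizer (A : Set ↥M) := by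
      rw [Subgroup.mem_centralizer_iff]
      intro b hb
      have h16 : b ∈ A ⊓ Subgroup.centralizer ({y} : Set ↥M) := by rw [h14]; exact hb
      exact Subgroup.mem_centralizer_singleton_iff.1 h16.2
    have h17 : 7 ∣ Nat.card ↥(Subgroup.centralizer (A : Set ↥M)) := by
      have h18 := orderOf_dvd_natCard (⟨y, h15⟩ : ↥(Subgroup.centralizer (A : Set ↥M)))
      rwa [Subgroup.orderOf_mk, hy] at h18
    refine not_dvd_of_core (A := A) (P := fun s => s ∣ 13) hA ?_ ?_ (x := x) (by rw [hx]; norm_num)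
      (by show orderOf x ∣ 13; rw [hx]) (by norm_num : Nat.Prime 7) hseven h17
    · intro z hz hz13 b hb hzb
      have hz' : orderOf z = 13 := (Nat.prime_dvd_prime_iff_eq hz (by norm_num)).1 hz13
      have h1 := D.free (x := z) (by rw [hz']; norm_num) (by rw [hz', e13]) (y := b) hzb
      have h2 := orderOf_dvd_of_pow_eq_one (hAt b hb)
      rw [e13] at h1
      have h3 : orderOf b ∣ 1 := Nat.dvd_gcd h1 h2
      exact orderOf_eq_one_iff.1 (Nat.dvd_one.1 h3)
    · intro z b hz hz13 hzb _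
      have hz' : orderOf z = 13 := (Nat.prime_dvd_prime_iff_eq hz (by norm_num)).1 hz13
      have h1 := D.free (x := z) (by rw [hz']; norm_num) (by rw [hz', e13]) (y := b) hzb
      rwa [e13] at h1
  · exact hA (hseven A hAn htt)

/-- **The solvable radical of a full subgroup is trivial.** -/
theorem DatD4.rad (D : DatD4 T p a) {M : Subgroup T} (hM : Full M) {F : Type*} [Field F] [CharP F p] {ι : Type*}
    [Fintype ι] [DecidableEq ι] (hι : Fintype.card ι = 28) {τ : T →* Matrix.GeneralLinearGroup ι F}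
    (hτ : Function.Injective τ) (S : Subgroup ↥M) (hS : S.Normal) (hs : Group.IsSolvable S) : S = ⊥ := by
  have hpF : Fact p.Prime := ⟨D.hp⟩
  have hq2 : 2 ≤ p ^ a := D.hp.two_le.trans (Nat.le_self_pow D.ha.ne' p)
  by_contra hne
  obtain ⟨t, ht, htp, A, hAn, hA, hAc, hAt, x, hxA, hx⟩ := exists_el (D.core hM) hS hs hne
  by_cases h12 : t ∣ N12 (p ^ a)
  · obtain ⟨s, hs, hs3, hsN⟩ := exists_N3 (q := p ^ a) hq2
    have h0 : orderOf (x : T) = t := by rw [Subgroup.orderOf_coe, hx]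
    obtain ⟨h1, h2⟩ := D.t12 (x : T) (by rw [h0]; exact ht) (by rw [h0]; exact ht.ne_zero) (by rw [h0]; exact h12)
    have h13 := thirteen_le ht h12
    have h3 := norm_case hAc hxA (by rw [hx]; exact ht) (by rw [hx]; exact hAt) h1 h2
      (K := (p ^ a) ^ 12 * (N3 (p ^ a) * N6 (p ^ a)) * ((p ^ a) ^ 6 - 1) * ((p ^ a) ^ 2 - 1))
      (by rw [D.card, d4_card]) (m := 4) (by rw [hx]; exact d4_mod (by omega) ht h12) (by norm_num) (by rw [hx]; omega)
    have h4 : s ∣ N12 (p ^ a) * 4 := (hM s hs (hsN.trans D.dvd3)).trans h3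
    rcases hs.dvd_mul.1 h4 with h5 | h5
    · have := od_N3 hs hsN hs3
      have := od_N12 hs h5
      omega
    · have h6 : s ∣ 2 := hs.dvd_of_dvd_pow (n := 2) (by simpa using h5)
      have := Nat.le_of_dvd (by norm_num) h6
      have := seven_le hs hs3 (Or.inl hsN)
      omega
  · obtain ⟨s, hs, hsN⟩ := exists_N12 (q := p ^ a) hq2
    obtain ⟨y, hy⟩ := hM.exists_elt hs (hsN.trans D.dvd12)
    obtain ⟨W, hW0, hW, hpW, h1, -, -⟩ := le_of_free (τ := τ.comp M.subtype) (p := p)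
      (P := fun s => s ∣ N12 (p ^ a)) (A := A)
      (hτ.comp M.subtype_injective) (D.core hM) (hM p D.hp D.dvdp) hAc (not_dvd_card ht hAt D.hp (Ne.symm htp)) hA
      (by
        intro z hz hzN b hb hzb
        have h1 := D.free (x := z) hz hzN (y := b) hzb
        by_contra hb1
        have := Fact.mk ht
        have h2 : orderOf b = t := orderOf_eq_prime (hAt b hb) hb1
        exact h12 (h2 ▸ h1))
      (fun z b hz hzN hzb _ => D.free hz hzN hzb)
      (x := y) (by rw [hy]; exact hs) (by show orderOf y ∣ N12 (p ^ a); rw [hy]; exact hsN)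
    rw [hι] at hW
    obtain ⟨rfl, rfl⟩ := case3 D.hp D.ha (hpW.trans hW) (by
      intro r hr hrN
      obtain ⟨z, hz⟩ := hM.exists_elt hr (hrN.trans D.dvd12)
      have := h1 z (by rw [hz]; exact hr) (by show orderOf z ∣ N12 (p ^ a); rw [hz]; exact hrN)
      rw [hz] at this
      exact (Nat.le_of_dvd hW0 this).trans hW)
    exact D.two hM hA ht htp (by rintro rfl; exact h12 (by decide)) hAc hAt

end Cfsg.Agent.H946.Rad
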