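import Cfsg.Agent.H436.Ppd

/-!
# The prime divisors of the cyclotomic values `Φ₃, Φ₆, Φ₈, Φ₁₂` (helper946)
-/

set_option autoImplicit false

namespace Cfsg.Agent.H946.Num

open Cfsg.Agent.H436

/-- natural number forms -/
def N3 (q : ℕ) : ℕ := q ^ 2 + q + 1
def N6 (q : ℕ) : ℕ := q ^ 2 - q + 1
def N8 (q : ℕ) : ℕ := q ^ 4 + 1
def N12 (q : ℕ) : ℕ := q ^ 4 - q ^ 2 + 1

theorem le_sq {q : ℕ} : q ≤ q ^ 2 := Nat.le_self_pow (by norm_num) q
theorem sq_le_four {q : ℕ} : q ^ 2 ≤ q ^ 4 := by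
  rcases Nat.eq_zero_or_pos q with rfl | h
  · norm_num
  · exact Nat.pow_le_pow_right h (by norm_num)

theorem cast_N6 (q : ℕ) : ((N6 q : ℕ) : ℤ) = (q : ℤ) ^ 2 - q + 1 := by
  unfold N6
  rw [Nat.cast_add, Nat.cast_sub le_sq]; push_cast; ring
theorem cast_N12 (q : ℕ) : ((N12 q : ℕ) : ℤ) = (q : ℤ) ^ 4 - (q : ℤ) ^ 2 + 1 := by
  unfold N12
  rw [Nat.cast_add, Nat.cast_sub sq_le_four]; push_cast; ring

section

variable {q s : ℕ} (hs : s.Prime)
include hs

theorem zm_N3 (h : s ∣ N3 q) : (q : ZMod s) ^ 2 + q + 1 = 0 := by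
  have := (ZMod.natCast_eq_zero_iff (N3 q) s).2 h
  unfold N3 at this
  push_cast at this
  exact this

theorem zm_N6 (h : s ∣ N6 q) : (q : ZMod s) ^ 2 - q + 1 = 0 := by
  have h1 : ((N6 q : ℕ) : ZMod s) = 0 := (ZMod.natCast_eq_zero_iff (N6 q) s).2 h
  unfold N6 at h1
  rw [Nat.cast_add, Nat.cast_sub le_sq] at h1
  push_cast at h1
  exact h1

theorem zm_N8 (h : s ∣ N8 q) : (q : ZMod s) ^ 4 + 1 = 0 := by
  have := (ZMod.natCast_eq_zero_iff (N8 q) s).2 h
  unfold N8 at this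
  push_cast at this
  exact this

theorem zm_N12 (h : s ∣ N12 q) : (q : ZMod s) ^ 4 - (q : ZMod s) ^ 2 + 1 = 0 := by
  have h1 : ((N12 q : ℕ) : ZMod s) = 0 := (ZMod.natCast_eq_zero_iff (N12 q) s).2 h
  unfold N12 at h1
  rw [Nat.cast_add, Nat.cast_sub sq_le_four] at h1
  push_cast at h1
  exact h1

theorem small_ne {n : ℕ} (hn : n.Prime) (h : ((n : ℕ) : ZMod s) = 0) : s = n := by
  have h1 := (ZMod.natCast_eq_zero_iff n s).1 h
  exact (Nat.prime_dvd_prime_iff_eq hs hn).1 h1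

theorem od_N3 (h : s ∣ N3 q) (h3 : s ≠ 3) : orderOf ((q : ℕ) : ZMod s) = 3 := by
  have := Fact.mk hs
  have h0 := zm_N3 hs h
  have h1 : (q : ZMod s) ^ 3 = 1 := by linear_combination ((q : ZMod s) - 1) * h0
  refine orderOf_eq_prime h1 ?_
  intro h2
  rw [h2] at h0
  apply h3
  refine small_ne hs Nat.prime_three ?_
  push_cast
  linear_combination h0

theorem od_N6 (h : s ∣ N6 q) (h3 : s ≠ 3) : orderOf ((q : ℕ) : ZMod s) = 6 := by
  have := Fact.mk hs
  have h0 := zm_N6 hs h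
  have h1 : (q : ZMod s) ^ 3 = -1 := by linear_combination ((q : ZMod s) + 1) * h0
  have h6 : (q : ZMod s) ^ 6 = 1 := by
    have : (q : ZMod s) ^ 6 = ((q : ZMod s) ^ 3) ^ 2 := by ring
    rw [this, h1]; ring
  have h2 : s ≠ 2 := by
    rintro rfl
    generalize (q : ZMod 2) = x at h0
    revert h0; revert x; decide
  refine orderOf_eq_of_pow_and_pow_div_prime (by norm_num) h6 ?_
  intro ℓ hℓ hd
  have h5 : ℓ = 2 ∨ ℓ = 3 := by
    have h7 : ℓ ∣ 2 * 3 := hd
    rcases hℓ.dvd_mul.1 h7 with h | h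
    · exact Or.inl ((Nat.prime_dvd_prime_iff_eq hℓ Nat.prime_two).1 h)
    · exact Or.inr ((Nat.prime_dvd_prime_iff_eq hℓ Nat.prime_three).1 h)
  rcases h5 with rfl | rfl
  · intro h8
    norm_num at h8
    rw [h1] at h8
    apply h2
    refine small_ne hs Nat.prime_two ?_
    push_cast
    linear_combination -h8
  · intro h8
    replace h8 : ((q : ℕ) : ZMod s) ^ 2 = 1 := h8
    have h9 : (q : ZMod s) = 2 := by linear_combination h8 - h0
    rw [h9] at h8
    apply h3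
    refine small_ne hs Nat.prime_three ?_
    push_cast
    linear_combination h8

theorem od_N8 (h : s ∣ N8 q) (h2 : s ≠ 2) : orderOf ((q : ℕ) : ZMod s) = 8 := by
  have := Fact.mk hs
  have h0 := zm_N8 hs h
  have h4 : (q : ZMod s) ^ 4 = -1 := by linear_combination h0
  have h8 : (q : ZMod s) ^ 8 = 1 := by
    have : (q : ZMod s) ^ 8 = ((q : ZMod s) ^ 4) ^ 2 := by ring
    rw [this, h4]; ring
  refine orderOf_eq_of_pow_and_pow_div_prime (by norm_num) h8 ?_
  intro ℓ hℓ hd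
  have h5 : ℓ = 2 := by
    have h7 : ℓ ∣ 2 ^ 3 := hd
    exact (Nat.prime_dvd_prime_iff_eq hℓ Nat.prime_two).1 (hℓ.dvd_of_dvd_pow h7)
  subst h5
  intro h9
  norm_num at h9
  rw [h4] at h9
  apply h2
  refine small_ne hs Nat.prime_two ?_
  push_cast
  linear_combination -h9

theorem od_N12 (h : s ∣ N12 q) : orderOf ((q : ℕ) : ZMod s) = 12 := by
  have := Fact.mk hs
  have h0 := zm_N12 hs h
  have h2 : s ≠ 2 := by
    rintro rfl
    generalize (q : ZMod 2) = x at h0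
    revert h0; revert x; decide
  have h3 : s ≠ 3 := by
    rintro rfl
    generalize (q : ZMod 3) = x at h0
    revert h0; revert x; decide
  have h6 : (q : ZMod s) ^ 6 = -1 := by linear_combination ((q : ZMod s) ^ 2 + 1) * h0
  have h12 : (q : ZMod s) ^ 12 = 1 := by
    have : (q : ZMod s) ^ 12 = ((q : ZMod s) ^ 6) ^ 2 := by ring
    rw [this, h6]; ring
  refine orderOf_eq_of_pow_and_pow_div_prime (by norm_num) h12 ?_
  intro ℓ hℓ hd
  have h5 : ℓ = 2 ∨ ℓ = 3 := by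
    have h7 : ℓ ∣ 2 ^ 2 * 3 := hd
    rcases hℓ.dvd_mul.1 h7 with h | h
    · exact Or.inl ((Nat.prime_dvd_prime_iff_eq hℓ Nat.prime_two).1 (hℓ.dvd_of_dvd_pow h))
    · exact Or.inr ((Nat.prime_dvd_prime_iff_eq hℓ Nat.prime_three).1 h)
  rcases h5 with rfl | rfl
  · intro h8
    norm_num at h8
    rw [h6] at h8
    apply h2
    refine small_ne hs Nat.prime_two ?_
    push_cast
    linear_combination -h8
  · intro h8
    norm_num at h8
    have h9 : (q : ZMod s) ^ 2 = 2 := by linear_combination h8 - h0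
    have h10 : (q : ZMod s) ^ 4 = ((q : ZMod s) ^ 2) ^ 2 := by ring
    rw [h10, h9] at h8
    apply h3
    refine small_ne hs Nat.prime_three ?_
    push_cast
    linear_combination h8

theorem ne_zero_of_order {m : ℕ} (hm : 0 < m) (h : orderOf ((q : ℕ) : ZMod s) = m) : ((q : ℕ) : ZMod s) ≠ 0 := by
  have := Fact.mk hs
  intro h0
  rw [h0, orderOf_zero] at h
  omega

/-- primitive primes and orders -/
theorem prim_of_order {m : ℕ} (hq : 1 ≤ q) (hm : 0 < m) (h : orderOf ((q : ℕ) : ZMod s) = m) : Prim q m s := by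
  have h0 := ne_zero_of_order hs hm h
  refine ⟨hs, fun n => ?_, fun hd => h0 ((ZMod.natCast_eq_zero_iff q s).2 hd)⟩
  rw [← h, orderOf_dvd_iff_pow_eq_one, ← ZMod.natCast_eq_zero_iff, Nat.cast_sub (Nat.one_le_pow _ _ hq)]
  push_cast
  rw [sub_eq_zero]

theorem mod_of_order {m : ℕ} (hm : 0 < m) (h : orderOf ((q : ℕ) : ZMod s) = m) : m ∣ s - 1 := by
  have := Fact.mk hs
  rw [← h]
  exact orderOf_dvd_of_pow_eq_one (ZMod.pow_card_sub_one_eq_one (ne_zero_of_order hs hm h))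

end

theorem order_of_prim {q m s : ℕ} (hq : 1 ≤ q) (h : Prim q m s) : orderOf ((q : ℕ) : ZMod s) = m := by
  apply Nat.dvd_antisymm
  · rw [orderOf_dvd_iff_pow_eq_one]
    have h1 := h.dvd dvd_rfl
    rw [← ZMod.natCast_eq_zero_iff, Nat.cast_sub (Nat.one_le_pow _ _ hq)] at h1
    push_cast at h1
    exact sub_eq_zero.1 h1
  · rw [← h.dvd_iff, ← ZMod.natCast_eq_zero_iff, Nat.cast_sub (Nat.one_le_pow _ _ hq)]
    push_cast
    rw [pow_orderOf_eq_one, sub_self]

/-- `q` of order `m` modulo `s` -/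
theorem root_of_order {q m s : ℕ} (hs : s.Prime) (hq : 1 ≤ q) (h : orderOf ((q : ℕ) : ZMod s) = m) :
    (m = 3 → s ∣ N3 q) ∧ (m = 6 → s ∣ N6 q) ∧ (m = 8 → s ∣ N8 q) ∧ (m = 12 → s ∣ N12 q) := by
  have := Fact.mk hs
  refine ⟨?_, ?_, ?_, ?_⟩
  · rintro rfl
    have h1 : ((q : ℕ) : ZMod s) ^ 3 = 1 := by rw [← h, pow_orderOf_eq_one]
    have h2 : ((q : ℕ) : ZMod s) ≠ 1 := by
      intro h3; rw [h3, orderOf_one] at h; omega
    have h3 : (((q : ℕ) : ZMod s) - 1) * ((q : ZMod s) ^ 2 + q + 1) = 0 := by linear_combination h1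
    rw [← ZMod.natCast_eq_zero_iff]
    unfold N3
    push_cast
    exact (mul_eq_zero.1 h3).resolve_left (sub_ne_zero.2 h2)
  · rintro rfl
    have h1 : ((q : ℕ) : ZMod s) ^ 6 = 1 := by rw [← h, pow_orderOf_eq_one]
    have h2 : ((q : ℕ) : ZMod s) ^ 3 ≠ 1 := by
      intro h3
      have := orderOf_dvd_of_pow_eq_one h3
      rw [h] at this; revert this; decide
    have h2' : ((q : ℕ) : ZMod s) ^ 2 ≠ 1 := by
      intro h3
      have := orderOf_dvd_of_pow_eq_one h3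
      rw [h] at this; revert this; decide
    have h3 : (((q : ℕ) : ZMod s) ^ 3 - 1) * (((q : ℕ) : ZMod s) ^ 3 + 1) = 0 := by linear_combination h1
    have h4 := (mul_eq_zero.1 h3).resolve_left (sub_ne_zero.2 h2)
    have h5 : (((q : ℕ) : ZMod s) + 1) * ((q : ZMod s) ^ 2 - q + 1) = 0 := by linear_combination h4
    have h6 : ((q : ℕ) : ZMod s) + 1 ≠ 0 := by
      intro h7
      apply h2'
      have h8 : ((q : ℕ) : ZMod s) = -1 := by linear_combination h7
      rw [h8]; ring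
    rw [← ZMod.natCast_eq_zero_iff]
    unfold N6
    rw [Nat.cast_add, Nat.cast_sub le_sq]
    push_cast
    exact (mul_eq_zero.1 h5).resolve_left h6
  · rintro rfl
    have h1 : ((q : ℕ) : ZMod s) ^ 8 = 1 := by rw [← h, pow_orderOf_eq_one]
    have h2 : ((q : ℕ) : ZMod s) ^ 4 ≠ 1 := by
      intro h3
      have := orderOf_dvd_of_pow_eq_one h3
      rw [h] at this; revert this; decide
    have h3 : (((q : ℕ) : ZMod s) ^ 4 - 1) * (((q : ℕ) : ZMod s) ^ 4 + 1) = 0 := by linear_combination h1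
    rw [← ZMod.natCast_eq_zero_iff]
    unfold N8
    push_cast
    exact (mul_eq_zero.1 h3).resolve_left (sub_ne_zero.2 h2)
  · rintro rfl
    have h1 : ((q : ℕ) : ZMod s) ^ 12 = 1 := by rw [← h, pow_orderOf_eq_one]
    have h2 : ((q : ℕ) : ZMod s) ^ 6 ≠ 1 := by
      intro h3
      have := orderOf_dvd_of_pow_eq_one h3
      rw [h] at this; revert this; decide
    have h2' : ((q : ℕ) : ZMod s) ^ 4 ≠ 1 := by
      intro h3
      have := orderOf_dvd_of_pow_eq_one h3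
      rw [h] at this; revert this; decide
    have h3 : (((q : ℕ) : ZMod s) ^ 6 - 1) * (((q : ℕ) : ZMod s) ^ 6 + 1) = 0 := by linear_combination h1
    have h4 := (mul_eq_zero.1 h3).resolve_left (sub_ne_zero.2 h2)
    have h5 : (((q : ℕ) : ZMod s) ^ 2 + 1) * ((q : ZMod s) ^ 4 - (q : ZMod s) ^ 2 + 1) = 0 := by linear_combination h4
    have h6 : ((q : ℕ) : ZMod s) ^ 2 + 1 ≠ 0 := by
      intro h7
      apply h2'
      have h8 : ((q : ℕ) : ZMod s) ^ 2 = -1 := by linear_combination h7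
      have h9 : ((q : ℕ) : ZMod s) ^ 4 = (((q : ℕ) : ZMod s) ^ 2) ^ 2 := by ring
      rw [h9, h8]; ring
    rw [← ZMod.natCast_eq_zero_iff]
    unfold N12
    rw [Nat.cast_add, Nat.cast_sub sq_le_four]
    push_cast
    exact (mul_eq_zero.1 h5).resolve_left h6

end Cfsg.Agent.H946.Num
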