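import Cfsg.Agent.H425.ChrK

/-!
# Subgroups of exceptional groups of the same characteristic: the classes of primes (helper946)

`Kc g d`: the classes `d ≥ 1` (the orders modulo `w` of the field parameter) of the large primes `w` of the order.
-/

set_option autoImplicit false

namespace Cfsg.Agent.H946.Exc

open Cfsg Cfsg.Agent.OrdDiv Cfsg.Agent.H436 Cfsg.Agent.H425.PartP Cfsg.Agent.H425.Chr

/-- the exponent of the characteristic -/
def ex : Grp → ℕ
  | .psl n _ => n * (n - 1) / 2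
  | .psp m _ => m ^ 2
  | .psu n _ => n * (n - 1) / 2
  | .oodd m _ => m ^ 2
  | .oplus m _ => m * (m - 1)
  | .ominus m _ => m * (m - 1)
  | .g2 _ => 6
  | .f4 _ => 24
  | .e6 _ => 36
  | .e7 _ => 63
  | .e8 _ => 120
  | .te6 _ => 36
  | .td4 _ => 12
  | .sz _ => 2
  | .ree _ => 3
  | .tf4 _ => 12
  | _ => 0

/-- is it a Suzuki group? -/
def isSz : Grp → Prop
  | .sz _ => True
  | _ => False

/-- all classes -/
def Kc (g : Grp) (d : ℕ) : Prop := (3 ≤ d ∧ K g d) ∨ (1 ≤ d ∧ d ≤ 2 ∧ (d = 2 → ¬ isSz g))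

/-- the data of a simple group of Lie type with the name `g` of order `c` over `p ^ f` -/
structure Dt (p f c : ℕ) (g : Grp) : Prop where
  hp : p.Prime
  hf : f ≠ 0
  hc : c ≠ 0
  cond : Cond g
  hq : qOf g = p ^ f
  eq : den g * c = num g

variable {p f c : ℕ} {g : Grp}

theorem Dt.two_le (H : Dt p f c g) : 2 ≤ p ^ f :=
  H.hp.two_le.trans (Nat.le_self_pow H.hf p)

theorem Dt.fac (H : Dt p f c g) : c.factorization p = f * ex g := by
  obtain ⟨hp, hf, hc, cond, hq, eq⟩ := H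
  cases g with
  | psl n q => obtain rfl : q = p ^ f := hq; exact v_psl hp hf eq hc
  | psp m q => obtain rfl : q = p ^ f := hq; exact v_psp hp hf eq hc
  | psu n q => obtain rfl : q = p ^ f := hq; exact v_psu hp hf eq hc
  | oodd m q =>
    obtain rfl : q = p ^ f := hq
    have h2 : p ≠ 2 := by
      rintro rfl
      have h3 : Odd (2 ^ f) := cond.2.1
      have h4 : Even (2 ^ f) := (Nat.even_pow.2 ⟨even_two, hf⟩)
      exact (Nat.not_even_iff_odd.2 h3) h4
    exact v_oodd hp hf h2 eq hc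
  | oplus m q => obtain rfl : q = p ^ f := hq; exact v_oplus hp hf (by have := cond.1; omega) eq hc
  | ominus m q => obtain rfl : q = p ^ f := hq; exact v_ominus hp hf (by have := cond.1; omega) eq hc
  | g2 q => obtain rfl : q = p ^ f := hq; exact v_g2 hp hf eq hc
  | f4 q => obtain rfl : q = p ^ f := hq; exact v_f4 hp hf eq hc
  | e6 q => obtain rfl : q = p ^ f := hq; exact v_e6 hp hf eq hc
  | e7 q => obtain rfl : q = p ^ f := hq; exact v_e7 hp hf eq hc
  | e8 q => obtain rfl : q = p ^ f := hq; exact v_e8 hp hf eq hc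
  | te6 q => obtain rfl : q = p ^ f := hq; exact v_te6 hp hf eq hc
  | td4 q => obtain rfl : q = p ^ f := hq; exact v_td4 hp hf eq hc
  | sz q => obtain rfl : q = p ^ f := hq; exact v_sz hp hf eq hc
  | ree q => obtain rfl : q = p ^ f := hq; exact v_ree hp hf eq hc
  | tf4 q => obtain rfl : q = p ^ f := hq; exact v_tf4 hp hf eq hc
  | _ => exfalso; have h1 : 0 = p ^ f := hq; exact (pow_pos hp.pos f).ne h1

/-- `q (q² - 1)` divides the order, up to the factor `gcd (2, q - 1)` for `PSL₂(q)` -/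
theorem Dt.mq (H : Dt p f c g) (hs : ¬ isSz g) : p ^ f * ((p ^ f) ^ 2 - 1) ∣ 2 * c := by
  obtain ⟨hp, hf, hc, cond, hq, eq⟩ := H
  have h2 : 2 ≤ p ^ f := hp.two_le.trans (Nat.le_self_pow hf p)
  cases g with
  | psl n q =>
    obtain rfl : q = p ^ f := hq
    by_cases h3 : 3 ≤ n
    · exact (psl_mq h3 h2 eq).mul_left 2
    · have h4 : n = 2 := by have := cond.1; omega
      subst h4
      have h5 : Nat.gcd 2 (p ^ f - 1) * (p ^ f - 1) * c =
        ((List.range 2).map fun i => (p ^ f) ^ 2 - (p ^ f) ^ i).prod := eq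
      have h6 : ((List.range 2).map fun i => (p ^ f) ^ 2 - (p ^ f) ^ i).prod =
          (p ^ f - 1) * (p ^ f * ((p ^ f) ^ 2 - 1)) := by
        have h7 : (p ^ f) ^ 2 - p ^ f = p ^ f * (p ^ f - 1) := by
          rw [Nat.mul_sub, mul_one, sq]
        simp only [List.range_succ, List.range_zero, List.nil_append, List.map_append, List.map_cons, List.map_nil,
          List.prod_append, List.prod_cons, List.prod_nil, pow_zero, pow_one, mul_one, one_mul, List.cons_append]
        rw [h7]; ring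
      rw [h6, mul_comm (Nat.gcd 2 (p ^ f - 1)), mul_assoc] at h5
      have h8 := Nat.eq_of_mul_eq_mul_left (show 0 < p ^ f - 1 by omega) h5
      rw [← h8]
      exact Nat.mul_dvd_mul_right (Nat.gcd_dvd_left _ _) c
  | psp m q => obtain rfl : q = p ^ f := hq; exact (psp_mq cond.1 eq).mul_left 2
  | psu n q => obtain rfl : q = p ^ f := hq; exact (psu_mq cond.1 eq).mul_left 2
  | oodd m q => obtain rfl : q = p ^ f := hq; exact (oodd_mq (by have := cond.1; omega) cond.2.1 eq).mul_left 2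
  | oplus m q => obtain rfl : q = p ^ f := hq; exact (oplus_mq cond.1 eq).mul_left 2
  | ominus m q => obtain rfl : q = p ^ f := hq; exact (ominus_mq cond.1 eq).mul_left 2
  | g2 q =>
    obtain rfl : q = p ^ f := hq
    have h1 : 1 * c = (p ^ f) ^ 6 * (((p ^ f) ^ 2 - 1) * ((p ^ f) ^ 6 - 1)) := eq
    rw [one_mul] at h1
    rw [h1]
    exact (Nat.mul_dvd_mul (dvd_pow_self _ (by norm_num)) (Dvd.intro _ rfl)).mul_left 2
  | f4 q =>
    obtain rfl : q = p ^ f := hq
    have h1 : 1 * c = (p ^ f) ^ 24 * (((p ^ f) ^ 2 - 1) * ((p ^ f) ^ 6 - 1) * ((p ^ f) ^ 8 - 1) * ((p ^ f) ^ 12 - 1)) :=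
      eq
    rw [one_mul] at h1
    rw [h1]
    exact (Nat.mul_dvd_mul (dvd_pow_self _ (by norm_num)) (by simp only [mul_assoc]; exact Dvd.intro _ rfl)).mul_left 2
  | e6 q =>
    obtain rfl : q = p ^ f := hq
    have h1 : Nat.gcd 3 (p ^ f - 1) * c = (p ^ f) ^ 36 * (((p ^ f) ^ 2 - 1) * ((p ^ f) ^ 5 - 1) * ((p ^ f) ^ 6 - 1) *
      ((p ^ f) ^ 8 - 1) * ((p ^ f) ^ 9 - 1) * ((p ^ f) ^ 12 - 1)) := eq
    refine (mq_dvd (B := (p ^ f) ^ 5 - 1) h1 (Nat.gcd_pos_of_pos_left _ (by norm_num))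
      (dvd_pow_self _ (by norm_num)) ?_ ?_).mul_left 2
    · simp only [mul_assoc]
      exact Nat.mul_dvd_mul_left _ (Dvd.intro _ rfl)
    · exact (Nat.gcd_dvd_right _ _).trans (sub_dvd_pow_sub _ _)
  | e7 q =>
    obtain rfl : q = p ^ f := hq
    have h1 : Nat.gcd 2 (p ^ f - 1) * c = (p ^ f) ^ 63 * (((p ^ f) ^ 2 - 1) * ((p ^ f) ^ 6 - 1) * ((p ^ f) ^ 8 - 1) *
      ((p ^ f) ^ 10 - 1) * ((p ^ f) ^ 12 - 1) * ((p ^ f) ^ 14 - 1) * ((p ^ f) ^ 18 - 1)) := eq
    refine (mq_dvd (B := (p ^ f) ^ 6 - 1) h1 (Nat.gcd_pos_of_pos_left _ (by norm_num))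
      (dvd_pow_self _ (by norm_num)) ?_ ?_).mul_left 2
    · simp only [mul_assoc]
      exact Nat.mul_dvd_mul_left _ (Dvd.intro _ rfl)
    · exact (Nat.gcd_dvd_right _ _).trans (sub_dvd_pow_sub _ _)
  | e8 q =>
    obtain rfl : q = p ^ f := hq
    have h1 : 1 * c = (p ^ f) ^ 120 * (((p ^ f) ^ 2 - 1) * ((p ^ f) ^ 8 - 1) * ((p ^ f) ^ 12 - 1) *
      ((p ^ f) ^ 14 - 1) * ((p ^ f) ^ 18 - 1) * ((p ^ f) ^ 20 - 1) * ((p ^ f) ^ 24 - 1) * ((p ^ f) ^ 30 - 1)) := eq
    rw [one_mul] at h1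
    rw [h1]
    exact (Nat.mul_dvd_mul (dvd_pow_self _ (by norm_num)) (by simp only [mul_assoc]; exact Dvd.intro _ rfl)).mul_left 2
  | te6 q =>
    obtain rfl : q = p ^ f := hq
    have h1 : Nat.gcd 3 (p ^ f + 1) * c = (p ^ f) ^ 36 * (((p ^ f) ^ 2 - 1) * ((p ^ f) ^ 5 + 1) * ((p ^ f) ^ 6 - 1) *
      ((p ^ f) ^ 8 - 1) * ((p ^ f) ^ 9 + 1) * ((p ^ f) ^ 12 - 1)) := eq
    refine (mq_dvd (B := (p ^ f) ^ 5 + 1) h1 (Nat.gcd_pos_of_pos_left _ (by norm_num))
      (dvd_pow_self _ (by norm_num)) ?_ ?_).mul_left 2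
    · simp only [mul_assoc]
      exact Nat.mul_dvd_mul_left _ (Dvd.intro _ rfl)
    · exact (Nat.gcd_dvd_right _ _).trans (add_dvd_pow_add _ (by decide))
  | td4 q =>
    obtain rfl : q = p ^ f := hq
    have h1 : 1 * c = (p ^ f) ^ 12 * (((p ^ f) ^ 2 - 1) * ((p ^ f) ^ 6 - 1) * ((p ^ f) ^ 8 + (p ^ f) ^ 4 + 1)) := eq
    rw [one_mul] at h1
    rw [h1]
    exact (Nat.mul_dvd_mul (dvd_pow_self _ (by norm_num)) (by simp only [mul_assoc]; exact Dvd.intro _ rfl)).mul_left 2
  | sz q => exact absurd trivial hs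
  | ree q =>
    obtain rfl : q = p ^ f := hq
    have h1 : 1 * c = (p ^ f) ^ 3 * ((p ^ f - 1) * ((p ^ f) ^ 3 + 1)) := eq
    rw [one_mul] at h1
    rw [h1, sq_sub, mul_comm (p ^ f + 1)]
    exact (Nat.mul_dvd_mul (dvd_pow_self _ (by norm_num))
      (Nat.mul_dvd_mul_left _ (add_dvd_pow_add _ (by decide)))).mul_left 2
  | tf4 q =>
    obtain rfl : q = p ^ f := hq
    have h1 : 1 * c = (p ^ f) ^ 12 * ((p ^ f - 1) * ((p ^ f) ^ 3 + 1) * ((p ^ f) ^ 4 - 1) * ((p ^ f) ^ 6 + 1)) := eq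
    rw [one_mul] at h1
    rw [h1, sq_sub, mul_comm (p ^ f + 1), mul_assoc, mul_assoc (p ^ f - 1)]
    refine (Nat.mul_dvd_mul (dvd_pow_self _ (by norm_num)) ?_).mul_left 2
    refine Nat.mul_dvd_mul_left _ ?_
    exact (add_dvd_pow_add _ (by decide)).mul_right _
  | _ => exfalso; have h1 : 0 = p ^ f := hq; exact (pow_pos hp.pos f).ne h1

theorem quot_le {e f : ℕ} (he : e ≠ 0) : 1 ≤ e / Nat.gcd e f :=
  Nat.div_pos (Nat.le_of_dvd (Nat.pos_of_ne_zero he) (Nat.gcd_dvd_left _ _))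
    (Nat.gcd_pos_of_pos_left _ (Nat.pos_of_ne_zero he))

/-- **The large primes of the order.** -/
theorem Dt.dvd_iff (H : Dt p f c g) {e w : ℕ} (he : 3 ≤ e) (hw : Prim p e w) : w ∣ c ↔ Kc g (e / Nat.gcd e f) := by
  have hw' := prim_quot H.hf hw
  have h1 := quot_le (e := e) (f := f) (by omega)
  have h2 := H.two_le
  set d := e / Nat.gcd e f with hd
  by_cases h3 : 3 ≤ d
  · rw [Cfsg.Agent.H425.Chr.dvd_iff h2 h3 hw' H.hq H.eq]
    constructor
    · intro h; exact Or.inl ⟨h3, h⟩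
    · rintro (h | h)
      · exact h.2
      · omega
  · have hodd : ¬ w ∣ 2 := by
      intro h
      have h4 := Nat.le_of_dvd (by norm_num) h
      have h5 := hw.odd (by omega)
      have h6 := hw.prime.two_le
      omega
    by_cases hs : isSz g
    · cases g with
      | sz q =>
        obtain rfl : q = p ^ f := H.hq
        have h4 : 1 * c = (p ^ f) ^ 2 * ((p ^ f - 1) * ((p ^ f) ^ 2 + 1)) := H.eq
        rw [one_mul] at h4
        have h5 : w ∣ c ↔ w ∣ p ^ f - 1 ∨ w ∣ (p ^ f) ^ 2 + 1 := by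
          rw [h4, hw.prime.dvd_mul, hw.prime.dvd_mul]
          constructor
          · rintro (h | h)
            · exact absurd h (hw'.not_dvd_pow 2)
            · exact h
          · intro h; exact Or.inr h
        have h6 : ¬ w ∣ (p ^ f) ^ 2 + 1 := by
          intro h
          have h7 : w ∣ (p ^ f) ^ 2 - 1 := hw'.dvd (show d ∣ 2 by
            rcases (show d = 1 ∨ d = 2 by omega) with h | h <;> rw [h]
            exact one_dvd _)
          have h8 : 1 ≤ (p ^ f) ^ 2 := Nat.one_le_pow _ _ (by omega)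
          have h9 := Nat.dvd_sub h h7
          rw [show (p ^ f) ^ 2 + 1 - ((p ^ f) ^ 2 - 1) = 2 by omega] at h9
          exact hodd h9
        rw [h5]
        constructor
        · rintro (h | h)
          · refine Or.inr ⟨h1, by omega, fun h2' => ?_⟩
            have h7 := (hw'.dvd_iff 1).1 (by rwa [pow_one])
            have h8 := Nat.le_of_dvd one_pos h7
            omega
          · exact absurd h h6
        · rintro (h | h)
          · omega
          · have h7 : d = 1 := by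
              by_contra hne
              exact h.2.2 (by omega) trivial
            left
            have := hw'.dvd (m := 1) (h7 ▸ dvd_rfl)
            rwa [pow_one] at this
      | _ => exact absurd hs (by simp [isSz])
    · refine ⟨fun _ => Or.inr ⟨h1, by omega, fun _ => hs⟩, fun _ => ?_⟩
      have h7 : w ∣ (p ^ f) ^ 2 - 1 := hw'.dvd (show d ∣ 2 by
        rcases (show d = 1 ∨ d = 2 by omega) with h | h <;> rw [h]
        exact one_dvd _)
      have h8 := (h7.mul_left (p ^ f)).trans (H.mq hs)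
      rcases hw.prime.dvd_mul.1 h8 with h9 | h9
      · exact absurd h9 hodd
      · exact h9

theorem Dt.in_iff (H : Dt p f c g) {e : ℕ} (he : 3 ≤ e) (h6 : ¬ (p = 2 ∧ e = 6)) :
    In p c e ↔ Kc g (e / Nat.gcd e f) := by
  constructor
  · rintro ⟨w, hw, hwc⟩
    exact (H.dvd_iff he hw).1 hwc
  · intro h
    obtain ⟨w, hw⟩ := exists_prim H.hp.two_le he h6
    exact ⟨w, hw, (H.dvd_iff he hw).2 h⟩

/-- the primitive primes are large -/
theorem lt_of_prim {p e w : ℕ} (hp : 2 ≤ p) (hw : Prim p e w) : e < w := by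
  have h1 := (hw.dvd_iff (w - 1)).1 (by
    have := Fact.mk hw.prime
    have h2 : ((p : ℕ) : ZMod w) ≠ 0 := by
      rw [Ne, ZMod.natCast_eq_zero_iff]
      exact hw.not_dvd
    have h3 := ZMod.pow_card_sub_one_eq_one h2
    rw [← Nat.cast_pow] at h3
    have h4 : 1 ≤ p ^ (w - 1) := Nat.one_le_pow _ _ (by omega)
    rw [← ZMod.natCast_eq_zero_iff, Nat.cast_sub h4, h3, Nat.cast_one, sub_self])
  have h2 := hw.prime.two_le
  have h3 := Nat.le_of_dvd (by omega) h1
  omega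

/-- the top class as a class -/
theorem Kc_top (hg : Cond g) (hq : qOf g ≠ 0) (h3 : 3 ≤ top g) : Kc g (top g) := Or.inl ⟨h3, K_top hg hq⟩

end Cfsg.Agent.H946.Exc
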