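import Cfsg.Agent.H946.NormCard
import Cfsg.Agent.H946.RadTools

/-!
# Normalisers of subgroups of prime order in alternating groups and in subgroups (helper946)
-/

set_option autoImplicit false

namespace Cfsg.Agent.H946.Rad

open Equiv Equiv.Perm

/-- in `A_m` an element of prime order `r` is conjugate to its powers with square exponents -/
theorem alt_conj {m r : ℕ} (hr : r.Prime) (hr2 : r ≠ 2) (hrm : r ≤ m) :
    ∃ x : alternatingGroup (Fin m), orderOf x = r ∧ ∀ k : ℕ, k.Coprime r →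
      ∃ g : alternatingGroup (Fin m), g * x * g⁻¹ = x ^ (k ^ 2) := by
  obtain ⟨σ, hσ⟩ := (Equiv.Perm.exists_with_cycleType_iff (α := Fin m) (m := {r})).2
    ⟨by simpa using hrm, by intro a ha; rw [Multiset.mem_singleton.1 ha]; exact hr.two_le⟩
  have hord : orderOf σ = r := by rw [← lcm_cycleType, hσ]; simp
  have hcyc : IsCycle σ := by
    rw [← card_cycleType_eq_one, hσ]; rfl
  have hsign : sign σ = 1 := by
    rw [sign_of_cycleType, hσ]
    simp only [Multiset.sum_singleton, Multiset.card_singleton]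
    have := hr.eq_two_or_odd
    have hodd : Odd r := hr.odd_of_ne_two hr2
    exact Even.neg_one_pow (by obtain ⟨j, hj⟩ := hodd; exact ⟨j + 1, by omega⟩)
  refine ⟨⟨σ, hsign⟩, by rw [← Subgroup.orderOf_coe]; exact hord, fun k hk => ?_⟩
  have h1 : IsConj σ (σ ^ k) := by
    rw [isConj_iff_cycleType_eq]
    have h2 : IsCycle (σ ^ k) := (hcyc.pow_iff).2 (by rw [hord]; exact hk)
    have h3 : (σ ^ k).support = σ.support := Equiv.Perm.support_pow_coprime (by rw [hord]; exact hk)
    rw [hcyc.cycleType, h2.cycleType, h3]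
  obtain ⟨τ, hτ⟩ := isConj_iff.1 h1
  refine ⟨⟨τ ^ 2, ?_⟩, ?_⟩
  · rw [mem_alternatingGroup, map_pow]
    exact Int.units_sq _
  · apply Subtype.ext
    show τ ^ 2 * σ * (τ ^ 2)⁻¹ = σ ^ (k ^ 2)
    have h4 : τ ^ 2 * σ * (τ ^ 2)⁻¹ = τ * (τ * σ * τ⁻¹) * τ⁻¹ := by rw [sq, mul_inv_rev]; simp only [mul_assoc]
    rw [h4, hτ]
    have h5 : τ * σ ^ k * τ⁻¹ = (τ * σ * τ⁻¹) ^ k := by rw [conj_pow]
    rw [h5, hτ, ← pow_mul, sq]

/-- powers of normalising elements centralise -/
theorem norm_pow {T : Type*} [Group T] [Finite T] {x : T} {n : ℕ}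
    (h : Nat.card ↥(Subgroup.normalizer (Subgroup.zpowers x : Set T)) ∣
      Nat.card ↥(Subgroup.centralizer ({x} : Set T)) * n) {g : T}
    (hg : g ∈ Subgroup.normalizer (Subgroup.zpowers x : Set T)) : Commute (g ^ n) x := by
  let N := Subgroup.normalizer (Subgroup.zpowers x : Set T)
  have hx : x ∈ Subgroup.zpowers x := Subgroup.mem_zpowers x
  let φ : ↥N →* MulAut ↥(Subgroup.zpowers x) := Subgroup.normalizerMonoidHom _
  have hφ : ∀ y : ↥N, φ y = 1 ↔ (y : T) ∈ Subgroup.centralizer ({x} : Set T) := by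
    intro y
    have e : ∀ z : ↥(Subgroup.zpowers x), ((φ y z : ↥(Subgroup.zpowers x)) : T) = (y : T) * z * (y : T)⁻¹ := fun z => rfl
    constructor
    · intro h
      have h1 := e ⟨x, hx⟩
      rw [h] at h1
      have h2 : x = (y : T) * x * (y : T)⁻¹ := h1
      rw [Subgroup.mem_centralizer_singleton_iff]
      have h3 := congrArg (fun z => z * (y : T)) h2
      simpa using h3.symm
    · intro h
      rw [Subgroup.mem_centralizer_singleton_iff] at h
      ext z
      rw [e z]
      obtain ⟨k, hk⟩ := Subgroup.mem_zpowers_iff.1 z.2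
      rw [← hk]
      have h1 : Commute (y : T) (x ^ k) := Commute.zpow_right h k
      show (y : T) * x ^ k * (y : T)⁻¹ = ((1 : MulAut ↥(Subgroup.zpowers x)) z : T)
      rw [h1.eq, mul_inv_cancel_right, hk]
      rfl
  have h1 : Nat.card ↥φ.ker = Nat.card ↥(Subgroup.centralizer ({x} : Set T)) := by
    refine Nat.card_congr ⟨fun y => ⟨y.1.1, (hφ y.1).1 y.2⟩, fun y => ⟨⟨y.1, ?_⟩, ?_⟩, fun y => rfl, fun y => rfl⟩
    · show (y : T) ∈ Subgroup.normalizer (Subgroup.zpowers x : Set T)
      have h3 := Subgroup.mem_centralizer_singleton_iff.1 y.2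
      rw [Subgroup.mem_normalizer_iff]
      intro z
      constructor
      · intro hz
        obtain ⟨k, rfl⟩ := Subgroup.mem_zpowers_iff.1 hz
        have h4 : Commute (y : T) (x ^ k) := Commute.zpow_right h3 k
        rw [h4.eq, mul_inv_cancel_right]
        exact hz
      · intro hz
        obtain ⟨k, hk⟩ := Subgroup.mem_zpowers_iff.1 hz
        have h4 : Commute (y : T) (x ^ k) := Commute.zpow_right h3 k
        have h5 : z = x ^ k := by
          have h6 : z = (y : T)⁻¹ * x ^ k * y := by rw [hk]; group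
          rw [h6, mul_assoc, ← h4.eq, inv_mul_cancel_left]
        rw [h5]
        exact Subgroup.zpow_mem_zpowers x k
    · exact (hφ _).2 y.2
  have h2 := φ.ker.card_eq_card_quotient_mul_card_subgroup
  rw [Nat.card_congr (QuotientGroup.quotientKerEquivRange φ).toEquiv, h1] at h2
  have h3 : Nat.card ↥φ.range ∣ n := by
    have h4 : Nat.card ↥φ.range * Nat.card ↥(Subgroup.centralizer ({x} : Set T)) ∣
        n * Nat.card ↥(Subgroup.centralizer ({x} : Set T)) := by
      rw [← h2, mul_comm n]; exact h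
    exact (Nat.mul_dvd_mul_iff_right Nat.card_pos).1 h4
  have h5 : φ (⟨g, hg⟩ ^ n) = 1 := by
    rw [map_pow]
    have h6 : (⟨φ ⟨g, hg⟩, ⟨g, hg⟩, rfl⟩ : ↥φ.range) ^ n = 1 := by
      obtain ⟨c, rfl⟩ := h3
      rw [pow_mul, pow_card_eq_one', one_pow]
    exact congrArg Subtype.val h6
  have h7 := (hφ _).1 h5
  exact Subgroup.mem_centralizer_singleton_iff.1 h7

/-- `A_m` in a group where `|N(⟨x⟩) : C(x)|` divides `n` -/
theorem alt_bound {T : Type*} [Group T] [Finite T] {S : Type*} [Group S] {f : S →* T} (hf : Function.Injective f)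
    {m r n : ℕ} (hr : r.Prime) (hr2 : r ≠ 2) (hrm : r ≤ m) (e : S ≃* alternatingGroup (Fin m))
    (h : ∀ x : T, orderOf x = r → Nat.card ↥(Subgroup.normalizer (Subgroup.zpowers x : Set T)) ∣
      Nat.card ↥(Subgroup.centralizer ({x} : Set T)) * n) : r - 1 ∣ 2 * n := by
  have := Fact.mk hr
  obtain ⟨x, hx, hconj⟩ := alt_conj hr hr2 hrm
  let F : alternatingGroup (Fin m) →* T := f.comp e.symm.toMonoidHom
  have hF : Function.Injective F := hf.comp e.symm.injective
  have hFx : orderOf (F x) = r := by rw [orderOf_injective F hF, hx]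
  obtain ⟨k, hk⟩ := IsCyclic.exists_generator (α := (ZMod r)ˣ)
  have hk0 : orderOf k = r - 1 := by
    rw [orderOf_eq_card_of_forall_mem_zpowers hk, Nat.card_eq_fintype_card, ZMod.card_units]
  let K : ℕ := (k : ZMod r).val
  have hK : (K : ZMod r) = (k : ZMod r) := ZMod.natCast_zmod_val _
  have hcop : K.Coprime r := by
    rw [Nat.coprime_comm, Nat.Prime.coprime_iff_not_dvd hr, ← ZMod.natCast_eq_zero_iff, hK]
    exact k.ne_zero
  obtain ⟨g, hg⟩ := hconj K hcop
  have hFg : F g * F x * (F g)⁻¹ = F x ^ (K ^ 2) := by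
    rw [← map_inv, ← map_mul, ← map_mul, hg, map_pow]
  have hpow : ∀ j : ℕ, F g ^ j * F x * (F g ^ j)⁻¹ = F x ^ ((K ^ 2) ^ j) := by
    intro j
    induction j with
    | zero => simp
    | succ j ih =>
      have h1 : F g ^ (j + 1) * F x * (F g ^ (j + 1))⁻¹ = F g * (F g ^ j * F x * (F g ^ j)⁻¹) * (F g)⁻¹ := by
        rw [pow_succ']; group
      rw [h1, ih, ← conj_pow, hFg, ← pow_mul]
      congr 1
      ring
  have hmem : F g ∈ Subgroup.normalizer (Subgroup.zpowers (F x) : Set T) := by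
    have h1 : (Subgroup.zpowers (F x)).map (MulAut.conj (F g)).toMonoidHom = Subgroup.zpowers (F x) := by
      apply Subgroup.eq_of_le_of_card_ge
      · rw [MonoidHom.map_zpowers, Subgroup.zpowers_le]
        show F g * F x * (F g)⁻¹ ∈ Subgroup.zpowers (F x)
        rw [hFg]
        exact Subgroup.pow_mem _ (Subgroup.mem_zpowers _) _
      · rw [Subgroup.card_map_of_injective (MulAut.conj (F g)).injective]
    rw [Subgroup.mem_normalizer_iff]
    intro z
    constructor
    · intro hz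
      rw [← h1]
      exact ⟨z, hz, rfl⟩
    · intro hz
      rw [← h1] at hz
      obtain ⟨w, hw, hwz⟩ := hz
      have h2 : F g * w * (F g)⁻¹ = F g * z * (F g)⁻¹ := hwz
      have h3 : w = z := by simpa using h2
      rw [← h3]
      exact hw
  have h8 := norm_pow (h (F x) hFx) hmem
  have h9 : F x ^ ((K ^ 2) ^ n) = F x ^ 1 := by
    rw [← hpow n, h8.eq, mul_inv_cancel_right, pow_one]
  have h10 := (pow_eq_pow_iff_modEq).1 h9
  rw [hFx] at h10
  have h11 : ((K : ZMod r) ^ (2 * n)) = 1 := by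
    have := (ZMod.natCast_eq_natCast_iff _ _ _).2 h10
    push_cast at this
    rw [← pow_mul] at this
    exact this
  rw [hK, ← Units.val_pow_eq_pow_val] at h11
  have h12 : k ^ (2 * n) = 1 := Units.ext (by rw [h11]; rfl)
  rw [← hk0]
  exact orderOf_dvd_of_pow_eq_one h12

/-- normalisers in subgroups -/
theorem card_norm_dvd {T : Type*} [Group T] [Finite T] {S : Type*} [Group S] {f : S →* T}
    (hf : Function.Injective f) (x : S) : Nat.card ↥(Subgroup.normalizer (Subgroup.zpowers x : Set S)) ∣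
      Nat.card ↥(Subgroup.normalizer (Subgroup.zpowers (f x) : Set T)) := by
  rw [← Subgroup.card_map_of_injective hf]
  apply Subgroup.card_dvd_of_le
  rintro _ ⟨g, hg, rfl⟩
  have key : ∀ g ∈ Subgroup.normalizer (Subgroup.zpowers x : Set S), ∀ z ∈ Subgroup.zpowers (f x),
      f g * z * (f g)⁻¹ ∈ Subgroup.zpowers (f x) := by
    intro g hg z hz
    obtain ⟨k, rfl⟩ := Subgroup.mem_zpowers_iff.1 hz
    have h1 : g * x ^ k * g⁻¹ ∈ Subgroup.zpowers x :=
      (Subgroup.mem_normalizer_iff.1 hg (x ^ k)).1 (Subgroup.zpow_mem_zpowers x k)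
    obtain ⟨j, hj⟩ := Subgroup.mem_zpowers_iff.1 h1
    rw [← map_zpow, ← map_inv, ← map_mul, ← map_mul, ← hj, map_zpow]
    exact Subgroup.zpow_mem_zpowers _ _
  rw [Subgroup.mem_normalizer_iff]
  intro z
  refine ⟨key g hg z, fun hz => ?_⟩
  have h2 := key g⁻¹ (inv_mem hg) _ hz
  rw [map_inv] at h2
  have h3 : (f g)⁻¹ * (f g * z * (f g)⁻¹) * (f g)⁻¹⁻¹ = z := by group
  rwa [h3] at h2

end Cfsg.Agent.H946.Rad
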