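import Cfsg.Agent.H946.ExcNum

/-!
# Numerical cases for the radical (helper946)
-/

set_option autoImplicit false

namespace Cfsg.Agent.H946.Num

open Cfsg.Agent.H436

/-- primitive primes of powers -/
theorem prim_pow {p a e w : ℕ} (ha : 0 < a) (h : Prim p (e * a) w) : Prim (p ^ a) e w := by
  refine ⟨h.prime, fun n => ?_, h.not_dvd_pow a⟩
  rw [← pow_mul, h.dvd_iff, mul_comm a n]
  exact Nat.mul_dvd_mul_iff_right ha

theorem prim_mod {q e w : ℕ} (hq : 1 ≤ q) (he : 0 < e) (h : Prim q e w) : e ∣ w - 1 :=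
  mod_of_order h.prime he (order_of_prim hq h)

theorem prim_N3 {q w : ℕ} (hq : 1 ≤ q) (h : Prim q 3 w) : w ∣ N3 q :=
  (root_of_order h.prime hq (order_of_prim hq h)).1 rfl
theorem prim_N6 {q w : ℕ} (hq : 1 ≤ q) (h : Prim q 6 w) : w ∣ N6 q :=
  (root_of_order h.prime hq (order_of_prim hq h)).2.1 rfl
theorem prim_N8 {q w : ℕ} (hq : 1 ≤ q) (h : Prim q 8 w) : w ∣ N8 q :=
  (root_of_order h.prime hq (order_of_prim hq h)).2.2.1 rfl
theorem prim_N12 {q w : ℕ} (hq : 1 ≤ q) (h : Prim q 12 w) : w ∣ N12 q :=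
  (root_of_order h.prime hq (order_of_prim hq h)).2.2.2 rfl

theorem prim_lt {q e w : ℕ} (hq : 1 ≤ q) (he : 0 < e) (h : Prim q e w) : e < w := by
  have h1 := Nat.le_of_dvd (by have := h.prime.two_le; omega) (prim_mod hq he h)
  have := h.prime.two_le
  omega

theorem exists_N3 {q : ℕ} (hq : 2 ≤ q) : ∃ s, s.Prime ∧ s ≠ 3 ∧ s ∣ N3 q := by
  obtain ⟨w, hw⟩ := exists_prim (q := q) (e := 3) hq le_rfl (by omega)
  have := prim_lt (by omega) (by norm_num) hw
  exact ⟨w, hw.prime, by omega, prim_N3 (by omega) hw⟩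

theorem exists_N6 {q : ℕ} (hq : 3 ≤ q) : ∃ s, s.Prime ∧ s ≠ 3 ∧ s ∣ N6 q := by
  obtain ⟨w, hw⟩ := exists_prim (q := q) (e := 6) (by omega) (by norm_num) (by omega)
  have := prim_lt (by omega) (by norm_num) hw
  exact ⟨w, hw.prime, by omega, prim_N6 (by omega) hw⟩

theorem exists_N8 {q : ℕ} (hq : 2 ≤ q) : ∃ s, s.Prime ∧ s ≠ 2 ∧ s ∣ N8 q := by
  obtain ⟨w, hw⟩ := exists_prim (q := q) (e := 8) (by omega) (by norm_num) (by omega)
  have := prim_lt (by omega) (by norm_num) hw
  exact ⟨w, hw.prime, by omega, prim_N8 (by omega) hw⟩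

theorem exists_N12 {q : ℕ} (hq : 2 ≤ q) : ∃ s, s.Prime ∧ s ∣ N12 q := by
  obtain ⟨w, hw⟩ := exists_prim (q := q) (e := 12) (by omega) (by norm_num) (by omega)
  exact ⟨w, hw.prime, prim_N12 (by omega) hw⟩

theorem case1 {p a : ℕ} (hp : p.Prime) (ha : 0 < a) (hq : p ^ a % 3 = 1) (hple : p ≤ 14)
    (hall : ∀ s, s.Prime → s ∣ N6 (p ^ a) → s ≤ 14) : p = 2 ∧ a = 2 := by
  have h2 := hp.two_le
  have h1p : 1 ≤ p := by omega
  have h1 : 1 ≤ p ^ a := Nat.one_le_pow _ _ h1p
  obtain ⟨w, hw⟩ := exists_prim (q := p) (e := 6 * a) (by omega) (by omega) (by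
    rintro ⟨rfl, h6⟩
    have : a = 1 := by omega
    subst this
    norm_num at hq)
  have hw1 := hall w hw.prime (prim_N6 h1 (prim_pow ha hw))
  have hw2 := prim_mod h1p (by omega) hw
  obtain ⟨k, hk⟩ := hw2
  have ha2 : a ≤ 2 := by
    by_contra h
    have : 6 * 3 * 1 ≤ 6 * a * k := Nat.mul_le_mul (by omega) (by
      rcases Nat.eq_zero_or_pos k with rfl | h
      · have := hw.prime.two_le
        rw [mul_zero] at hk
        omega
      · exact h)
    omega
  have hx : ∀ s, s.Prime → 14 < s → ¬ s ∣ N6 (p ^ a) := fun s hs h hd => absurd (hall s hs hd) (by omega)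
  interval_cases p <;> first | (exfalso; revert hp; norm_num; done) | skip
  all_goals interval_cases a
  all_goals first
    | exact ⟨rfl, rfl⟩
    | (exfalso; revert hq; norm_num; done)
    | (exfalso; exact hx 43 (by norm_num) (by norm_num) (by decide))
    | (exfalso; exact hx 157 (by norm_num) (by norm_num) (by decide))
    | (exfalso; exact hx 601 (by norm_num) (by norm_num) (by decide))
    | (exfalso; exact hx 181 (by norm_num) (by norm_num) (by decide))
    | (exfalso; exact hx 1117 (by norm_num) (by norm_num) (by decide))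
    | (exfalso; exact hx 28393 (by norm_num) (by norm_num) (by decide))

theorem case2 {p a : ℕ} (hp : p.Prime) (ha : 0 < a) (hq : p ^ a % 3 = 2) (hq2 : 2 < p ^ a) (hple : p ≤ 14)
    (hall : ∀ s, s.Prime → s ∣ N3 (p ^ a) → s ≤ 14) : False := by
  have h2 := hp.two_le
  have h1p : 1 ≤ p := by omega
  have h1 : 1 ≤ p ^ a := Nat.one_le_pow _ _ h1p
  obtain ⟨w, hw⟩ := exists_prim (q := p) (e := 3 * a) (by omega) (by omega) (by
    rintro ⟨rfl, h6⟩
    have : a = 2 := by omega
    subst this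
    norm_num at hq)
  have hw1 := hall w hw.prime (prim_N3 h1 (prim_pow ha hw))
  have hw2 := prim_mod h1p (by omega) hw
  have hw3 := prim_lt h1p (by omega) hw
  have hwp := hw.prime
  have ha2 : a ≤ 4 := by omega
  have hw5 : 2 ≤ w := hwp.two_le
  have hx : ∀ s, s.Prime → 14 < s → ¬ s ∣ N3 (p ^ a) := fun s hs h hd => absurd (hall s hs hd) (by omega)
  have ha3 : a ≠ 3 := by
    rintro rfl
    have : w = 10 := by omega
    rw [this] at hwp
    revert hwp; norm_num
  interval_cases p <;> first | (exfalso; revert hp; norm_num; done) | skip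
  all_goals interval_cases a
  all_goals first
    | (exfalso; revert hq; norm_num; done)
    | (exfalso; revert hq2; norm_num; done)
    | (exfalso; exact ha3 rfl)
    | (exfalso; exact hx 31 (by norm_num) (by norm_num) (by decide))
    | (exfalso; exact hx 19 (by norm_num) (by norm_num) (by decide))

end Cfsg.Agent.H946.Num
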