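import Cfsg.Agent.H902.Names
import Cfsg.Agent.H915.GNDefs
import Cfsg.Agent.H946.ExcSameBase
import Cfsg.Agent.OrdDiv.Table

/-!
# Conversion between two kinds of names (helper946)
-/

set_option autoImplicit false

namespace Cfsg.Agent.H946.Conv

open Cfsg Cfsg.Agent.OrdDiv Cfsg.Agent.H436 Cfsg.Agent.H902 Cfsg.Agent.H902.Names

universe u

theorem isNamed_of {g : Grp} {X : Art.Sh} {p a : ℕ} {S : Type u} [Group S] (hg : IsLie g X p a)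
    (h : OrdDiv.Real g S) (hR : Art.Real X p a (Nat.card S)) : IsNamed g S := by
  have T : OrderTable.{u} := table
  have hpp : IsPrimePow (p ^ a) := hR.hp.isPrimePow.pow (by have := hR.hf; omega)
  have hok := hR.ok
  cases hg with
  | psl n =>
    refine .mk' h ⟨hok.1, hok.2, hpp⟩ ?_
    obtain ⟨F, _, _, hF, ⟨e⟩⟩ := h
    rw [Nat.card_congr e.toEquiv, ← hF]
    exact psl_eq hok.1
  | psp n =>
    refine .mk' h ⟨hok.1, hok.2, hpp⟩ ?_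
    obtain ⟨F, _, _, hF, ⟨e⟩⟩ := h
    rw [Nat.card_congr e.toEquiv, ← hF]
    exact psp_eq hok.1
  | oodd n _ _ hn ho =>
    refine .mk' h ⟨hn, ho, hpp⟩ ?_
    obtain ⟨F, _, _, hF, ⟨e⟩⟩ := h
    rw [Nat.card_congr e.toEquiv, ← hF]
    exact oodd_eq hn (hF ▸ ho)
  | psu n =>
    refine .mk' h ⟨hok.1, fun h3 => ?_, hpp⟩ ?_
    · have := hok.2 h3.1
      have := h3.2
      omega
    obtain ⟨F, _, _, hF, ⟨e⟩⟩ := h
    rw [Nat.card_congr e.toEquiv]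
    exact psu_eq hF hok.1
  | oplus n =>
    refine .mk' h ⟨hok, hpp⟩ ?_
    obtain ⟨F, _, _, hF, ⟨e⟩⟩ := h
    rw [Nat.card_congr e.toEquiv, ← hF]
    exact oplus_eq hok
  | ominus n =>
    refine .mk' h ⟨hok, hpp⟩ ?_
    obtain ⟨F, _, _, x, y, hF, hab, ⟨e⟩⟩ := h
    rw [Nat.card_congr e.toEquiv, ← hF]
    exact ominus_eq hok hab
  | g2 =>
    refine .mk' h ⟨hok, hpp⟩ ?_
    obtain ⟨F, _, _, hF, ⟨e⟩⟩ := h
    rw [Nat.card_congr e.toEquiv, ← hF]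
    change 1 * _ = _ ^ 6 * _
    rw [T.g2 F]; ring
  | f4 =>
    refine .mk' h hpp ?_
    obtain ⟨F, _, _, hF, ⟨e⟩⟩ := h
    rw [Nat.card_congr e.toEquiv, ← hF]
    change 1 * _ = _ ^ 24 * _
    rw [T.f4 F _ rfl]; ring
  | e6 =>
    refine .mk' h hpp ?_
    obtain ⟨F, _, _, hF, ⟨e⟩⟩ := h
    rw [Nat.card_congr e.toEquiv, ← hF]
    change Nat.gcd 3 (Fintype.card F - 1) * _ = _ ^ 36 * _
    rw [T.e6 F _ rfl]; ring
  | e7 =>
    refine .mk' h hpp ?_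
    obtain ⟨F, _, _, hF, ⟨e⟩⟩ := h
    rw [Nat.card_congr e.toEquiv, ← hF]
    change Nat.gcd 2 (Fintype.card F - 1) * _ = _ ^ 63 * _
    rw [T.e7 F _ rfl]; ring
  | e8 =>
    refine .mk' h hpp ?_
    obtain ⟨F, _, _, hF, ⟨e⟩⟩ := h
    rw [Nat.card_congr e.toEquiv, ← hF]
    change 1 * _ = _ ^ 120 * _
    rw [T.e8 F _ rfl]; ring
  | te6 =>
    refine .mk' h hpp ?_
    obtain ⟨F, _, _, hF, ⟨e⟩⟩ := h
    rw [Nat.card_congr e.toEquiv]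
    change Nat.gcd 3 (p ^ a + 1) * _ = _ ^ 36 * _
    rw [T.te6 F _ hpp hF]; ring
  | td4 =>
    refine .mk' h hpp ?_
    obtain ⟨F, _, _, hF, ⟨e⟩⟩ := h
    rw [Nat.card_congr e.toEquiv]
    change 1 * _ = _ ^ 12 * _
    rw [T.td4 F _ hpp hF]; ring
  | sz =>
    obtain ⟨F, _, _, m, hm, hF, hq, ⟨e⟩⟩ := id h
    refine .mk' h ⟨m, hm, hq⟩ ?_
    rw [Nat.card_congr e.toEquiv]
    change 1 * _ = _ ^ 2 * _
    rw [hq]
    rw [T.sz F m hm (hF.trans hq)]; ring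
  | ree =>
    obtain ⟨F, _, _, m, hm, hF, hq, ⟨e⟩⟩ := id h
    refine .mk' h ⟨m, hm, hq⟩ ?_
    rw [Nat.card_congr e.toEquiv]
    change 1 * _ = _ ^ 3 * _
    rw [hq]
    rw [T.ree F m hm (hF.trans hq)]; ring
  | tf4 =>
    obtain ⟨F, _, _, m, hm, hF, hq, ⟨e⟩⟩ := id h
    refine .mk' h ⟨m, hm, hq⟩ ?_
    rw [Nat.card_congr e.toEquiv]
    change 1 * _ = _ ^ 12 * _
    rw [hq]
    rw [T.tf4 F m hm (hF.trans hq)]; ring

theorem hasChar_of {g : Grp} {X : Art.Sh} {p a : ℕ} (hg : IsLie g X p a) : H915.GN.HasChar p g := by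
  cases hg <;> exact ⟨a, rfl⟩

theorem dt_of {g : Grp} {X : Art.Sh} {p a : ℕ} {S : Type u} [Group S] [Finite S] (hg : IsLie g X p a)
    (h : OrdDiv.Real g S) (hR : Art.Real X p a (Nat.card S)) : Exc.Dt p a (Nat.card S) g := by
  have hn := isNamed_of hg h hR
  refine ⟨hR.hp, by have := hR.hf; omega, Nat.card_pos.ne', hn.cond, ?_, hn.eq⟩
  cases hg <;> rfl

end Cfsg.Agent.H946.Conv
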