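import Cfsg.Agent.H946.ExcSameBase

/-!
# Subgroups of exceptional groups of the same characteristic: top classes (helper946)
-/

set_option autoImplicit false

namespace Cfsg.Agent.H946.Exc

open Cfsg Cfsg.Agent.OrdDiv Cfsg.Agent.H436 Cfsg.Agent.H425.PartP Cfsg.Agent.H425.Chr

theorem two_le_top {g : Grp} (hg : Cond g) (hq : qOf g ≠ 0) : 2 ≤ top g := by
  cases g with
  | psl n q => exact hg.1
  | _ => exact le_trans (by norm_num) (four_le_top hg hq (fun h => h))

theorem le_top {g : Grp} (hg : Cond g) (hq : qOf g ≠ 0) {d : ℕ} (h3 : 3 ≤ d) (h : K g d) : d ≤ top g := by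
  cases g with
  | psl n q => exact h
  | psp m q => rw [K_psp (by omega)] at h; change d ≤ 2 * m; omega
  | oodd m q => rw [K_oodd (by omega)] at h; change d ≤ 2 * m; omega
  | psu n q => rw [K_psu (by omega)] at h; change d ≤ 2 * (n - (1 - n % 2)); omega
  | oplus m q =>
    have h1 : 4 ≤ m := hg.1
    rcases h with h | ⟨k, hk, hkm, h⟩
    · have := Nat.le_of_dvd (by omega) h; change d ≤ 2 * (m - 1); omega
    · have := Nat.le_of_dvd (by omega) h; change d ≤ 2 * (m - 1); omega
  | ominus m q =>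
    have h1 : 4 ≤ m := hg.1
    rcases h with h | ⟨k, hk, hkm, h⟩
    · have := Nat.le_of_dvd (by omega) h.1; change d ≤ 2 * m; omega
    · have := Nat.le_of_dvd (by omega) h; change d ≤ 2 * m; omega
  | g2 q => have := K_g2 h; change d ≤ 6; omega
  | f4 q => have := K_f4 h; change d ≤ 12; omega
  | e6 q => have := K_e6 h; change d ≤ 12; omega
  | e7 q => have := K_e7 h; change d ≤ 18; omega
  | e8 q => have := K_e8 h; change d ≤ 30; omega
  | te6 q => have := K_te6 h; change d ≤ 18; omega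
  | td4 q => have := K_td4 h; change d ≤ 12; omega
  | sz q => have := K_sz h; change d ≤ 4; omega
  | ree q => have := K_ree h; change d ≤ 6; omega
  | tf4 q => have := K_tf4 h; change d ≤ 12; omega
  | _ => exact absurd rfl hq

theorem Kc_le_top {g : Grp} (hg : Cond g) (hq : qOf g ≠ 0) {d : ℕ} (h : Kc g d) : d ≤ top g := by
  rcases h with ⟨h3, h⟩ | ⟨-, h, -⟩
  · exact le_top hg hq h3 h
  · exact h.trans (two_le_top hg hq)

/-- the top class, including `PSL₂` -/
theorem Kc_top' {g : Grp} (hg : Cond g) (hq : qOf g ≠ 0) : Kc g (top g) := by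
  by_cases h3 : 3 ≤ top g
  · exact Kc_top hg hq h3
  · have h2 := two_le_top hg hq
    refine Or.inr ⟨by omega, by omega, fun _ hs => ?_⟩
    cases g with
    | sz q => exact h3 (by change 3 ≤ 4; norm_num)
    | _ => exact hs

theorem quot_mul {k l x : ℕ} (hx : 0 < x) : k * x / Nat.gcd (k * x) (l * x) = k / Nat.gcd k l := by
  rw [Nat.gcd_mul_right, Nat.mul_div_mul_right _ _ hx]

/-- `S` (name `g` over `p ^ b`, order `c`) is the socle of a subgroup of `T` (name `gT` over `p ^ a`, order `cT`) whose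
order is divisible by all primes of `T` -/
structure Hy (p a b c cT : ℕ) (gT g : Grp) : Prop where
  T : Dt p a cT gT
  S : Dt p b c g
  dvd : c ∣ cT
  pr : ∀ w : ℕ, w.Prime → 3 < w → b < w → w ∣ cT → w ∣ c

variable {p a b c cT : ℕ} {gT g : Grp}

/-- a class of `S` which is not in `T` -/
theorem Hy.kill1 (H : Hy p a b c cT gT g) {x : ℕ} (k l m : ℕ) (hx : 0 < x) (ha : a = m * x) (hb : b = l * x)
    (he : 3 ≤ k * x) (h6 : ¬ (p = 2 ∧ k * x = 6)) (h1 : Kc g (k / Nat.gcd k l)) (h2 : ¬ Kc gT (k / Nat.gcd k m)) :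
    False := by
  have h3 : In p c (k * x) := (H.S.in_iff he h6).2 (by rw [hb, quot_mul hx]; exact h1)
  obtain ⟨w, hw, hwc⟩ := h3
  have h4 := (H.T.dvd_iff he hw).1 (hwc.trans H.dvd)
  rw [ha, quot_mul hx] at h4
  exact h2 h4

/-- a class of `T` which is not in `S` -/
theorem Hy.kill2 (H : Hy p a b c cT gT g) {x : ℕ} (k l m : ℕ) (hx : 0 < x) (ha : a = m * x) (hb : b = l * x)
    (he : 3 ≤ k * x) (h6 : ¬ (p = 2 ∧ k * x = 6)) (hlk : l ≤ k) (h1 : Kc gT (k / Nat.gcd k m))
    (h2 : ¬ Kc g (k / Nat.gcd k l)) : False := by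
  have h3 : In p cT (k * x) := (H.T.in_iff he h6).2 (by rw [ha, quot_mul hx]; exact h1)
  obtain ⟨w, hw, hwc⟩ := h3
  have h5 := lt_of_prim H.S.hp.two_le hw
  have h6 : b ≤ k * x := by rw [hb]; exact Nat.mul_le_mul_right x hlk
  have h4 := (H.S.dvd_iff he hw).1 (H.pr w hw.prime (by omega) (by omega) hwc)
  rw [hb, quot_mul hx] at h4
  exact h2 h4

theorem Hy.top_eq (H : Hy p a b c cT gT g) {eT : ℕ} (h6 : 6 ≤ eT) (hk : Kc gT eT) (hle : ∀ d, Kc gT d → d ≤ eT)
    (hne : ¬ (p = 2 ∧ eT * a = 6)) : top g * b = eT * a := by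
  have ha : 0 < a := Nat.pos_of_ne_zero H.T.hf
  have hb : 0 < b := Nat.pos_of_ne_zero H.S.hf
  have hq : qOf g ≠ 0 := by
    rw [H.S.hq]; exact (pow_pos H.S.hp.pos b).ne'
  have h2 := two_le_top H.S.cond hq
  have he : 6 ≤ eT * a := h6.trans (Nat.le_mul_of_pos_right _ ha)
  obtain ⟨w, hw, hwT⟩ : In p cT (eT * a) := (H.T.in_iff (by omega) hne).2 (by
    have := quot_mul (k := eT) (l := 1) ha
    rw [one_mul, Nat.gcd_one_right, Nat.div_one] at this
    rwa [this])
  have hlt := lt_of_prim H.S.hp.two_le hw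
  -- the upper bound
  have hup : 3 ≤ top g * b → ¬ (p = 2 ∧ top g * b = 6) → top g * b ≤ eT * a := by
    intro h3 h4
    obtain ⟨v, hv, hvc⟩ : In p c (top g * b) := (H.S.in_iff h3 h4).2 (by
      have := quot_mul (k := top g) (l := 1) hb
      rw [one_mul, Nat.gcd_one_right, Nat.div_one] at this
      rw [this]
      exact Kc_top' H.S.cond hq)
    have h5 := hle _ ((H.T.dvd_iff h3 hv).1 (hvc.trans H.dvd))
    have h7 : top g * b = top g * b / Nat.gcd (top g * b) a * Nat.gcd (top g * b) a :=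
      (Nat.div_mul_cancel (Nat.gcd_dvd_left _ _)).symm
    rw [h7]
    exact Nat.mul_le_mul h5 (Nat.le_of_dvd ha (Nat.gcd_dvd_right _ _))
  have hbw : b < w := by
    have h8 : b ≤ top g * b := Nat.le_mul_of_pos_left _ (by omega)
    by_cases h3 : 3 ≤ top g * b
    · by_cases h4 : p = 2 ∧ top g * b = 6
      · omega
      · have := hup h3 h4; omega
    · omega
  have hwc := H.pr w hw.prime (by omega) hbw hwT
  have h9 := Kc_le_top H.S.cond hq ((H.S.dvd_iff (by omega) hw).1 hwc)
  have h10 : eT * a ≤ top g * b := by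
    have h7 : eT * a = eT * a / Nat.gcd (eT * a) b * Nat.gcd (eT * a) b :=
      (Nat.div_mul_cancel (Nat.gcd_dvd_left _ _)).symm
    rw [h7]
    exact Nat.mul_le_mul h9 (Nat.le_of_dvd hb (Nat.gcd_dvd_right _ _))
  by_cases h4 : p = 2 ∧ top g * b = 6
  · exfalso
    apply hne
    exact ⟨h4.1, by omega⟩
  · have := hup (by omega) h4
    omega

theorem Hy.ex_le (H : Hy p a b c cT gT g) {eT : ℕ} (h : top g * b = eT * a) : ex g * eT ≤ top g * ex gT := by
  have ha : 0 < a := Nat.pos_of_ne_zero H.T.hf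
  have h1 : c.factorization p ≤ cT.factorization p :=
    (Nat.factorization_le_iff_dvd H.S.hc H.T.hc).2 H.dvd p
  rw [H.S.fac, H.T.fac] at h1
  by_contra hlt
  push Not at hlt
  have h2 : top g * ex gT * a < ex g * eT * a := Nat.mul_lt_mul_of_pos_right hlt ha
  have h3 : ex g * eT * a = top g * (b * ex g) := by
    calc ex g * eT * a = ex g * (eT * a) := by ring
      _ = ex g * (top g * b) := by rw [h]
      _ = _ := by ring
  have h4 : top g * (b * ex g) ≤ top g * (a * ex gT) := Nat.mul_le_mul_left _ h1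
  have h5 : top g * (a * ex gT) = top g * ex gT * a := by ring
  omega

end Cfsg.Agent.H946.Exc
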