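import Cfsg.Agent.H946.RadTools
import Cfsg.Agent.H946.ExcNum
import Cfsg.Agent.H325.LocStruct

/-!
# The solvable radical of full subgroups: the cases (helper946)

`M` a subgroup of `T` whose order is divisible by all prime divisors of `|T|`, `A` a nontrivial elementary abelian
normal subgroup of `M`.
-/

set_option autoImplicit false

namespace Cfsg.Agent.H946.Rad

open Cfsg.Agent.H946.Num Cfsg.Agent.H436 Cfsg.Agent.H325.Loc

/-- every prime divisor of `|T|` divides `|M|` -/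
def Full {T : Type*} [Group T] (M : Subgroup T) : Prop := ∀ r, r.Prime → r ∣ Nat.card T → r ∣ Nat.card ↥M

/-- the centralisers of the elements of prime order `≠ b` dividing `N` are cyclic of order `N` -/
def Tor (T : Type*) [Group T] (N b : ℕ) : Prop :=
  ∀ x : T, (orderOf x).Prime → orderOf x ≠ b → orderOf x ∣ N →
    IsCyclic ↥(Subgroup.centralizer ({x} : Set T)) ∧ Nat.card ↥(Subgroup.centralizer ({x} : Set T)) = N

/-- the centralisers of the elements of prime order `≠ b` dividing `N` are cyclic of order dividing `N` -/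
def TorD (T : Type*) [Group T] (N b : ℕ) : Prop :=
  ∀ x : T, (orderOf x).Prime → orderOf x ≠ b → orderOf x ∣ N →
    IsCyclic ↥(Subgroup.centralizer ({x} : Set T)) ∧ Nat.card ↥(Subgroup.centralizer ({x} : Set T)) ∣ N

theorem Tor.torD {T : Type*} [Group T] {N b : ℕ} (h : Tor T N b) : TorD T N b :=
  fun x h1 h2 h3 => ⟨(h x h1 h2 h3).1, (h x h1 h2 h3).2.dvd⟩

theorem TorD.of {T : Type*} [Group T] {N b : ℕ} (h : TorD T N b) {M : Subgroup T} {a : ↥M} (hat : (orderOf a).Prime)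
    (htb : orderOf a ≠ b) (htN : orderOf a ∣ N) : IsCyclic ↥(Subgroup.centralizer ({(a : T)} : Set T)) ∧
      Nat.card ↥(Subgroup.centralizer ({(a : T)} : Set T)) ∣ N := by
  have h0 : orderOf (a : T) = orderOf a := Subgroup.orderOf_coe a
  exact h (a : T) (by rw [h0]; exact hat) (by rw [h0]; exact htb) (by rw [h0]; exact htN)

theorem Tor.of {T : Type*} [Group T] {N b : ℕ} (h : Tor T N b) {M : Subgroup T} {a : ↥M} (hat : (orderOf a).Prime)
    (htb : orderOf a ≠ b) (htN : orderOf a ∣ N) : IsCyclic ↥(Subgroup.centralizer ({(a : T)} : Set T)) ∧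
      Nat.card ↥(Subgroup.centralizer ({(a : T)} : Set T)) ∣ N := by
  have h0 : orderOf (a : T) = orderOf a := Subgroup.orderOf_coe a
  obtain ⟨h1, h2⟩ := h (a : T) (by rw [h0]; exact hat) (by rw [h0]; exact htb) (by rw [h0]; exact htN)
  exact ⟨h1, h2.dvd⟩

theorem Full.exists_elt {T : Type*} [Group T] [Finite T] {M : Subgroup T} (h : Full M) {r : ℕ} (hr : r.Prime)
    (hd : r ∣ Nat.card T) : ∃ x : ↥M, orderOf x = r := by
  have := Fact.mk hr
  exact exists_prime_orderOf_dvd_card' r (h r hr hd)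

/-- the case of a cyclic torus -/
theorem cyc_case {T : Type*} [Group T] [Finite T] {M : Subgroup T} {A : Subgroup ↥M} [A.Normal]
    (hAc : ∀ x ∈ A, ∀ y ∈ A, x * y = y * x) {a : ↥M} (ha : a ∈ A)
    {N : ℕ} (h12 : IsCyclic ↥(Subgroup.centralizer ({(a : T)} : Set T)) ∧
      Nat.card ↥(Subgroup.centralizer ({(a : T)} : Set T)) ∣ N) {p r : ℕ} (hp : p.Prime) (hr : r.Prime)
    (hpr : p ≠ r) (hpM : p ∣ Nat.card ↥M) (hrM : r ∣ Nat.card ↥M) (hpN : ¬ p ∣ N) (hrN : ¬ r ∣ N) {N' : ℕ}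
    (hN' : ∀ y : T, orderOf y = r → Nat.card ↥(Subgroup.centralizer ({y} : Set T)) ∣ N') (hpN' : ¬ p ∣ N') : False := by
  obtain ⟨h1, h2⟩ := h12
  have h3 : Nat.card ↥(Subgroup.centralizer ({a} : Set ↥M)) ∣ N := (card_cent_dvd (a := a)).trans h2
  obtain ⟨x, y, hx, hy, hxy⟩ := no_cyclic ha (isCyclic_cent h1) hAc hp hr hpr hpM hrM (fun h => hpN (h.trans h3))
    (fun h => hrN (h.trans h3))
  apply hpN'
  refine dvd_trans ?_ (hN' (y : T) (by rw [Subgroup.orderOf_coe, hy]))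
  rw [← hx, ← Subgroup.orderOf_coe]
  exact orderOf_dvd_cent (commute_coe hxy.symm)

/-- the case of two free elements -/
theorem free_case {T : Type*} [Group T] [Finite T] {M : Subgroup T} {A : Subgroup ↥M} [A.Normal] (hne : A ≠ ⊥)
    (hAc : ∀ x ∈ A, ∀ y ∈ A, x * y = y * x) {t : ℕ} (ht : t.Prime) (hAt : ∀ a ∈ A, a ^ t = 1) {p : ℕ}
    {F : Type*} [Field F] [CharP F p] {ι : Type*} [Fintype ι] [DecidableEq ι] {τ : T →* Matrix.GeneralLinearGroup ι F}
    (hτ : Function.Injective τ) (hpA : ¬ p ∣ Nat.card ↥A) {x y : ↥M} (hx : (orderOf x).Prime) (hy : (orderOf y).Prime)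
    (hxy : orderOf x ≠ orderOf y) {N N' : ℕ} (hN : Nat.card ↥(Subgroup.centralizer ({(x : T)} : Set T)) ∣ N)
    (hN' : Nat.card ↥(Subgroup.centralizer ({(y : T)} : Set T)) ∣ N') (htN : ¬ t ∣ N) (htN' : ¬ t ∣ N')
    (hlt : Fintype.card ι < orderOf x * orderOf y) : False := by
  obtain ⟨W, hW0, hW, h1, -⟩ := exists_wts (τ := τ.comp M.subtype) (hτ.comp M.subtype_injective) hAc hpA hne
  have h2 := h1 x _ hx rfl fun a ha => free_of_not_dvd hN ht htN (hAt a ha)
  have h3 := h1 y _ hy rfl fun a ha => free_of_not_dvd hN' ht htN' (hAt a ha)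
  have h4 : orderOf x * orderOf y ∣ W := ((Nat.coprime_primes hx hy).2 hxy).mul_dvd_of_dvd_of_dvd h2 h3
  exact absurd (Nat.le_of_dvd hW0 h4) (by omega)

/-- an elementary abelian normal subgroup -/
theorem not_dvd_card {G : Type*} [Group G] [Finite G] {A : Subgroup G} {t : ℕ} (ht : t.Prime)
    (hAt : ∀ a ∈ A, a ^ t = 1) {p : ℕ} (hp : p.Prime) (hpt : p ≠ t) : ¬ p ∣ Nat.card ↥A := by
  intro h
  have := Fact.mk hp
  obtain ⟨x, hx⟩ := exists_prime_orderOf_dvd_card' p h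
  have h1 : x ^ t = 1 := Subtype.ext (hAt x x.2)
  have h2 := orderOf_dvd_of_pow_eq_one h1
  rw [hx] at h2
  exact hpt ((Nat.prime_dvd_prime_iff_eq hp ht).1 h2)

/-- a nontrivial solvable normal subgroup gives a nontrivial elementary abelian normal subgroup -/
theorem exists_el {T : Type*} [Group T] [Finite T] {M : Subgroup T} {p : ℕ} [hp : Fact p.Prime]
    (hop : ∀ Q : Subgroup ↥M, Q.Normal → IsPGroup p ↥Q → Q = ⊥) {S : Subgroup ↥M} (hS : S.Normal)
    (hs : Group.IsSolvable S) (hne : S ≠ ⊥) : ∃ t : ℕ, t.Prime ∧ t ≠ p ∧ ∃ A : Subgroup ↥M, A.Normal ∧ A ≠ ⊥ ∧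
      (∀ a ∈ A, ∀ b ∈ A, a * b = b * a) ∧ (∀ a ∈ A, a ^ t = 1) ∧ ∃ a ∈ A, orderOf a = t := by
  obtain ⟨t, ht, A, hAn, hA, hAc, hAt⟩ := Cfsg.Agent.H290.ElEng.exists_elem hS hs hne
  refine ⟨t, ht, ?_, A, hAn, hA, hAc, hAt, ?_⟩
  · rintro rfl
    exact hA (hop A hAn fun a => ⟨1, by rw [pow_one]; exact Subtype.ext (hAt a a.2)⟩)
  · obtain ⟨⟨a, ha⟩, ha1⟩ := (Subgroup.ne_bot_iff_exists_ne_one (H := A)).1 hA
    have := Fact.mk ht
    exact ⟨a, ha, orderOf_eq_prime (hAt a ha) fun h => ha1 (Subtype.ext h)⟩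

end Cfsg.Agent.H946.Rad
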