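import Cfsg.Agent.H264.FKS.Res
import Cfsg.Agent.H946.ExcSameTop
import Cfsg.Agent.H946.RadBase
import Cfsg.Agent.S2468

/-!
# Named groups in characteristic `p` (helper946)
-/

set_option autoImplicit false

namespace Cfsg.Agent.H946.Soc

open Cfsg Cfsg.Agent.OrdDiv Cfsg.Agent.H436 Cfsg.Agent.H915.GN Cfsg.Agent.H264.FKS Cfsg.Agent.H946.Exc

universe u

theorem pow_ne_zero_exp {p b : ℕ} (h : IsPrimePow (p ^ b)) : b ≠ 0 := by
  rintro rfl
  rw [pow_zero] at h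
  exact h.ne_one rfl

/-- the data of a named group in characteristic `p` -/
theorem dt_of_named {g : Grp} {S : Type u} [Group S] [Finite S] {p : ℕ} (hp : p.Prime) (hn : IsNamed g S)
    (hch : HasChar p g) : ∃ b, Dt p b (Nat.card S) g ∧ fld g = p ^ b := by
  have hc := hn.cond
  have h0 : Nat.card S ≠ 0 := Nat.card_pos.ne'
  have he := hn.eq
  have key : ∀ {q : ℕ}, (∃ f, q = p ^ f) → IsPrimePow q → ∃ b, b ≠ 0 ∧ q = p ^ b := by
    rintro q ⟨b, rfl⟩ h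
    exact ⟨b, pow_ne_zero_exp h, rfl⟩
  have key2 : ∀ {l m q : ℕ}, l.Prime → (∃ f, q = p ^ f) → q = l ^ (2 * m + 1) → ∃ b, b ≠ 0 ∧ q = p ^ b := by
    rintro l m q hl ⟨b, rfl⟩ h
    refine ⟨b, ?_, rfl⟩
    rintro rfl
    rw [pow_zero] at h
    have h5 : 1 < l ^ (2 * m + 1) := Nat.one_lt_pow (by omega) hl.one_lt
    omega
  cases g with
  | psl n q => obtain ⟨b, hb, rfl⟩ := key hch hc.2.2; exact ⟨b, ⟨hp, hb, h0, hc, rfl, he⟩, rfl⟩
  | psp n q => obtain ⟨b, hb, rfl⟩ := key hch hc.2.2; exact ⟨b, ⟨hp, hb, h0, hc, rfl, he⟩, rfl⟩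
  | psu n q => obtain ⟨b, hb, rfl⟩ := key hch hc.2.2; exact ⟨b, ⟨hp, hb, h0, hc, rfl, he⟩, rfl⟩
  | oodd n q => obtain ⟨b, hb, rfl⟩ := key hch hc.2.2; exact ⟨b, ⟨hp, hb, h0, hc, rfl, he⟩, rfl⟩
  | oplus n q => obtain ⟨b, hb, rfl⟩ := key hch hc.2; exact ⟨b, ⟨hp, hb, h0, hc, rfl, he⟩, rfl⟩
  | ominus n q => obtain ⟨b, hb, rfl⟩ := key hch hc.2; exact ⟨b, ⟨hp, hb, h0, hc, rfl, he⟩, rfl⟩
  | g2 q => obtain ⟨b, hb, rfl⟩ := key hch hc.2; exact ⟨b, ⟨hp, hb, h0, hc, rfl, he⟩, rfl⟩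
  | f4 q => obtain ⟨b, hb, rfl⟩ := key hch hc; exact ⟨b, ⟨hp, hb, h0, hc, rfl, he⟩, rfl⟩
  | e6 q => obtain ⟨b, hb, rfl⟩ := key hch hc; exact ⟨b, ⟨hp, hb, h0, hc, rfl, he⟩, rfl⟩
  | e7 q => obtain ⟨b, hb, rfl⟩ := key hch hc; exact ⟨b, ⟨hp, hb, h0, hc, rfl, he⟩, rfl⟩
  | e8 q => obtain ⟨b, hb, rfl⟩ := key hch hc; exact ⟨b, ⟨hp, hb, h0, hc, rfl, he⟩, rfl⟩
  | te6 q => obtain ⟨b, hb, rfl⟩ := key hch hc; exact ⟨b, ⟨hp, hb, h0, hc, rfl, he⟩, rfl⟩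
  | td4 q => obtain ⟨b, hb, rfl⟩ := key hch hc; exact ⟨b, ⟨hp, hb, h0, hc, rfl, he⟩, rfl⟩
  | sz q =>
    obtain ⟨m, -, hq⟩ := id hc
    obtain ⟨b, hb, hb2⟩ := key2 Nat.prime_two hch hq
    exact ⟨b, ⟨hp, hb, h0, hc, hb2, he⟩, hb2⟩
  | ree q =>
    obtain ⟨m, -, hq⟩ := id hc
    obtain ⟨b, hb, hb2⟩ := key2 Nat.prime_three hch hq
    exact ⟨b, ⟨hp, hb, h0, hc, hb2, he⟩, hb2⟩
  | tf4 q =>
    obtain ⟨m, -, hq⟩ := id hc
    obtain ⟨b, hb, hb2⟩ := key2 Nat.prime_two hch hq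
    exact ⟨b, ⟨hp, hb, h0, hc, hb2, he⟩, hb2⟩
  | _ => exact absurd hch (by simp [HasChar])

/-- the hypotheses of the theorems `same_*` -/
theorem hy_of {gT g : Grp} {p a : ℕ} {T : Type*} [Group T] [Finite T] {R : Subgroup T}
    (hT : Dt p a (Nat.card T) gT) (hfull : Rad.Full R) (S : Subgroup ↥R) [S.Normal] [IsSimpleGroup S]
    (hna : ¬ IsMulCommutative S) (hC : Subgroup.centralizer (S : Set ↥R) = ⊥) (hn : IsNamed g S)
    (hch : HasChar p g) : ∃ b, Hy p a b (Nat.card S) (Nat.card T) gT g := by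
  obtain ⟨b, hS, hfl⟩ := dt_of_named hT.hp hn hch
  refine ⟨b, hT, hS, (Subgroup.card_subgroup_dvd_card S).trans (Subgroup.card_subgroup_dvd_card R), ?_⟩
  intro w hw h3 hbw hwT
  have h5 : 5 ≤ w := by
    by_contra h
    have : w = 4 := by omega
    rw [this] at hw
    revert hw; norm_num
  refine dvd_socle S hna hC hT.hp hn hch hw h5 (fun f₁ hf₁ => ?_) (hfull w hw hwT)
  rw [hfl] at hf₁
  rw [← Nat.pow_right_injective hT.hp.two_le hf₁]
  exact hbw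

/-- two primes of the same class in a projective special linear group (after helper425) -/
theorem psl_adj {S : Type u} [Group S] [Finite S] {m q : ℕ} (hg : IsNamed (.psl m q) S) {v w k l : ℕ}
    (hk : 3 ≤ k) (hkl : k ∣ l) (hkm : l ≤ m) (hv : Prim q k v) (hw : Prim q l w) (hvw : v ≠ w) (hq : 2 ≤ q) :
    ∃ x : S, orderOf x = v * w := by
  obtain ⟨F, _, _, hF, ⟨e⟩⟩ := hg.real
  have hm : 2 ≤ m := hg.cond.1
  obtain ⟨p, hp⟩ := CharP.exists F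
  have hpp : Fact p.Prime := ⟨CharP.char_is_prime F p⟩
  have hpd : p ∣ q := by
    rw [← hF]
    exact (CharP.cast_eq_zero_iff F p _).1 (FiniteField.cast_card_eq_zero F)
  have hl0 : 0 < l := by
    rcases Nat.eq_zero_or_pos l with h0 | h0
    · exfalso
      subst h0
      have h1 := (hw.dvd_iff (w - 1)).1 (by
        have := Fact.mk hw.prime
        have h2 : ((q : ℕ) : ZMod w) ≠ 0 := by
          rw [Ne, ZMod.natCast_eq_zero_iff]
          exact hw.not_dvd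
        have h3 := ZMod.pow_card_sub_one_eq_one h2
        rw [← Nat.cast_pow] at h3
        have h4 : 1 ≤ q ^ (w - 1) := Nat.one_le_pow _ _ (by omega)
        rw [← ZMod.natCast_eq_zero_iff, Nat.cast_sub h4, h3, Nat.cast_one, sub_self])
      have := Nat.eq_zero_of_zero_dvd h1
      have := hw.prime.two_le
      omega
    · exact h0
  have hle : k ≤ l := Nat.le_of_dvd hl0 hkl
  have hc := Nat.card_congr e.toEquiv
  have hd : ∀ {j z : ℕ}, 3 ≤ j → j ≤ m → Prim q j z → z ∣ Nat.card (Matrix.ProjectiveSpecialLinearGroup (Fin m) F) :=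
    fun {j z} hj hjm hz => by
      rw [← hc]
      exact (H425.Chr.dvd_iff hq hj hz (g := .psl m q) rfl hg.eq).2 hjm
  have hne : ∀ {j z : ℕ}, 3 ≤ j → Prim q j z → z ≠ 2 ∧ z ≠ p := fun {j z} hj hz => by
    refine ⟨by have := hz.odd (by omega); omega, ?_⟩
    rintro rfl
    exact hz.not_dvd hpd
  have hod : ∀ {j z : ℕ}, Prim q j z → orderOf ((q : ℕ) : ZMod z) = j := fun {j z} hz =>
    Num.order_of_prim (by omega) hz
  have h := S2468.result (F := F) p m hm (by omega) v w hv.prime hw.prime (hne hk hv).1 (hne (by omega) hw).1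
    (hne hk hv).2 (hne (by omega) hw).2 hvw (hd hk (by omega) hv) (hd (by omega) hkm hw) k l
    (by rw [hF, hod hv]) (by rw [hF, hod hw]) (by omega) hle
  by_contra hcon
  have h1 : v * w ∉ Set.range (orderOf : Matrix.ProjectiveSpecialLinearGroup (Fin m) F → ℕ) := by
    rintro ⟨y, hy⟩
    exact hcon ⟨e.symm y, by rw [MulEquiv.orderOf_eq, hy]⟩
  exact (h.1 h1).2 hkl

end Cfsg.Agent.H946.Soc
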