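import Cfsg.Agent.H946.ExcSameTop

/-!
# Subgroups of exceptional groups of the same characteristic (helper946)

`Hy p a b c cT gT g`: `c ∣ cT` are the orders of groups with the names `g` over `p ^ b` and `gT` over `p ^ a`, and every
prime `w > max 3 b` of `cT` divides `c`. Then:

* `same_G2`  : `g` is `G₂(q)`, `PSL₂(q³)`, or `Sz(8)` with `q = 4`;
* `same_TD4` : `g` is `³D₄(q)`;
* `same_TF4` : `g` is `²F₄(q)`;
* `same_F4`  : `g` is `F₄(q)` or `PSL₃(q⁴)`.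
-/

set_option autoImplicit false

namespace Cfsg.Agent.H946.Exc

open Cfsg Cfsg.Agent.OrdDiv Cfsg.Agent.H436 Cfsg.Agent.H425.PartP Cfsg.Agent.H425.Chr

variable {p a b c cT : ℕ} {gT g : Grp}

theorem Hy.k1 (H : Hy p a b c cT gT g) {x : ℕ} (k l m d₁ d₂ : ℕ) (hx : 0 < x) (ha : a = m * x) (hb : b = l * x)
    (he : 3 ≤ k * x) (h6 : ¬ (p = 2 ∧ k * x = 6)) (e1 : k / Nat.gcd k l = d₁) (h1 : Kc g d₁)
    (e2 : k / Nat.gcd k m = d₂) (h2 : ¬ Kc gT d₂) : False :=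
  H.kill1 k l m hx ha hb he h6 (e1 ▸ h1) (e2 ▸ h2)

theorem Hy.k2 (H : Hy p a b c cT gT g) {x : ℕ} (k l m d₁ d₂ : ℕ) (hx : 0 < x) (ha : a = m * x) (hb : b = l * x)
    (he : 3 ≤ k * x) (h6 : ¬ (p = 2 ∧ k * x = 6)) (hlk : l ≤ k) (e1 : k / Nat.gcd k m = d₁) (h1 : Kc gT d₁)
    (e2 : k / Nat.gcd k l = d₂) (h2 : ¬ Kc g d₂) : False :=
  H.kill2 k l m hx ha hb he h6 hlk (e1 ▸ h1) (e2 ▸ h2)

/-! ### the classes -/

theorem Kc.g2 {q d : ℕ} (h : Kc (.g2 q) d) : d = 1 ∨ d = 2 ∨ d = 3 ∨ d = 6 := by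
  rcases h with ⟨h3, h⟩ | ⟨h1, h2, -⟩
  · have := K_g2 h; omega
  · omega

theorem Kc.f4 {q d : ℕ} (h : Kc (.f4 q) d) : d = 1 ∨ d = 2 ∨ d = 3 ∨ d = 4 ∨ d = 6 ∨ d = 8 ∨ d = 12 := by
  rcases h with ⟨h3, h⟩ | ⟨h1, h2, -⟩
  · have := K_f4 h; omega
  · omega

theorem Kc.td4 {q d : ℕ} (h : Kc (.td4 q) d) : d = 1 ∨ d = 2 ∨ d = 3 ∨ d = 6 ∨ d = 12 := by
  rcases h with ⟨h3, h⟩ | ⟨h1, h2, -⟩
  · have := K_td4 h; omega
  · omega

theorem Kc.tf4 {q d : ℕ} (h : Kc (.tf4 q) d) : d = 1 ∨ d = 2 ∨ d = 4 ∨ d = 6 ∨ d = 12 := by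
  rcases h with ⟨h3, h⟩ | ⟨h1, h2, -⟩
  · have := K_tf4 h; omega
  · omega

theorem Kc.sz {q d : ℕ} (h : Kc (.sz q) d) : d = 1 ∨ d = 4 := by
  rcases h with ⟨h3, h⟩ | ⟨h1, h2, h3⟩
  · have := K_sz h; omega
  · by_contra hne
    exact h3 (by omega) trivial

theorem Kc.ree {q d : ℕ} (h : Kc (.ree q) d) : d = 1 ∨ d = 2 ∨ d = 6 := by
  rcases h with ⟨h3, h⟩ | ⟨h1, h2, -⟩
  · have := K_ree h; omega
  · omega

theorem Kc.psl {n q d : ℕ} (hn : 2 ≤ n) (h : Kc (.psl n q) d) : d ≤ n := by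
  rcases h with ⟨h3, h⟩ | ⟨h1, h2, -⟩
  · exact h
  · omega

theorem Kc.psu {n q d : ℕ} (h : Kc (.psu n q) d) :
    d ≤ 2 ∨ (d % 4 = 2 ∧ d ≤ 2 * n) ∨ (d % 4 = 0 ∧ d ≤ n) ∨ (d % 2 = 1 ∧ 2 * d ≤ n) := by
  rcases h with ⟨h3, h⟩ | ⟨h1, h2, -⟩
  · rw [K_psu (by omega)] at h
    exact Or.inr h
  · omega

theorem Kc.psp {n q d : ℕ} (h : Kc (.psp n q) d) : d ≤ 2 ∨ (d % 2 = 0 ∧ d ≤ 2 * n) ∨ (d % 2 = 1 ∧ d ≤ n) := by
  rcases h with ⟨h3, h⟩ | ⟨h1, h2, -⟩
  · rw [K_psp (by omega)] at h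
    exact Or.inr h
  · omega

theorem Kc.oodd {n q d : ℕ} (h : Kc (.oodd n q) d) : d ≤ 2 ∨ (d % 2 = 0 ∧ d ≤ 2 * n) ∨ (d % 2 = 1 ∧ d ≤ n) := by
  rcases h with ⟨h3, h⟩ | ⟨h1, h2, -⟩
  · rw [K_oodd (by omega)] at h
    exact Or.inr h
  · omega

theorem Kc.low {g : Grp} (hg : ¬ isSz g) {d : ℕ} (h1 : 1 ≤ d) (h2 : d ≤ 2) : Kc g d := Or.inr ⟨h1, h2, fun _ => hg⟩

theorem sz_odd {q : ℕ} (h : Cond (.sz q)) (hq : q = 2 ^ b) : b % 2 = 1 ∧ 3 ≤ b := by
  obtain ⟨m, hm, h1⟩ := h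
  rw [hq] at h1
  have := Nat.pow_right_injective le_rfl h1
  omega

theorem tf4_odd {q : ℕ} (h : Cond (.tf4 q)) (hq : q = 2 ^ b) : b % 2 = 1 ∧ 3 ≤ b := by
  obtain ⟨m, hm, h1⟩ := h
  rw [hq] at h1
  have := Nat.pow_right_injective le_rfl h1
  omega

theorem ree_odd {q : ℕ} (h : Cond (.ree q)) (hq : q = 3 ^ b) : b % 2 = 1 ∧ 3 ≤ b := by
  obtain ⟨m, hm, h1⟩ := h
  rw [hq] at h1
  have := Nat.pow_right_injective (by norm_num) h1
  omega

/-- the characteristic -/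
theorem two_of {q : ℕ} (hp : p.Prime) (hb : b ≠ 0) (h : ∃ m, 1 ≤ m ∧ q = 2 ^ (2 * m + 1)) (hq : q = p ^ b) : p = 2 := by
  obtain ⟨m, -, h1⟩ := h
  have h2 : p ∣ 2 ^ (2 * m + 1) := by
    rw [← h1, hq]; exact dvd_pow_self p hb
  exact (Nat.prime_dvd_prime_iff_eq hp Nat.prime_two).1 (hp.dvd_of_dvd_pow h2)

theorem three_of {q : ℕ} (hp : p.Prime) (hb : b ≠ 0) (h : ∃ m, 1 ≤ m ∧ q = 3 ^ (2 * m + 1)) (hq : q = p ^ b) :
    p = 3 := by
  obtain ⟨m, -, h1⟩ := h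
  have h2 : p ∣ 3 ^ (2 * m + 1) := by
    rw [← h1, hq]; exact dvd_pow_self p hb
  exact (Nat.prime_dvd_prime_iff_eq hp Nat.prime_three).1 (hp.dvd_of_dvd_pow h2)

/-- the names with `ex g ≤ top g` -/
theorem list_A {g : Grp} (hg : Cond g) (hq : qOf g ≠ 0) (h : ex g ≤ top g) :
    (∃ u, g = .psl 2 u) ∨ (∃ u, g = .psl 3 u) ∨ (∃ u, g = .psp 2 u) ∨ (∃ u, g = .psu 3 u) ∨ (∃ u, g = .psu 4 u) ∨
      (∃ u, g = .psu 5 u) ∨ (∃ u, g = .g2 u) ∨ (∃ u, g = .td4 u) ∨ (∃ u, g = .sz u) ∨ (∃ u, g = .ree u) ∨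
      (∃ u, g = .tf4 u) := by
  cases g with
  | psl n u =>
    have h1 : 2 ≤ n := hg.1
    have h2 : n * (n - 1) / 2 ≤ n := h
    have h3 : n ≤ 3 := by
      by_contra h4
      have h5 : n * 3 ≤ n * (n - 1) := Nat.mul_le_mul_left n (by omega)
      omega
    rcases (show n = 2 ∨ n = 3 by omega) with rfl | rfl
    · exact Or.inl ⟨u, rfl⟩
    · exact Or.inr (Or.inl ⟨u, rfl⟩)
  | psp m u =>
    have h1 : 2 ≤ m := hg.1
    have h2 : m ^ 2 ≤ 2 * m := h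
    have h3 : m ≤ 2 := by
      by_contra h4
      have h5 : m * 3 ≤ m * m := Nat.mul_le_mul_left m (by omega)
      rw [sq] at h2
      omega
    obtain rfl : m = 2 := by omega
    exact Or.inr (Or.inr (Or.inl ⟨u, rfl⟩))
  | psu n u =>
    have h1 : 3 ≤ n := hg.1
    have h2 : n * (n - 1) / 2 ≤ 2 * (n - (1 - n % 2)) := h
    have h3 : n ≤ 5 := by
      by_contra h4
      have h5 : n * 5 ≤ n * (n - 1) := Nat.mul_le_mul_left n (by omega)
      omega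
    rcases (show n = 3 ∨ n = 4 ∨ n = 5 by omega) with rfl | rfl | rfl
    · exact Or.inr (Or.inr (Or.inr (Or.inl ⟨u, rfl⟩)))
    · exact Or.inr (Or.inr (Or.inr (Or.inr (Or.inl ⟨u, rfl⟩))))
    · exact Or.inr (Or.inr (Or.inr (Or.inr (Or.inr (Or.inl ⟨u, rfl⟩)))))
  | oodd m u =>
    exfalso
    have h1 : 3 ≤ m := hg.1
    have h2 : m ^ 2 ≤ 2 * m := h
    have h5 : m * 3 ≤ m * m := Nat.mul_le_mul_left m (by omega)
    rw [sq] at h2
    omega
  | oplus m u =>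
    exfalso
    have h1 : 4 ≤ m := hg.1
    have h2 : m * (m - 1) ≤ 2 * (m - 1) := h
    have h5 : 4 * (m - 1) ≤ m * (m - 1) := Nat.mul_le_mul_right _ (by omega)
    omega
  | ominus m u =>
    exfalso
    have h1 : 4 ≤ m := hg.1
    have h2 : m * (m - 1) ≤ 2 * m := h
    have h5 : m * 3 ≤ m * (m - 1) := Nat.mul_le_mul_left m (by omega)
    omega
  | g2 u => exact Or.inr (Or.inr (Or.inr (Or.inr (Or.inr (Or.inr (Or.inl ⟨u, rfl⟩))))))
  | f4 u => exact absurd h (by change ¬ (24 ≤ 12); norm_num)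
  | e6 u => exact absurd h (by change ¬ (36 ≤ 12); norm_num)
  | e7 u => exact absurd h (by change ¬ (63 ≤ 18); norm_num)
  | e8 u => exact absurd h (by change ¬ (120 ≤ 30); norm_num)
  | te6 u => exact absurd h (by change ¬ (36 ≤ 18); norm_num)
  | td4 u => exact Or.inr (Or.inr (Or.inr (Or.inr (Or.inr (Or.inr (Or.inr (Or.inl ⟨u, rfl⟩)))))))
  | sz u => exact Or.inr (Or.inr (Or.inr (Or.inr (Or.inr (Or.inr (Or.inr (Or.inr (Or.inl ⟨u, rfl⟩))))))))
  | ree u => exact Or.inr (Or.inr (Or.inr (Or.inr (Or.inr (Or.inr (Or.inr (Or.inr (Or.inr (Or.inl ⟨u, rfl⟩)))))))))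
  | tf4 u => exact Or.inr (Or.inr (Or.inr (Or.inr (Or.inr (Or.inr (Or.inr (Or.inr (Or.inr (Or.inr ⟨u, rfl⟩)))))))))
  | _ => exact absurd rfl hq

/-- the names with `ex g ≤ 2 top g` -/
theorem list_B {g : Grp} (hg : Cond g) (hq : qOf g ≠ 0) (h : ex g ≤ 2 * top g) :
    (∃ n u, n ≤ 5 ∧ g = .psl n u) ∨ (∃ m u, m ≤ 4 ∧ g = .psp m u) ∨ (∃ m u, m ≤ 4 ∧ g = .oodd m u) ∨
      (∃ n u, n ≤ 9 ∧ g = .psu n u) ∨ (∃ u, g = .oplus 4 u) ∨ (∃ m u, m ≤ 5 ∧ g = .ominus m u) ∨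
      (∃ u, g = .g2 u) ∨ (∃ u, g = .f4 u) ∨ (∃ u, g = .te6 u) ∨ (∃ u, g = .td4 u) ∨ (∃ u, g = .sz u) ∨
      (∃ u, g = .ree u) ∨ (∃ u, g = .tf4 u) := by
  cases g with
  | psl n u =>
    have h1 : 2 ≤ n := hg.1
    have h2 : n * (n - 1) / 2 ≤ 2 * n := h
    have h3 : n ≤ 5 := by
      by_contra h4
      have h5 : n * 5 ≤ n * (n - 1) := Nat.mul_le_mul_left n (by omega)
      omega
    exact Or.inl ⟨n, u, h3, rfl⟩
  | psp m u =>
    have h2 : m ^ 2 ≤ 2 * (2 * m) := h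
    have h1 : 2 ≤ m := hg.1
    have h3 : m ≤ 4 := by
      by_contra h4
      have h5 : m * 5 ≤ m * m := Nat.mul_le_mul_left m (by omega)
      rw [sq] at h2
      omega
    exact Or.inr (Or.inl ⟨m, u, h3, rfl⟩)
  | oodd m u =>
    have h2 : m ^ 2 ≤ 2 * (2 * m) := h
    have h1 : 3 ≤ m := hg.1
    have h3 : m ≤ 4 := by
      by_contra h4
      have h5 : m * 5 ≤ m * m := Nat.mul_le_mul_left m (by omega)
      rw [sq] at h2
      omega
    exact Or.inr (Or.inr (Or.inl ⟨m, u, h3, rfl⟩))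
  | psu n u =>
    have h1 : 3 ≤ n := hg.1
    have h2 : n * (n - 1) / 2 ≤ 2 * (2 * (n - (1 - n % 2))) := h
    have h3 : n ≤ 9 := by
      by_contra h4
      have h5 : n * 9 ≤ n * (n - 1) := Nat.mul_le_mul_left n (by omega)
      omega
    exact Or.inr (Or.inr (Or.inr (Or.inl ⟨n, u, h3, rfl⟩)))
  | oplus m u =>
    have h1 : 4 ≤ m := hg.1
    have h2 : m * (m - 1) ≤ 2 * (2 * (m - 1)) := h
    have h3 : m ≤ 4 := by
      by_contra h4
      have h5 : 5 * (m - 1) ≤ m * (m - 1) := Nat.mul_le_mul_right _ (by omega)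
      omega
    obtain rfl : m = 4 := by omega
    exact Or.inr (Or.inr (Or.inr (Or.inr (Or.inl ⟨u, rfl⟩))))
  | ominus m u =>
    have h1 : 4 ≤ m := hg.1
    have h2 : m * (m - 1) ≤ 2 * (2 * m) := h
    have h3 : m ≤ 5 := by
      by_contra h4
      have h5 : m * 5 ≤ m * (m - 1) := Nat.mul_le_mul_left m (by omega)
      omega
    exact Or.inr (Or.inr (Or.inr (Or.inr (Or.inr (Or.inl ⟨m, u, h3, rfl⟩)))))
  | g2 u => exact Or.inr (Or.inr (Or.inr (Or.inr (Or.inr (Or.inr (Or.inl ⟨u, rfl⟩))))))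
  | f4 u => exact Or.inr (Or.inr (Or.inr (Or.inr (Or.inr (Or.inr (Or.inr (Or.inl ⟨u, rfl⟩)))))))
  | e6 u => exact absurd h (by change ¬ (36 ≤ 2 * 12); norm_num)
  | e7 u => exact absurd h (by change ¬ (63 ≤ 2 * 18); norm_num)
  | e8 u => exact absurd h (by change ¬ (120 ≤ 2 * 30); norm_num)
  | te6 u => exact Or.inr (Or.inr (Or.inr (Or.inr (Or.inr (Or.inr (Or.inr (Or.inr (Or.inl ⟨u, rfl⟩))))))))
  | td4 u => exact Or.inr (Or.inr (Or.inr (Or.inr (Or.inr (Or.inr (Or.inr (Or.inr (Or.inr (Or.inl ⟨u, rfl⟩)))))))))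
  | sz u =>
    exact Or.inr (Or.inr (Or.inr (Or.inr (Or.inr (Or.inr (Or.inr (Or.inr (Or.inr (Or.inr (Or.inl ⟨u, rfl⟩))))))))))
  | ree u =>
    exact Or.inr (Or.inr (Or.inr (Or.inr (Or.inr (Or.inr (Or.inr (Or.inr (Or.inr (Or.inr (Or.inr
      (Or.inl ⟨u, rfl⟩)))))))))))
  | tf4 u =>
    exact Or.inr (Or.inr (Or.inr (Or.inr (Or.inr (Or.inr (Or.inr (Or.inr (Or.inr (Or.inr (Or.inr
      (Or.inr ⟨u, rfl⟩)))))))))))
  | _ => exact absurd rfl hq

theorem Hy.pos (H : Hy p a b c cT gT g) : 0 < a ∧ 0 < b :=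
  ⟨Nat.pos_of_ne_zero H.T.hf, Nat.pos_of_ne_zero H.S.hf⟩

/-! ### `G₂(q)` -/

theorem K6 {q : ℕ} : Kc (.g2 q) 6 := Or.inl ⟨by norm_num, Or.inr dvd_rfl⟩
theorem K3 {q : ℕ} : Kc (.g2 q) 3 := Or.inl ⟨by norm_num, Or.inr (by decide)⟩

theorem same_G2 (H : Hy p a b c cT (.g2 (p ^ a)) g) (hq : 2 < p ^ a) :
    g = .g2 (p ^ a) ∨ g = .psl 2 ((p ^ a) ^ 3) ∨ (p = 2 ∧ a = 2 ∧ g = .sz 8) := by
  obtain ⟨ha, hb⟩ := H.pos
  have hne : ¬ (p = 2 ∧ a = 1) := by
    rintro ⟨rfl, rfl⟩; norm_num at hq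
  have h1 := H.top_eq (eT := 6) le_rfl K6 (fun d hd => by have := hd.g2; omega) (by omega)
  have h2 := H.ex_le h1
  have h3 : ex g ≤ top g := by change ex g * 6 ≤ top g * 6 at h2; omega
  have hq' : qOf g ≠ 0 := by rw [H.S.hq]; exact (pow_pos H.S.hp.pos b).ne'
  have hu := H.S.hq
  rcases list_A H.S.cond hq' h3 with ⟨u, rfl⟩ | ⟨u, rfl⟩ | ⟨u, rfl⟩ | ⟨u, rfl⟩ | ⟨u, rfl⟩ | ⟨u, rfl⟩ | ⟨u, rfl⟩ |
    ⟨u, rfl⟩ | ⟨u, rfl⟩ | ⟨u, rfl⟩ | ⟨u, rfl⟩
  · -- PSL₂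
    have h4 : 2 * b = 6 * a := h1
    obtain rfl : b = a * 3 := by omega
    right; left
    obtain rfl : u = p ^ (a * 3) := hu
    rw [pow_mul]
  · -- PSL₃
    have h4 : 3 * b = 6 * a := h1
    exact (H.k1 4 2 1 2 4 ha (by omega) (by omega) (by omega) (by omega) (by decide) (.low (by exact id) (by norm_num)
      le_rfl) (by decide) (fun h => by have := h.g2; omega)).elim
  · -- PSp₄
    have h4 : 4 * b = 6 * a := h1
    obtain ⟨h, rfl, rfl⟩ : ∃ h, a = 2 * h ∧ b = 3 * h := ⟨b - a, by omega, by omega⟩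
    exfalso
    obtain rfl : u = p ^ (3 * h) := hu
    have hu2 : (p ^ (3 * h)) ^ 2 = (p ^ (2 * h)) ^ 3 := by rw [← pow_mul, ← pow_mul]; ring_nf
    obtain ⟨w, hw⟩ := exists_prim (q := p ^ (2 * h)) (e := 3) (by omega) le_rfl (by omega)
    have h5 : Nat.gcd 2 (p ^ (3 * h) - 1) * c = (p ^ (3 * h)) ^ (2 ^ 2) *
        ((List.range 2).map fun i => (p ^ (3 * h)) ^ (2 * (i + 1)) - 1).prod := H.S.eq
    have h6 : ((List.range 2).map fun i => (p ^ (3 * h)) ^ (2 * (i + 1)) - 1).prod =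
        ((p ^ (2 * h)) ^ 3 - 1) * ((p ^ (2 * h)) ^ 6 - 1) := by
      simp only [List.range_succ, List.range_zero, List.nil_append, List.map_append, List.map_cons, List.map_nil,
          List.prod_append, List.prod_cons, List.prod_nil, mul_one, List.cons_append]
      rw [show 2 * (0 + 1) = 2 by norm_num, show 2 * (1 + 1) = 2 * 2 by norm_num, pow_mul _ 2 2, hu2, ← pow_mul _ 3 2]
    have h7 : (p ^ (2 * h)) ^ 6 - 1 = ((p ^ (2 * h)) ^ 3 - 1) * ((p ^ (2 * h)) ^ 3 + 1) := by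
      have : (p ^ (2 * h)) ^ 6 = ((p ^ (2 * h)) ^ 3) ^ 2 := by rw [← pow_mul (p ^ (2 * h)) 3 2]
      rw [this, sq_sub, mul_comm]
    have h8 : 1 * cT = (p ^ (2 * h)) ^ 6 * (((p ^ (2 * h)) ^ 2 - 1) * ((p ^ (2 * h)) ^ 6 - 1)) := H.T.eq
    obtain ⟨k, hk⟩ := H.dvd
    set q := p ^ (2 * h) with hqd
    have h9 : 0 < q ^ 3 - 1 := by
      have : 2 ^ 3 ≤ q ^ 3 := Nat.pow_le_pow_left (by omega) 3
      omega
    have h10 : (p ^ (3 * h)) ^ (2 ^ 2) * ((q ^ 3 - 1) * (q ^ 3 + 1)) * k * (q ^ 3 - 1) =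
        Nat.gcd 2 (p ^ (3 * h) - 1) * (q ^ 6 * (q ^ 2 - 1) * (q ^ 3 + 1)) * (q ^ 3 - 1) := by
      calc (p ^ (3 * h)) ^ (2 ^ 2) * ((q ^ 3 - 1) * (q ^ 3 + 1)) * k * (q ^ 3 - 1)
          = (p ^ (3 * h)) ^ (2 ^ 2) * ((q ^ 3 - 1) * ((q ^ 3 - 1) * (q ^ 3 + 1))) * k := by ring
        _ = Nat.gcd 2 (p ^ (3 * h) - 1) * c * k := by rw [h5, h6, h7]
        _ = Nat.gcd 2 (p ^ (3 * h) - 1) * (1 * cT) := by rw [hk]; ring
        _ = _ := by rw [h8, h7]; ring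
    have h11 := Nat.eq_of_mul_eq_mul_right h9 h10
    have h12 : w ∣ Nat.gcd 2 (p ^ (3 * h) - 1) * (q ^ 6 * (q ^ 2 - 1) * (q ^ 3 + 1)) := by
      rw [← h11]
      exact (((hw.dvd dvd_rfl).mul_right _).mul_left _).mul_right _
    have h13 := hw.not_dvd_two le_rfl
    rcases hw.prime.dvd_mul.1 h12 with h | h
    · exact h13 (h.trans (Nat.gcd_dvd_left _ _))
    rcases hw.prime.dvd_mul.1 h with h | h
    · rcases hw.prime.dvd_mul.1 h with h | h
      · exact hw.not_dvd_pow _ h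
      · exact hw.not_dvd_sub (by norm_num) h
    · have h14 := Nat.dvd_sub h (hw.dvd dvd_rfl)
      rw [show q ^ 3 + 1 - (q ^ 3 - 1) = 2 by omega] at h14
      exact h13 h14
  · -- PSU₃
    have h4 : 6 * b = 6 * a := h1
    exfalso
    by_cases hs : p = 2 ∧ a = 2
    · obtain ⟨rfl, rfl⟩ := hs
      obtain rfl : b = 2 := by omega
      obtain rfl : u = 2 ^ 2 := hu
      have h5 : Nat.gcd 3 (2 ^ 2 + 1) * (2 ^ 2 + 1) * c = (2 ^ 2) ^ (3 * (3 - 1) / 2) *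
        ((List.range 3).map fun i => if Nat.beq (i % 2) 0 then (2 ^ 2) ^ (i + 1) + 1 else (2 ^ 2) ^ (i + 1) - 1).prod :=
        H.S.eq
      have h6 : c = 62400 := by
        simp [List.range_succ] at h5
        omega
      have h8 : 1 * cT = (2 ^ 2) ^ 6 * (((2 ^ 2) ^ 2 - 1) * ((2 ^ 2) ^ 6 - 1)) := H.T.eq
      have h7 := H.pr 7 (by norm_num) (by norm_num) (by norm_num) (by rw [one_mul] at h8; rw [h8]; norm_num)
      rw [h6] at h7
      norm_num at h7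
    · exact H.k2 3 1 1 3 3 ha (by omega) (by omega) (by omega) (by omega) (by norm_num) (by decide) K3 (by decide)
        (fun h => by have := h.psu; omega)
  · -- PSU₄
    have h4 : 6 * b = 6 * a := h1
    exact (H.k1 4 1 1 4 4 ha (by omega) (by omega) (by omega) (by omega) (by decide)
      (Or.inl ⟨by norm_num, (K_psu (by norm_num)).2 (by norm_num)⟩) (by decide) (fun h => by have := h.g2; omega)).elim
  · -- PSU₅
    have h4 : 10 * b = 6 * a := h1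
    obtain ⟨h, rfl, rfl⟩ : ∃ h, a = 5 * h ∧ b = 3 * h := ⟨2 * b - a, by omega, by omega⟩
    have hh : 0 < h := by omega
    exact (H.k1 12 3 5 4 12 hh rfl rfl (by omega) (by omega) (by decide)
      (Or.inl ⟨by norm_num, (K_psu (by norm_num)).2 (by norm_num)⟩) (by decide) (fun h => by have := h.g2; omega)).elim
  · -- G₂
    have h4 : 6 * b = 6 * a := h1
    obtain rfl : b = a := by omega
    obtain rfl : u = p ^ b := hu
    exact Or.inl rfl
  · -- ³D₄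
    have h4 : 12 * b = 6 * a := h1
    obtain rfl : a = 2 * b := by omega
    exact (H.k2 4 1 2 2 4 hb rfl (by omega) (by omega) (by omega) (by norm_num) (by decide)
      (.low (by exact id) (by norm_num) le_rfl) (by decide) (fun h => by have := h.td4; omega)).elim
  · -- Sz
    have h4 : 4 * b = 6 * a := h1
    obtain ⟨h, rfl, rfl⟩ : ∃ h, a = 2 * h ∧ b = 3 * h := ⟨b - a, by omega, by omega⟩
    have hh : 0 < h := by omega
    have hp2 := two_of H.S.hp H.S.hf H.S.cond hu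
    subst hp2
    by_cases h1' : h = 1
    · subst h1'
      right; right
      refine ⟨rfl, rfl, ?_⟩
      obtain rfl : u = 2 ^ (3 * 1) := hu
      norm_num
    · exact (H.k2 6 3 2 3 2 hh rfl rfl (by omega) (by omega) (by norm_num) (by decide) K3 (by decide)
        (fun h => by have := h.sz; omega)).elim
  · -- Ree
    have h4 : 6 * b = 6 * a := h1
    have hp3 := three_of H.S.hp H.S.hf H.S.cond hu
    subst hp3
    exact (H.k2 3 1 1 3 3 ha (by omega) (by omega) (by omega) (by omega) (by norm_num) (by decide) K3 (by decide)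
        (fun h => by have := h.ree; omega)).elim
  · -- ²F₄
    have h4 : 12 * b = 6 * a := h1
    obtain rfl : a = 2 * b := by omega
    have hp2 := two_of H.S.hp H.S.hf H.S.cond hu
    subst hp2
    obtain rfl : u = 2 ^ b := hu
    have hodd := tf4_odd H.S.cond rfl
    exact (H.k2 3 1 2 3 3 hb rfl (by omega) (by omega) (by omega) (by norm_num) (by decide) K3 (by decide)
        (fun h => by have := h.tf4; omega)).elim

/-! ### `³D₄(q)` -/

theorem same_TD4 (H : Hy p a b c cT (.td4 (p ^ a)) g) : g = .td4 (p ^ a) := by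
  obtain ⟨ha, hb⟩ := H.pos
  have h1 := H.top_eq (eT := 12) (by norm_num) (Or.inl ⟨by norm_num, Or.inr (Or.inr ⟨dvd_rfl, by change ¬ (12 ∣ 4); decide⟩)⟩)
    (fun d hd => by have := hd.td4; omega) (by omega)
  have h2 := H.ex_le h1
  have h3 : ex g ≤ top g := by change ex g * 12 ≤ top g * 12 at h2; omega
  have hq' : qOf g ≠ 0 := by rw [H.S.hq]; exact (pow_pos H.S.hp.pos b).ne'
  have hu := H.S.hq
  rcases list_A H.S.cond hq' h3 with ⟨u, rfl⟩ | ⟨u, rfl⟩ | ⟨u, rfl⟩ | ⟨u, rfl⟩ | ⟨u, rfl⟩ | ⟨u, rfl⟩ | ⟨u, rfl⟩ |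
    ⟨u, rfl⟩ | ⟨u, rfl⟩ | ⟨u, rfl⟩ | ⟨u, rfl⟩
  · -- PSL₂
    have h4 : 2 * b = 12 * a := h1
    exact (H.k1 4 6 1 2 4 ha (by omega) (by omega) (by omega) (by omega) (by decide) (.low (by exact id) (by norm_num)
      le_rfl) (by decide) (fun h => by have := h.td4; omega)).elim
  · -- PSL₃
    have h4 : 3 * b = 12 * a := h1
    exact (H.k1 8 4 1 2 8 ha (by omega) (by omega) (by omega) (by omega) (by decide) (.low (by exact id) (by norm_num)
      le_rfl) (by decide) (fun h => by have := h.td4; omega)).elim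
  · -- PSp₄
    have h4 : 4 * b = 12 * a := h1
    exact (H.k1 4 3 1 4 4 ha (by omega) (by omega) (by omega) (by omega) (by decide)
      (Or.inl ⟨by norm_num, (K_psp (by norm_num)).2 (by norm_num)⟩) (by decide) (fun h => by have := h.td4; omega)).elim
  · -- PSU₃
    have h4 : 6 * b = 12 * a := h1
    exact (H.k1 4 2 1 2 4 ha (by omega) (by omega) (by omega) (by omega) (by decide) (.low (by exact id) (by norm_num)
      le_rfl) (by decide) (fun h => by have := h.td4; omega)).elim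
  · -- PSU₄
    have h4 : 6 * b = 12 * a := h1
    exact (H.k1 4 2 1 2 4 ha (by omega) (by omega) (by omega) (by omega) (by decide) (.low (by exact id) (by norm_num)
      le_rfl) (by decide) (fun h => by have := h.td4; omega)).elim
  · -- PSU₅
    have h4 : 10 * b = 12 * a := h1
    obtain ⟨h, rfl, rfl⟩ : ∃ h, a = 5 * h ∧ b = 6 * h := ⟨b - a, by omega, by omega⟩
    have hh : 0 < h := by omega
    exact (H.k1 24 6 5 4 24 hh rfl rfl (by omega) (by omega) (by decide)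
      (Or.inl ⟨by norm_num, (K_psu (by norm_num)).2 (by norm_num)⟩) (by decide) (fun h => by have := h.td4; omega)).elim
  · -- G₂
    have h4 : 6 * b = 12 * a := h1
    exact (H.k1 4 2 1 2 4 ha (by omega) (by omega) (by omega) (by omega) (by decide) (.low (by exact id) (by norm_num)
      le_rfl) (by decide) (fun h => by have := h.td4; omega)).elim
  · -- ³D₄
    have h4 : 12 * b = 12 * a := h1
    obtain rfl : b = a := by omega
    obtain rfl : u = p ^ b := hu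
    rfl
  · -- Sz
    have h4 : 4 * b = 12 * a := h1
    exact (H.k1 4 3 1 4 4 ha (by omega) (by omega) (by omega) (by omega) (by decide)
      (Or.inl ⟨by norm_num, Or.inr ⟨dvd_rfl, by decide⟩⟩) (by decide) (fun h => by have := h.td4; omega)).elim
  · -- Ree
    have h4 : 6 * b = 12 * a := h1
    have hp3 := three_of H.S.hp H.S.hf H.S.cond hu
    subst hp3
    obtain rfl : u = 3 ^ b := hu
    have := ree_odd H.S.cond rfl
    omega
  · -- ²F₄
    have h4 : 12 * b = 12 * a := h1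
    exact (H.k1 4 1 1 4 4 ha (by omega) (by omega) (by omega) (by omega) (by decide)
      (Or.inl ⟨by norm_num, Or.inr (Or.inr (Or.inl dvd_rfl))⟩) (by decide) (fun h => by have := h.td4; omega)).elim

/-! ### `²F₄(q)` -/

theorem same_TF4 (H : Hy p a b c cT (.tf4 (p ^ a)) g) : g = .tf4 (p ^ a) := by
  obtain ⟨ha, hb⟩ := H.pos
  have hp2 := two_of H.T.hp H.T.hf H.T.cond rfl
  subst hp2
  have hodd := tf4_odd H.T.cond rfl
  have h1 := H.top_eq (eT := 12) (by norm_num)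
    (Or.inl ⟨by norm_num, Or.inr (Or.inr (Or.inr ⟨dvd_rfl, by change ¬ (12 ∣ 6); decide⟩))⟩)
    (fun d hd => by have := hd.tf4; omega) (by omega)
  have h2 := H.ex_le h1
  have h3 : ex g ≤ top g := by change ex g * 12 ≤ top g * 12 at h2; omega
  have hq' : qOf g ≠ 0 := by rw [H.S.hq]; exact (pow_pos H.S.hp.pos b).ne'
  have hu := H.S.hq
  rcases list_A H.S.cond hq' h3 with ⟨u, rfl⟩ | ⟨u, rfl⟩ | ⟨u, rfl⟩ | ⟨u, rfl⟩ | ⟨u, rfl⟩ | ⟨u, rfl⟩ | ⟨u, rfl⟩ |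
    ⟨u, rfl⟩ | ⟨u, rfl⟩ | ⟨u, rfl⟩ | ⟨u, rfl⟩
  · -- PSL₂
    have h4 : 2 * b = 12 * a := h1
    exact (H.k1 3 6 1 1 3 ha (by omega) (by omega) (by omega) (by omega) (by decide) (.low (by exact id) le_rfl
      (by norm_num)) (by decide) (fun h => by have := h.tf4; omega)).elim
  · -- PSL₃
    have h4 : 3 * b = 12 * a := h1
    exact (H.k1 3 4 1 3 3 ha (by omega) (by omega) (by omega) (by omega) (by decide) (Or.inl ⟨le_rfl, le_refl 3⟩)
      (by decide) (fun h => by have := h.tf4; omega)).elim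
  · -- PSp₄
    have h4 : 4 * b = 12 * a := h1
    exact (H.k1 3 3 1 1 3 ha (by omega) (by omega) (by omega) (by omega) (by decide) (.low (by exact id) le_rfl
      (by norm_num)) (by decide) (fun h => by have := h.tf4; omega)).elim
  · -- PSU₃
    have h4 : 6 * b = 12 * a := h1
    exact (H.k2 6 2 1 6 3 ha (by omega) (by omega) (by omega) (by omega) (by norm_num) (by decide)
      (Or.inl ⟨by norm_num, Or.inr (Or.inl ⟨dvd_rfl, by change ¬ (6 ∣ 3); decide⟩)⟩) (by decide)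
        (fun h => by have := h.psu; omega)).elim
  · -- PSU₄
    have h4 : 6 * b = 12 * a := h1
    exact (H.k1 8 2 1 4 8 ha (by omega) (by omega) (by omega) (by omega) (by decide)
      (Or.inl ⟨by norm_num, (K_psu (by norm_num)).2 (by norm_num)⟩) (by decide) (fun h => by have := h.tf4; omega)).elim
  · -- PSU₅
    have h4 : 10 * b = 12 * a := h1
    obtain ⟨h, rfl, rfl⟩ : ∃ h, a = 5 * h ∧ b = 6 * h := ⟨b - a, by omega, by omega⟩
    have hh : 0 < h := by omega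
    exact (H.k1 24 6 5 4 24 hh rfl rfl (by omega) (by omega) (by decide)
      (Or.inl ⟨by norm_num, (K_psu (by norm_num)).2 (by norm_num)⟩) (by decide) (fun h => by have := h.tf4; omega)).elim
  · -- G₂
    have h4 : 6 * b = 12 * a := h1
    exact (H.k1 3 2 1 3 3 ha (by omega) (by omega) (by omega) (by omega) (by decide) K3 (by decide)
      (fun h => by have := h.tf4; omega)).elim
  · -- ³D₄
    have h4 : 12 * b = 12 * a := h1
    exact (H.k1 3 1 1 3 3 ha (by omega) (by omega) (by omega) (by omega) (by decide)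
      (Or.inl ⟨by norm_num, Or.inr (Or.inl (by decide))⟩) (by decide) (fun h => by have := h.tf4; omega)).elim
  · -- Sz
    have h4 : 4 * b = 12 * a := h1
    exact (H.k1 3 3 1 1 3 ha (by omega) (by omega) (by omega) (by omega) (by decide)
      (Or.inr ⟨le_rfl, by norm_num, fun h => absurd h (by norm_num)⟩) (by decide)
      (fun h => by have := h.tf4; omega)).elim
  · -- Ree
    have hp3 := three_of H.S.hp H.S.hf H.S.cond hu
    omega
  · -- ²F₄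
    have h4 : 12 * b = 12 * a := h1
    obtain rfl : b = a := by omega
    obtain rfl : u = 2 ^ b := hu
    rfl

end Cfsg.Agent.H946.Exc
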