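import Cfsg.Agent.H946.ExcSame

/-!
# Subgroups of `F₄(q)` of the same characteristic (helper946)
-/

set_option autoImplicit false

namespace Cfsg.Agent.H946.Exc

open Cfsg Cfsg.Agent.OrdDiv Cfsg.Agent.H436 Cfsg.Agent.H425.PartP Cfsg.Agent.H425.Chr

variable {p a b c cT : ℕ} {gT g : Grp}

theorem K8 {q : ℕ} : Kc (.f4 q) 8 := Or.inl ⟨by norm_num, Or.inr (Or.inr (Or.inl dvd_rfl))⟩

theorem Kc.oplus4 {q d : ℕ} (h : Kc (.oplus 4 q) d) : d = 1 ∨ d = 2 ∨ d = 3 ∨ d = 4 ∨ d = 6 := by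
  rcases h with ⟨h3, h⟩ | ⟨h1, h2, -⟩
  · rw [K_oplus (by norm_num) (by omega)] at h
    omega
  · omega

theorem Kc.ominus {m q d : ℕ} (hm : 4 ≤ m) (hm5 : m ≤ 5) (h : Kc (.ominus m q) d) : d ≤ 8 ∨ d = 10 := by
  rcases h with ⟨h3, h⟩ | ⟨h1, h2, -⟩
  · rcases h with h | ⟨k, hk, hkm, h⟩
    · have h4 := Nat.le_of_dvd (by omega) h.1
      have h5 := h.1
      rcases (show m = 4 ∨ m = 5 by omega) with rfl | rfl
      · omega
      · by_cases h6 : d = 9
        · subst h6; revert h5; decide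
        · omega
    · have := Nat.le_of_dvd (by omega) h
      omega
  · omega

theorem gcd_two_cancel {w q : ℕ} (hw : Prim q 4 w) {A B C D X : ℕ} (hX : 0 < X) (h : A * (q ^ 4 - 1) * B * X = C * D * X)
    (hC : ¬ w ∣ C) (hD : ¬ w ∣ D) : False := by
  have h1 := Nat.eq_of_mul_eq_mul_right hX h
  have h2 : w ∣ C * D := by
    rw [← h1]
    exact ((hw.dvd dvd_rfl).mul_left _).mul_right _
  rcases hw.prime.dvd_mul.1 h2 with h3 | h3
  · exact hC h3
  · exact hD h3

theorem prB_three (u : ℕ) : prB u 3 = (u ^ 2 - 1) * (u ^ 4 - 1) * (u ^ 6 - 1) := by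
  unfold prB
  simp only [List.range_succ, List.range_zero, List.nil_append, List.map_append, List.map_cons, List.map_nil,
    List.prod_append, List.prod_cons, List.prod_nil, mul_one, List.cons_append]
  ring

theorem f4_sub {q : ℕ} (hq : 2 ≤ q) : ∀ i, i ≠ 0 → 0 < q ^ i - 1 := by
  intro i hi
  have : 2 ^ 1 ≤ q ^ i := (Nat.pow_le_pow_left hq 1).trans (Nat.pow_le_pow_right (by omega) (by omega))
  omega

/-- rank three over `q²` -/
theorem kill_rank3 {q d c cT k : ℕ} (hq : 2 ≤ q) (hd : d ∣ 2) (h5 : d * c = (q ^ 2) ^ 9 * prB (q ^ 2) 3)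
    (h8 : 1 * cT = q ^ 24 * ((q ^ 2 - 1) * (q ^ 6 - 1) * (q ^ 8 - 1) * (q ^ 12 - 1))) (hk : cT = c * k) : False := by
  obtain ⟨w, hw⟩ := exists_prim (q := q) (e := 4) hq (by norm_num) (by omega)
  rw [prB_three] at h5
  have e1 : (q ^ 2) ^ 2 = q ^ 4 := by ring
  have e2 : (q ^ 2) ^ 4 = q ^ 8 := by ring
  have e3 : (q ^ 2) ^ 6 = q ^ 12 := by ring
  rw [e1, e2, e3] at h5
  have hX : 0 < (q ^ 8 - 1) * (q ^ 12 - 1) := Nat.mul_pos (f4_sub hq 8 (by norm_num)) (f4_sub hq 12 (by norm_num))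
  refine gcd_two_cancel hw (A := (q ^ 2) ^ 9) (B := k) (C := d * (q ^ 24 * (q ^ 2 - 1))) (D := q ^ 6 - 1) hX ?_ ?_ ?_
  · calc (q ^ 2) ^ 9 * (q ^ 4 - 1) * k * ((q ^ 8 - 1) * (q ^ 12 - 1))
        = (q ^ 2) ^ 9 * ((q ^ 4 - 1) * (q ^ 8 - 1) * (q ^ 12 - 1)) * k := by ring
      _ = d * (1 * (c * k)) := by rw [← h5]; ring
      _ = _ := by rw [← hk, h8]; ring
  · intro h
    rcases hw.prime.dvd_mul.1 h with h | h
    · exact hw.not_dvd_two (by norm_num) (h.trans hd)
    rcases hw.prime.dvd_mul.1 h with h | h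
    · exact hw.not_dvd_pow _ h
    · exact hw.not_dvd_sub (by norm_num) h
  · exact hw.not_dvd_sub (by norm_num)

theorem same_F4 (H : Hy p a b c cT (.f4 (p ^ a)) g) : g = .f4 (p ^ a) ∨ g = .psl 3 ((p ^ a) ^ 4) := by
  obtain ⟨ha, hb⟩ := H.pos
  have h1 := H.top_eq (eT := 12) (by norm_num) (Or.inl ⟨by norm_num, Or.inr (Or.inr (Or.inr dvd_rfl))⟩)
    (fun d hd => by have := hd.f4; omega) (by omega)
  have h2 := H.ex_le h1
  have h3 : ex g ≤ 2 * top g := by change ex g * 12 ≤ top g * 24 at h2; omega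
  have hq' : qOf g ≠ 0 := by rw [H.S.hq]; exact (pow_pos H.S.hp.pos b).ne'
  have hu := H.S.hq
  have h2a : 2 ≤ p ^ a := H.T.two_le
  rcases list_B H.S.cond hq' h3 with ⟨n, u, hn, rfl⟩ | ⟨m, u, hm, rfl⟩ | ⟨m, u, hm, rfl⟩ | ⟨n, u, hn, rfl⟩ | ⟨u, rfl⟩ |
    ⟨m, u, hm, rfl⟩ | ⟨u, rfl⟩ | ⟨u, rfl⟩ | ⟨u, rfl⟩ | ⟨u, rfl⟩ | ⟨u, rfl⟩ | ⟨u, rfl⟩ | ⟨u, rfl⟩
  · -- PSL_n
    have h4 : n * b = 12 * a := h1
    have hn2 : 2 ≤ n := H.S.cond.1
    rcases (show n = 2 ∨ n = 3 ∨ n = 4 ∨ n = 5 by omega) with rfl | rfl | rfl | rfl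
    · exact (H.k2 8 6 1 8 4 ha (by omega) (by omega) (by omega) (by omega) (by norm_num) (by decide) K8 (by decide)
        (fun h => by have := Kc.psl (by norm_num) h; omega)).elim
    · obtain rfl : b = a * 4 := by omega
      obtain rfl : u = p ^ (a * 4) := hu
      right
      rw [pow_mul]
    · exact (H.k2 8 3 1 8 8 ha (by omega) (by omega) (by omega) (by omega) (by norm_num) (by decide) K8 (by decide)
        (fun h => by have := Kc.psl (by norm_num) h; omega)).elim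
    · obtain ⟨h, rfl, rfl⟩ : ∃ h, a = 5 * h ∧ b = 12 * h := ⟨a - 2 * (a / 5) * 2, by omega, by omega⟩
      have hh : 0 < h := by omega
      exact (H.k2 40 12 5 8 10 hh rfl rfl (by omega) (by omega) (by norm_num) (by decide) K8 (by decide)
        (fun h => by have := Kc.psl (by norm_num) h; omega)).elim
  · -- PSp
    have h4 : 2 * m * b = 12 * a := h1
    have hm2 : 2 ≤ m := H.S.cond.1
    rcases (show m = 2 ∨ m = 3 ∨ m = 4 by omega) with rfl | rfl | rfl
    · exact (H.k2 8 3 1 8 8 ha (by omega) (by omega) (by omega) (by omega) (by norm_num) (by decide) K8 (by decide)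
        (fun h => by have := h.psp; omega)).elim
    · exfalso
      obtain rfl : b = a * 2 := by omega
      obtain rfl : u = p ^ (a * 2) := hu
      obtain ⟨k, hk⟩ := H.dvd
      have h5 : Nat.gcd 2 (p ^ (a * 2) - 1) * c = (p ^ (a * 2)) ^ (3 ^ 2) * prB (p ^ (a * 2)) 3 := H.S.eq
      rw [pow_mul] at h5
      exact kill_rank3 h2a (Nat.gcd_dvd_left _ _) h5 H.T.eq hk
    · obtain ⟨h, rfl, rfl⟩ : ∃ h, a = 2 * h ∧ b = 3 * h := ⟨b - a, by omega, by omega⟩
      have hh : 0 < h := by omega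
      exact (H.k2 16 3 2 8 16 hh rfl rfl (by omega) (by omega) (by norm_num) (by decide) K8 (by decide)
        (fun h => by have := h.psp; omega)).elim
  · -- PΩ odd
    have h4 : 2 * m * b = 12 * a := h1
    have hm2 : 3 ≤ m := H.S.cond.1
    rcases (show m = 3 ∨ m = 4 by omega) with rfl | rfl
    · exfalso
      obtain rfl : b = a * 2 := by omega
      obtain rfl : u = p ^ (a * 2) := hu
      obtain ⟨k, hk⟩ := H.dvd
      have h5 : 2 * c = (p ^ (a * 2)) ^ (3 ^ 2) * prB (p ^ (a * 2)) 3 := H.S.eq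
      rw [pow_mul] at h5
      exact kill_rank3 h2a dvd_rfl h5 H.T.eq hk
    · obtain ⟨h, rfl, rfl⟩ : ∃ h, a = 2 * h ∧ b = 3 * h := ⟨b - a, by omega, by omega⟩
      have hh : 0 < h := by omega
      exact (H.k2 16 3 2 8 16 hh rfl rfl (by omega) (by omega) (by norm_num) (by decide) K8 (by decide)
        (fun h => by have := h.oodd; omega)).elim
  · -- PSU
    have h4 : 2 * (n - (1 - n % 2)) * b = 12 * a := h1
    have hn2 : 3 ≤ n := H.S.cond.1
    rcases (show n = 3 ∨ n = 4 ∨ n = 5 ∨ n = 6 ∨ n = 7 ∨ n = 8 ∨ n = 9 by omega) with rfl | rfl | rfl | rfl | rfl | rfl |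
      rfl
    · replace h4 : 6 * b = 12 * a := h4
      exact (H.k2 8 2 1 8 4 ha (by omega) (by omega) (by omega) (by omega) (by norm_num) (by decide) K8 (by decide)
        (fun h => by have := h.psu; omega)).elim
    · replace h4 : 6 * b = 12 * a := h4
      by_cases hs : a = 1
      · exact (H.k2 3 2 1 3 3 ha (by omega) (by omega) (by omega) (by omega) (by norm_num) (by decide)
          (Or.inl ⟨le_rfl, Or.inr (Or.inl (by decide))⟩) (by decide) (fun h => by have := h.psu; omega)).elim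
      · exact (H.k2 6 2 1 6 3 ha (by omega) (by omega) (by omega) (by omega) (by norm_num) (by decide)
          (Or.inl ⟨by norm_num, Or.inr (Or.inl (by decide))⟩) (by decide) (fun h => by have := h.psu; omega)).elim
    · replace h4 : 10 * b = 12 * a := h4
      obtain ⟨h, rfl, rfl⟩ : ∃ h, a = 5 * h ∧ b = 6 * h := ⟨b - a, by omega, by omega⟩
      have hh : 0 < h := by omega
      exact (H.k2 40 6 5 8 20 hh rfl rfl (by omega) (by omega) (by norm_num) (by decide) K8 (by decide)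
        (fun h => by have := h.psu; omega)).elim
    · replace h4 : 10 * b = 12 * a := h4
      obtain ⟨h, rfl, rfl⟩ : ∃ h, a = 5 * h ∧ b = 6 * h := ⟨b - a, by omega, by omega⟩
      have hh : 0 < h := by omega
      exact (H.k2 40 6 5 8 20 hh rfl rfl (by omega) (by omega) (by norm_num) (by decide) K8 (by decide)
        (fun h => by have := h.psu; omega)).elim
    · replace h4 : 14 * b = 12 * a := h4
      obtain ⟨h, rfl, rfl⟩ : ∃ h, a = 7 * h ∧ b = 6 * h := ⟨a - b, by omega, by omega⟩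
      have hh : 0 < h := by omega
      exact (H.k2 56 6 7 8 28 hh rfl rfl (by omega) (by omega) (by norm_num) (by decide) K8 (by decide)
        (fun h => by have := h.psu; omega)).elim
    · replace h4 : 14 * b = 12 * a := h4
      obtain ⟨h, rfl, rfl⟩ : ∃ h, a = 7 * h ∧ b = 6 * h := ⟨a - b, by omega, by omega⟩
      have hh : 0 < h := by omega
      exact (H.k2 56 6 7 8 28 hh rfl rfl (by omega) (by omega) (by norm_num) (by decide) K8 (by decide)
        (fun h => by have := h.psu; omega)).elim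
    · replace h4 : 18 * b = 12 * a := h4
      obtain ⟨h, rfl, rfl⟩ : ∃ h, a = 3 * h ∧ b = 2 * h := ⟨a - b, by omega, by omega⟩
      have hh : 0 < h := by omega
      exact (H.k2 24 2 3 8 12 hh rfl rfl (by omega) (by omega) (by norm_num) (by decide) K8 (by decide)
        (fun h => by have := h.psu; omega)).elim
  · -- PΩ⁺₈
    have h4 : 2 * (4 - 1) * b = 12 * a := h1
    obtain rfl : b = a * 2 := by omega
    obtain rfl : u = p ^ (a * 2) := hu
    exfalso
    obtain ⟨k, hk⟩ := H.dvd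
    have h5 : Nat.gcd 4 ((p ^ (a * 2)) ^ 4 - 1) * c =
      (p ^ (a * 2)) ^ (4 * (4 - 1)) * (((p ^ (a * 2)) ^ 4 - 1) * prB (p ^ (a * 2)) (4 - 1)) := H.S.eq
    have h8 : 1 * cT = (p ^ a) ^ 24 * (((p ^ a) ^ 2 - 1) * ((p ^ a) ^ 6 - 1) * ((p ^ a) ^ 8 - 1) * ((p ^ a) ^ 12 - 1)) :=
      H.T.eq
    rw [pow_mul p a 2] at h5
    set q := p ^ a with hqd
    rw [show 4 - 1 = 3 by norm_num, prB_three] at h5
    have e1 : (q ^ 2) ^ 2 = q ^ 4 := by ring
    have e2 : (q ^ 2) ^ 4 = q ^ 8 := by ring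
    have e3 : (q ^ 2) ^ 6 = q ^ 12 := by ring
    rw [e1, e2, e3] at h5
    obtain ⟨w, hw⟩ := exists_prim (q := q) (e := 8) h2a (by norm_num) (by omega)
    have hX : 0 < (q ^ 8 - 1) * (q ^ 12 - 1) := Nat.mul_pos (f4_sub h2a 8 (by norm_num)) (f4_sub h2a 12 (by norm_num))
    have h10 : (q ^ 2) ^ (4 * 3) * ((q ^ 8 - 1) * (q ^ 4 - 1)) * k * ((q ^ 8 - 1) * (q ^ 12 - 1)) =
        Nat.gcd 4 (q ^ 8 - 1) * (q ^ 24 * ((q ^ 2 - 1) * (q ^ 6 - 1))) * ((q ^ 8 - 1) * (q ^ 12 - 1)) := by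
      calc (q ^ 2) ^ (4 * 3) * ((q ^ 8 - 1) * (q ^ 4 - 1)) * k * ((q ^ 8 - 1) * (q ^ 12 - 1))
          = (q ^ 2) ^ (4 * 3) * ((q ^ 8 - 1) * ((q ^ 4 - 1) * (q ^ 8 - 1) * (q ^ 12 - 1))) * k := by ring
        _ = Nat.gcd 4 (q ^ 8 - 1) * (1 * (c * k)) := by rw [← h5]; ring
        _ = _ := by rw [← hk, h8]; ring
    have h11 := Nat.eq_of_mul_eq_mul_right hX h10
    have h12 : w ∣ Nat.gcd 4 (q ^ 8 - 1) * (q ^ 24 * ((q ^ 2 - 1) * (q ^ 6 - 1))) := by
      rw [← h11]
      exact (((hw.dvd dvd_rfl).mul_right _).mul_left _).mul_right _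
    rcases hw.prime.dvd_mul.1 h12 with h | h
    · exact hw.not_dvd_gcd_four (by norm_num) h
    rcases hw.prime.dvd_mul.1 h with h | h
    · exact hw.not_dvd_pow _ h
    rcases hw.prime.dvd_mul.1 h with h | h
    · exact hw.not_dvd_sub (by norm_num) h
    · exact hw.not_dvd_sub (by norm_num) h
  · -- PΩ⁻
    have h4 : 2 * m * b = 12 * a := h1
    have hm2 : 4 ≤ m := H.S.cond.1
    rcases (show m = 4 ∨ m = 5 by omega) with rfl | rfl
    · obtain ⟨h, rfl, rfl⟩ : ∃ h, a = 2 * h ∧ b = 3 * h := ⟨b - a, by omega, by omega⟩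
      have hh : 0 < h := by omega
      exact (H.k2 16 3 2 8 16 hh rfl rfl (by omega) (by omega) (by norm_num) (by decide) K8 (by decide)
        (fun h => by have := Kc.ominus le_rfl (by norm_num) h; omega)).elim
    · obtain ⟨h, rfl, rfl⟩ : ∃ h, a = 5 * h ∧ b = 6 * h := ⟨b - a, by omega, by omega⟩
      have hh : 0 < h := by omega
      exact (H.k2 40 6 5 8 20 hh rfl rfl (by omega) (by omega) (by norm_num) (by decide) K8 (by decide)
        (fun h => by have := Kc.ominus (by norm_num) le_rfl h; omega)).elim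
  · -- G₂
    have h4 : 6 * b = 12 * a := h1
    exact (H.k2 8 2 1 8 4 ha (by omega) (by omega) (by omega) (by omega) (by norm_num) (by decide) K8 (by decide)
        (fun h => by have := h.g2; omega)).elim
  · -- F₄
    have h4 : 12 * b = 12 * a := h1
    obtain rfl : b = a := by omega
    obtain rfl : u = p ^ b := hu
    exact Or.inl rfl
  · -- ²E₆
    have h4 : 18 * b = 12 * a := h1
    obtain ⟨h, rfl, rfl⟩ : ∃ h, a = 3 * h ∧ b = 2 * h := ⟨a - b, by omega, by omega⟩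
    have hh : 0 < h := by omega
    exact (H.k1 20 2 3 10 20 hh rfl rfl (by omega) (by omega) (by decide)
      (Or.inl ⟨by norm_num, Or.inr (Or.inl ⟨dvd_rfl, by decide⟩)⟩) (by decide)
      (fun h => by have := h.f4; omega)).elim
  · -- ³D₄
    have h4 : 12 * b = 12 * a := h1
    exact (H.k2 8 1 1 8 8 ha (by omega) (by omega) (by omega) (by omega) (by norm_num) (by decide) K8 (by decide)
        (fun h => by have := h.td4; omega)).elim
  · -- Sz
    have h4 : 4 * b = 12 * a := h1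
    exact (H.k2 8 3 1 8 8 ha (by omega) (by omega) (by omega) (by omega) (by norm_num) (by decide) K8 (by decide)
        (fun h => by have := h.sz; omega)).elim
  · -- Ree
    have h4 : 6 * b = 12 * a := h1
    have hp3 := three_of H.S.hp H.S.hf H.S.cond hu
    subst hp3
    obtain rfl : u = 3 ^ b := hu
    have := ree_odd H.S.cond rfl
    omega
  · -- ²F₄
    have h4 : 12 * b = 12 * a := h1
    exact (H.k2 8 1 1 8 8 ha (by omega) (by omega) (by omega) (by omega) (by norm_num) (by decide) K8 (by decide)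
        (fun h => by have := h.tf4; omega)).elim

end Cfsg.Agent.H946.Exc
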