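import Cfsg.Agent.H946.DtNamed
import Cfsg.Agent.H946.RadF4
import Cfsg.Agent.H946.ExcSameF4
import Cfsg.Agent.H290.ElCross
import Cfsg.Agent.H290.ElRich
import Cfsg.Agent.H171.EqF.ER

/-!
# Full subgroups of `F₄(q)`: the argument (helper946)
-/

set_option autoImplicit false

namespace Cfsg.Agent.H946.Soc

open Cfsg Cfsg.Agent.OrdDiv Cfsg.Agent.H436 Cfsg.Agent.H915.GN Cfsg.Agent.H264.FKS Cfsg.Agent.H946.Exc
open Cfsg.Agent.H290.ElReg Cfsg.Agent.H290.ElTab Cfsg.Agent.H290.ElCross Cfsg.Agent.H290.ElEng Cfsg.Agent.H290.ElRich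
open Cfsg.Agent.H902 Cfsg.Agent.H946.Rad Cfsg.Agent.H946.Num Cfsg.Agent.H325.Loc

/-- the result of the comparison with the simple groups in cross characteristic -/
def SameChar (Y : Art.Sh) (n p f : ℕ) : Prop :=
  ∀ {F : Type} [Field F] [CharP F p] {R : Type} [Group R] [Finite R] (_ : Fth n F R)
    {S : Subgroup R} [S.Normal] (_ : IsSimpleGroup S) (_ : ¬ IsMulCommutative S)
    (_ : Subgroup.centralizer (S : Set R) = ⊥) {g : Grp} (_ : IsNamed g S) (_ : ∀ m, g ≠ .alt m)
    (_ : ∀ r, r.Prime → r ∣ OT Y p f → r ∣ 6 ∨ r ∣ Nat.card R)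
    (_ : ∀ e ∈ ER Y, ∀ r, Prim p (e * f) r → r ∣ Nat.card S) (_ : Nat.card S ∣ OT Y p f), HasChar p g

/-- elements of order `2r` give involutions in the centraliser of an element of order `r` -/
theorem ne_two_mul {T : Type*} [Group T] [Finite T] {M : Subgroup T} {r : ℕ} (hr : r.Prime)
    (h : ∀ x : T, orderOf x = r → ¬ 2 ∣ Nat.card ↥(Subgroup.centralizer ({x} : Set T))) (g : ↥M) :
    orderOf g ≠ 2 * r := by
  intro hg
  have h0 : orderOf (g : T) = 2 * r := by rw [Subgroup.orderOf_coe, hg]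
  have h1 : orderOf ((g : T) ^ 2) = r := by
    rw [orderOf_pow, h0, Nat.gcd_eq_right (Dvd.intro _ rfl)]
    exact Nat.mul_div_cancel_left r (by norm_num)
  have h2 : orderOf ((g : T) ^ r) = 2 := by
    rw [orderOf_pow, h0, Nat.gcd_eq_right (Dvd.intro_left _ rfl)]
    exact Nat.mul_div_cancel 2 hr.pos
  have h3 := orderOf_dvd_cent (((Commute.refl (g : T)).pow_pow 2 r))
  rw [h2] at h3
  exact h _ h1 h3

/-- elements with cyclic centralisers -/
theorem nilp_of_cyclic {T : Type*} [Group T] {H : Type*} [Group H] (f : H →* T) (hf : Function.Injective f) (x : H)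
    (h : IsCyclic ↥(Subgroup.centralizer ({f x} : Set T))) :
    Group.IsNilpotent (Subgroup.centralizer ({x} : Set H)) := by
  have hc : ∀ a b : Subgroup.centralizer ({x} : Set H), a * b = b * a := by
    intro a b
    let _ : CommGroup ↥(Subgroup.centralizer ({f x} : Set T)) := IsCyclic.commGroup
    have hmem : ∀ z : Subgroup.centralizer ({x} : Set H), f z ∈ Subgroup.centralizer ({f x} : Set T) := by
      intro z
      rw [Subgroup.mem_centralizer_singleton_iff, ← map_mul, ← map_mul,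
        Subgroup.mem_centralizer_singleton_iff.1 z.2]
    have h1 := mul_comm (⟨f a, hmem a⟩ : ↥(Subgroup.centralizer ({f x} : Set T))) ⟨f b, hmem b⟩
    have h2 : f (a * b : H) = f (b * a : H) := by
      rw [map_mul, map_mul]
      exact congrArg Subtype.val h1
    exact Subtype.ext (hf h2)
  let _ : CommGroup (Subgroup.centralizer ({x} : Set H)) := { mul_comm := hc }
  infer_instance

theorem prim_four {q e w : ℕ} (h : Prim q e w) {k : ℕ} (hk : e = 3 * k) (hcop : Nat.Coprime k 3 ∨ True)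
    (hk4 : k ∣ 4) : Prim (q ^ 4) 3 w := by
  refine ⟨h.prime, fun n => ?_, h.not_dvd_pow 4⟩
  rw [← pow_mul, h.dvd_iff, hk]
  obtain ⟨j, hj⟩ := hk4
  have hk0 : 0 < k := Nat.pos_of_ne_zero (by rintro rfl; omega)
  have hj3 : Nat.Coprime 3 j := by
    have : j ∣ 4 := ⟨k, by rw [hj, mul_comm]⟩
    exact Nat.Coprime.coprime_dvd_right this (by norm_num)
  rw [hj, mul_assoc, mul_comm 3 k, Nat.mul_dvd_mul_iff_left hk0]
  exact ⟨fun h => hj3.dvd_of_dvd_mul_left h, fun h => h.mul_left j⟩

/-- **Full subgroups of `F₄(q)`.** -/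
theorem f4_main (has : ASThm.{0}) (hrf : RichFix.{0})
    (hnm : ∀ (S : Type) [Group S] [Finite S] [IsSimpleGroup S], ¬ IsMulCommutative S → ∃ g, IsNamed g S)
    {p f : ℕ} (hsame : SameChar .F4 52 p f) {T : Type} [Group T] [Finite T] (D : DatF4 T p f)
    (hiso : ∃ w, w.Prime ∧ w ∣ Nat.card T ∧ PIso p w T) (hT : IsNamed (.f4 (p ^ f)) T)
    {F : Type} [Field F] [CharP F p] (hF : Fth 52 F T) {R : Subgroup T} (hfull : Rad.Full R) : R = ⊤ := by
  have hp := D.hp
  have hf : 1 ≤ f := D.ha
  have h2q : 2 ≤ p ^ f := hp.two_le.trans (Nat.le_self_pow (by omega) p)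
  have hcard : Nat.card T = OT .F4 p f := by
    have h := hT.eq
    change 1 * Nat.card T = OT .F4 p f at h
    rwa [one_mul] at h
  obtain ⟨τ, hτ⟩ := id hF
  have hrad := D.rad hiso hfull (by simp) hτ
  have hFR : Fth 52 F R := hF.sub R.subtype R.subtype_injective
  obtain ⟨r8, hr8, hr82, hr8N⟩ := exists_N8 (q := p ^ f) h2q
  obtain ⟨r12, hr12, hr12N⟩ := exists_N12 (q := p ^ f) h2q
  have c12 : ∀ x : T, (orderOf x).Prime → orderOf x ∣ N12 (p ^ f) →
      IsCyclic ↥(Subgroup.centralizer ({x} : Set T)) ∧ Nat.card ↥(Subgroup.centralizer ({x} : Set T)) = N12 (p ^ f) :=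
    fun x hx hN => D.t12 x hx hx.ne_zero hN
  have h2T : 2 ∣ Nat.card T := by
    rw [D.card]
    rcases hp.eq_two_or_odd with h | h
    · exact ((((((by rw [h] : 2 ∣ p).trans (dvd_pow_self p (by omega))).trans
        (dvd_pow_self _ (by norm_num))).mul_right _).mul_right _).mul_right _).mul_right _
    · have hq : (p ^ f) % 2 = 1 := Nat.pow_mod p f 2 ▸ by rw [h]; simp
      have h5 : 2 ∣ (p ^ f) ^ 2 - 1 := by
        have : (p ^ f) ^ 2 % 2 = 1 := Nat.pow_mod (p ^ f) 2 2 ▸ by rw [hq]
        omega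
      exact (((h5.mul_left _).mul_right _).mul_right _).mul_right _
  have hoddN : ¬ 2 ∣ N12 (p ^ f) := fun h => by
    have := thirteen_le Nat.prime_two h
    omega
  obtain ⟨S, hSn, hSs, hSna, hSc⟩ := exists_socle has hrad (hfull 2 Nat.prime_two h2T) hr12
    (by have := thirteen_le hr12 hr12N; omega) (hfull r12 hr12 (hr12N.trans D.dvd12))
    (ne_two_mul hr12 fun x hx h => hoddN ((c12 x (by rw [hx]; exact hr12) (by rw [hx]; exact hr12N)).2 ▸ h))
  have hd12 : ∀ r, r.Prime → r ∣ N12 (p ^ f) → r ∣ Nat.card S := fun r hr hN =>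
    dvd_socle_rich hrf hSn hSs hSna hr (hfull r hr (hN.trans D.dvd12)) fun x hx =>
      nilp_of_cyclic R.subtype R.subtype_injective x (c12 (x : T) (by rw [Subgroup.orderOf_coe, hx]; exact hr)
        (by rw [Subgroup.orderOf_coe, hx]; exact hN)).1
  have hd8 : ∀ r, r.Prime → r ≠ 2 → r ∣ N8 (p ^ f) → r ∣ Nat.card S := fun r hr h2 hN =>
    dvd_socle_rich hrf hSn hSs hSna hr (hfull r hr (hN.trans D.dvd8)) fun x hx =>
      nilp_of_cyclic R.subtype R.subtype_injective x (D.t8 (x : T) (by rw [Subgroup.orderOf_coe, hx]; exact hr)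
        (by rw [Subgroup.orderOf_coe, hx]; exact h2) (by rw [Subgroup.orderOf_coe, hx]; exact hN)).1
  obtain ⟨g, hg⟩ := hnm S hSna
  have hcS : Nat.card S ∣ Nat.card T := (Subgroup.card_subgroup_dvd_card S).trans (Subgroup.card_subgroup_dvd_card R)
  -- not alternating
  have halt : ∀ m, g ≠ .alt m := by
    rintro m rfl
    obtain ⟨e⟩ := hg.real
    have h9 : 5 ≤ m := hg.cond
    have h17 := seventeen_le hr8 hr82 hr8N
    have h13 := thirteen_le hr12 hr12N
    have hm8 := mod_of_order hr8 (by norm_num) (od_N8 hr8 hr8N hr82)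
    have hm12 := mod_of_order hr12 (by norm_num) (od_N12 hr12 hr12N)
    have hne : r8 ≠ r12 := by rintro rfl; exact cop812 hr8 hr82 hr8N hr12N
    have hcomp : ∀ x : S, R.subtype.comp S.subtype x = ((x : R) : T) := fun x => rfl
    have hinj : Function.Injective (R.subtype.comp S.subtype) :=
      R.subtype_injective.comp S.subtype_injective
    have n12 : ∀ x : S, orderOf x = r12 → Group.IsNilpotent (Subgroup.centralizer ({x} : Set S)) := fun x hx =>
      nilp_of_cyclic (R.subtype.comp S.subtype) hinj x (c12 _ (by rw [orderOf_injective _ hinj, hx]; exact hr12)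
        (by rw [orderOf_injective _ hinj, hx]; exact hr12N)).1
    have n8 : ∀ x : S, orderOf x = r8 → Group.IsNilpotent (Subgroup.centralizer ({x} : Set S)) := fun x hx =>
      nilp_of_cyclic (R.subtype.comp S.subtype) hinj x (D.t8 _ (by rw [orderOf_injective _ hinj, hx]; exact hr8)
        (by rw [orderOf_injective _ hinj, hx]; exact hr82) (by rw [orderOf_injective _ hinj, hx]; exact hr8N)).1
    rcases Nat.lt_or_gt_of_ne hne with h | h
    · exact not_alt hr8 hr12 (by omega) (by omega) (by omega) e (hd8 r8 hr8 hr82 hr8N) (hd12 r12 hr12 hr12N) n8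
    · exact not_alt hr12 hr8 (by omega) (by omega) (by omega) e (hd12 r12 hr12 hr12N) (hd8 r8 hr8 hr82 hr8N) n12
  have hch : HasChar p g := by
    refine hsame hFR hSs hSna hSc hg halt (fun r hr hrd => Or.inr (hfull r hr (hcard ▸ hrd))) ?_ (hcard ▸ hcS)
    intro e he r hr
    have he' : e = 12 ∨ e = 8 := by simpa [ER] using he
    have hr' := prim_pow (p := p) (a := f) (e := e) (by omega) hr
    rcases he' with rfl | rfl
    · exact hd12 r hr.prime (prim_N12 (by omega) hr')
    · exact hd8 r hr.prime (by have := prim_lt hp.one_le (by omega) hr; omega) (prim_N8 (by omega) hr')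
  have hDT : Dt p f (Nat.card T) (.f4 (p ^ f)) :=
    ⟨hp, by omega, Nat.card_pos.ne', hT.cond, rfl, hT.eq⟩
  obtain ⟨b, hH⟩ := hy_of hDT hfull S hSna hSc hg hch
  rcases same_F4 hH with h | h
  · -- `S = T`
    have h1 : Nat.card S = Nat.card T := by
      have h2 := hg.eq
      rw [h] at h2
      exact Nat.eq_of_mul_eq_mul_left (by norm_num : 0 < 1) (h2.trans hT.eq.symm)
    apply Subgroup.eq_top_of_card_eq
    apply Nat.dvd_antisymm (Subgroup.card_subgroup_dvd_card R)
    rw [← h1]
    exact Subgroup.card_subgroup_dvd_card S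
  · exfalso
    rw [h] at hg
    obtain ⟨v, hv⟩ := exists_prim (q := p ^ f) (e := 3) h2q le_rfl (by omega)
    have hv3 := prim_lt (by omega) (by norm_num) hv
    obtain ⟨u, hu⟩ := exists_prim (q := p ^ f) (e := 12) h2q (by norm_num) (by omega)
    have huN := prim_N12 (by omega) hu
    have hvN := prim_N3 (by omega) hv
    have huv : u ≠ v := by
      rintro rfl
      have := hu.unique hv
      omega
    obtain ⟨x, hx⟩ := psl_adj hg (k := 3) (l := 3) le_rfl dvd_rfl le_rfl
      (prim_four hu (k := 4) (by norm_num) (Or.inr trivial) (by norm_num))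
      (prim_four hv (k := 1) (by norm_num) (Or.inr trivial) (by norm_num)) huv
      (h2q.trans (Nat.le_self_pow (by norm_num) _))
    have hx0 : orderOf ((x : R) : T) = u * v := by rw [Subgroup.orderOf_coe, Subgroup.orderOf_coe, hx]
    have h1 : orderOf (((x : R) : T) ^ v) = u := by
      rw [orderOf_pow, hx0, Nat.gcd_eq_right (Dvd.intro_left _ rfl)]
      exact Nat.mul_div_cancel u hv.prime.pos
    have h2 : orderOf (((x : R) : T) ^ u) = v := by
      rw [orderOf_pow, hx0, Nat.gcd_eq_right (Dvd.intro _ rfl)]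
      exact Nat.mul_div_cancel_left v hu.prime.pos
    have h3 := orderOf_dvd_cent (((Commute.refl ((x : R) : T)).pow_pow v u))
    rw [h2, (c12 _ (by rw [h1]; exact hu.prime) (by rw [h1]; exact huN)).2] at h3
    have h4 := od_N12 hv.prime h3
    have h5 := od_N3 hv.prime hvN (by omega)
    omega

end Cfsg.Agent.H946.Soc
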