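import Mathlib
import Cfsg.Agent.Characters.CNBasic
import Cfsg.Agent.OddOrderLocal.DecompBasic

/-!
# Witnesses of non-nilpotent `p'`-subgroups and their lifting from sections

`Wit p G`: an `r`-subgroup `R` (`r ≠ p`) normalised but not centralised by an `s`-element `y` (`s ≠ p`, `s ≠ r`).
Such a witness lifts through surjections and passes to overgroups.
-/

set_option autoImplicit false

namespace Cfsg.Agent.H946.MinSec

open Subgroup

/-- A non-nilpotent `p'`-configuration. -/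
def Wit (p : ℕ) (G : Type*) [Group G] : Prop :=
  ∃ (r s k : ℕ) (R : Subgroup G) (y : G), r.Prime ∧ s.Prime ∧ r ≠ p ∧ s ≠ p ∧ s ≠ r ∧ IsPGroup r R ∧
    y ^ s ^ k = 1 ∧ (∀ x ∈ R, y * x * y⁻¹ ∈ R) ∧ ∃ x ∈ R, y * x ≠ x * y

variable {G : Type*} [Group G]

theorem Wit.map {p : ℕ} {K : Type*} [Group K] {f : G →* K} (hf : Function.Injective f) (h : Wit p G) : Wit p K := by
  obtain ⟨r, s, k, R, y, hr, hs, hrp, hsp, hsr, hR, hy, hn, x, hx, hxy⟩ := h
  refine ⟨r, s, k, R.map f, f y, hr, hs, hrp, hsp, hsr, hR.map f, by rw [← map_pow, hy, map_one], ?_, f x,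
    Subgroup.mem_map_of_mem _ hx, ?_⟩
  · rintro _ ⟨z, hz, rfl⟩
    rw [← map_mul, ← map_inv, ← map_mul]
    exact Subgroup.mem_map_of_mem _ (hn z hz)
  · rw [← map_mul, ← map_mul]
    exact fun h => hxy (hf h)

theorem Wit.congr {p : ℕ} {K : Type*} [Group K] (e : G ≃* K) (h : Wit p G) : Wit p K :=
  h.map (f := e.toMonoidHom) e.injective

theorem Wit.of_subgroup {p : ℕ} {H : Subgroup G} (h : Wit p ↥H) : Wit p G :=
  h.map (f := H.subtype) H.subtype_injective

/-- lifting through a surjection -/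
theorem Wit.lift [Finite G] {p : ℕ} {K : Type*} [Group K] {f : G →* K} (hf : Function.Surjective f)
    (h : Wit p K) : Wit p G := by
  classical
  obtain ⟨r, s, k, R, y, hr, hs, hrp, hsp, hsr, hR, hy, hn, x, hx, hxy⟩ := h
  haveI : Finite K := Finite.of_surjective f hf
  haveI := Fact.mk hr
  -- preimage of R
  set P : Subgroup G := R.comap f with hP
  obtain ⟨S⟩ : Nonempty (Sylow r ↥P) := inferInstance
  set T : Subgroup G := (S : Subgroup ↥P).map P.subtype with hT
  have hTr : IsPGroup r T := S.isPGroup'.map _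
  have hTP : T ≤ P := by
    rw [hT]; exact Subgroup.map_subtype_le _
  -- f maps T onto R
  have hfT : T.map f = R := by
    let g : ↥P →* ↥R := (f.comp P.subtype).codRestrict R (fun z => z.2)
    have hg : Function.Surjective g := by
      rintro ⟨z, hz⟩
      obtain ⟨w, rfl⟩ := hf z
      exact ⟨⟨w, hz⟩, rfl⟩
    have h1 : (S.mapSurjective hg : Subgroup ↥R) = ⊤ := by
      have h2 : IsPGroup r (⊤ : Subgroup ↥R) := hR.of_equiv Subgroup.topEquiv.symm
      exact ((S.mapSurjective hg).is_maximal' h2 le_top).symm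
    rw [Sylow.coe_mapSurjective] at h1
    apply le_antisymm
    · rw [Subgroup.map_le_iff_le_comap]; exact hTP
    · intro z hz
      have h3 : (⟨z, hz⟩ : ↥R) ∈ (S : Subgroup ↥P).map g := by rw [h1]; trivial
      obtain ⟨w, hw, hwz⟩ := h3
      refine ⟨(w : G), Subgroup.mem_map_of_mem _ hw, ?_⟩
      exact congrArg Subtype.val hwz
  obtain ⟨y0, hy0⟩ := hf y
  -- y0 normalises P
  have hyR : ∀ z, z ∈ R → y⁻¹ * z * y ∈ R := by
    -- conjugation by y is a bijection of the finite set R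
    intro z hz
    have h1 : Function.Injective (fun w : ↥R => (⟨y * (w : K) * y⁻¹, hn w w.2⟩ : ↥R)) := by
      intro a b hab
      have := congrArg Subtype.val hab
      simp only at this
      exact Subtype.ext (mul_left_cancel (mul_right_cancel this))
    obtain ⟨w, hw⟩ := (Finite.injective_iff_surjective.1 h1) ⟨z, hz⟩
    have h2 : y * (w : K) * y⁻¹ = z := congrArg Subtype.val hw
    rw [← h2]
    simpa [mul_assoc] using w.2
  have hy0P : ∀ z, z ∈ P → y0 * z * y0⁻¹ ∈ P := by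
    intro z hz
    rw [hP, Subgroup.mem_comap, map_mul, map_mul, map_inv, hy0]
    exact hn _ hz
  have hy0P' : ∀ z, z ∈ P → y0⁻¹ * z * y0 ∈ P := by
    intro z hz
    rw [hP, Subgroup.mem_comap, map_mul, map_mul, map_inv, hy0]
    exact hyR _ hz
  -- the conjugate of T by y0 is another Sylow r-subgroup of P
  let T' : Subgroup G := T.map (MulAut.conj y0).toMonoidHom
  have hT'P : T' ≤ P := by
    rintro _ ⟨z, hz, rfl⟩
    exact hy0P z (hTP hz)
  have hT'r : IsPGroup r T' := hTr.map _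
  have hcard : Nat.card (T'.subgroupOf P) = Nat.card (S : Subgroup ↥P) := by
    rw [Nat.card_congr (Subgroup.subgroupOfEquivOfLe hT'P).toEquiv]
    rw [show Nat.card ↥T' = Nat.card ↥T from (Nat.card_congr (T.equivMapOfInjective _
      (MulAut.conj y0).injective).toEquiv).symm]
    rw [hT]
    exact (Nat.card_congr ((S : Subgroup ↥P).equivMapOfInjective _ P.subtype_injective).toEquiv).symm
  have hT'pp : IsPGroup r ↥(T'.subgroupOf P) := hT'r.of_equiv (Subgroup.subgroupOfEquivOfLe hT'P).symm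
  obtain ⟨S', hS'⟩ := hT'pp.exists_le_sylow
  have hS'eq : T'.subgroupOf P = (S' : Subgroup ↥P) := by
    apply Subgroup.eq_of_le_of_card_ge hS'
    rw [hcard]
    exact (Nat.card_congr (Sylow.equiv S' S).toEquiv).le
  obtain ⟨n, hnS⟩ := MulAction.exists_smul_eq ↥P S' S
  -- n T' n⁻¹ = T
  have key : ∀ z, z ∈ T → (n : G) * y0 * z * ((n : G) * y0)⁻¹ ∈ T := by
    intro z hz
    have h1 : y0 * z * y0⁻¹ ∈ T' := ⟨z, hz, rfl⟩
    have h2 : (⟨y0 * z * y0⁻¹, hT'P h1⟩ : ↥P) ∈ (S' : Subgroup ↥P) := by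
      rw [← hS'eq]; exact h1
    have h3 : n * ⟨y0 * z * y0⁻¹, hT'P h1⟩ * n⁻¹ ∈ (S : Subgroup ↥P) := by
      rw [← hnS, Sylow.coe_subgroup_smul]
      exact Subgroup.smul_mem_pointwise_smul _ (MulAut.conj n) _ h2
    have h4 : (n : G) * (y0 * z * y0⁻¹) * (n : G)⁻¹ ∈ T := ⟨_, h3, rfl⟩
    simpa [mul_assoc] using h4
  -- correct by an element of T
  have hfn : f (n : G) ∈ R := n.2
  obtain ⟨ρ, hρT, hρ⟩ : ∃ ρ ∈ T, f ρ = f (n : G) := by
    rw [← hfT] at hfn; exact hfn
  set y2 : G := ρ⁻¹ * ((n : G) * y0) with hy2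
  have hfy2 : f y2 = y := by
    rw [hy2, map_mul, map_mul, map_inv, hρ, hy0, inv_mul_cancel_left]
  have hy2T : ∀ z, z ∈ T → y2 * z * y2⁻¹ ∈ T := by
    intro z hz
    have h1 := T.mul_mem (T.mul_mem (T.inv_mem hρT) (key z hz)) hρT
    simpa [hy2, mul_assoc] using h1
  -- take an s-part
  haveI := Fact.mk hs
  obtain ⟨a, b, hb, hab⟩ : ∃ a b : ℕ, ¬ s ∣ b ∧ orderOf y2 = s ^ a * b := by
    obtain ⟨a, b, hb, hab⟩ := Nat.exists_eq_pow_mul_and_not_dvd (orderOf_pos y2).ne' s hs.ne_one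
    exact ⟨a, b, hb, hab⟩
  have hcop : Nat.Coprime b (s ^ k) := ((Nat.Prime.coprime_iff_not_dvd hs).2 hb).symm.pow_right k
  obtain ⟨m, hm1, hm2⟩ : ∃ m : ℕ, m ≡ 0 [MOD b] ∧ m ≡ 1 [MOD s ^ k] :=
    ⟨Nat.chineseRemainder hcop 0 1, (Nat.chineseRemainder hcop 0 1).2.1, (Nat.chineseRemainder hcop 0 1).2.2⟩
  have hpowT : ∀ j : ℕ, ∀ z, z ∈ T → y2 ^ j * z * (y2 ^ j)⁻¹ ∈ T := by
    intro j
    induction j with
    | zero => intro z hz; simpa using hz
    | succ j ih =>
      intro z hz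
      have := ih _ (hy2T z hz)
      rw [pow_succ]
      simpa [mul_assoc] using this
  have hym : y ^ m = y := by
    have h1 : y ^ m = y ^ 1 := by
      rw [pow_eq_pow_iff_modEq]
      exact hm2.of_dvd (orderOf_dvd_of_pow_eq_one hy)
    simpa using h1
  obtain ⟨w, hw, hwx⟩ : ∃ w ∈ T, f w = x := by
    rw [← hfT] at hx; exact hx
  refine ⟨r, s, a, T, y2 ^ m, hr, hs, hrp, hsp, hsr, hTr, ?_, hpowT m, w, hw, ?_⟩
  · rw [← pow_mul]
    apply orderOf_dvd_iff_pow_eq_one.1
    rw [hab, mul_comm (s ^ a) b]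
    exact Nat.mul_dvd_mul ((Nat.modEq_zero_iff_dvd).1 hm1) dvd_rfl
  · intro h
    apply hxy
    have := congrArg f h
    rwa [map_mul, map_mul, map_pow, hfy2, hym, hwx] at this

/-- A witness gives a non-nilpotent subgroup of order prime to `p`. -/
theorem Wit.exists_subgroup [Finite G] {p : ℕ} (hp : p.Prime) (h : Wit p G) :
    ∃ H : Subgroup G, (Nat.card ↥H).Coprime p ∧ ¬ Group.IsNilpotent ↥H := by
  obtain ⟨r, s, k, R, y, hr, hs, hrp, hsp, hsr, hR, hy, hn, x, hx, hxy⟩ := h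
  haveI := Fact.mk hr
  have hyR : ∀ z, z ∈ R → y⁻¹ * z * y ∈ R := by
    intro z hz
    have h1 : Function.Injective (fun w : ↥R => (⟨y * (w : G) * y⁻¹, hn w w.2⟩ : ↥R)) := by
      intro a b hab
      have := congrArg Subtype.val hab
      simp only at this
      exact Subtype.ext (mul_left_cancel (mul_right_cancel this))
    obtain ⟨w, hw⟩ := (Finite.injective_iff_surjective.1 h1) ⟨z, hz⟩
    have h2 : y * (w : G) * y⁻¹ = z := congrArg Subtype.val hw
    rw [← h2]
    simpa [mul_assoc] using w.2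
  have hle : Subgroup.zpowers y ≤ Subgroup.normalizer (R : Set G) := by
    rw [Subgroup.zpowers_le, Subgroup.mem_normalizer_iff]
    intro z
    constructor
    · exact hn z
    · intro hz
      have := hyR _ hz
      simpa [mul_assoc] using this
  refine ⟨Subgroup.zpowers y ⊔ R, ?_, ?_⟩
  · have h1 := OddOrderLocal.DecompBasic.card_sup_dvd hle
    apply Nat.Coprime.coprime_dvd_left h1
    apply Nat.Coprime.mul_left
    · rw [Nat.card_zpowers]
      apply Nat.Coprime.coprime_dvd_left (orderOf_dvd_of_pow_eq_one hy)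
      exact Nat.Coprime.pow_left _ ((Nat.coprime_primes hs hp).2 hsp)
    · obtain ⟨n, hn⟩ := (IsPGroup.iff_card (p := r)).1 hR
      rw [hn]
      exact Nat.Coprime.pow_left _ ((Nat.coprime_primes hr hp).2 hrp)
  · intro hnil
    apply hxy
    have h1 : (orderOf (⟨y, Subgroup.mem_sup_left (Subgroup.mem_zpowers y)⟩ : ↥(Subgroup.zpowers y ⊔ R))).Coprime
        (orderOf (⟨x, Subgroup.mem_sup_right hx⟩ : ↥(Subgroup.zpowers y ⊔ R))) := by
      rw [Subgroup.orderOf_mk, Subgroup.orderOf_mk]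
      apply Nat.Coprime.coprime_dvd_left (orderOf_dvd_of_pow_eq_one hy)
      obtain ⟨n, hn⟩ := hR ⟨x, hx⟩
      have h2 : x ^ r ^ n = 1 := by simpa using congrArg Subtype.val hn
      apply Nat.Coprime.coprime_dvd_right (orderOf_dvd_of_pow_eq_one h2)
      exact Nat.Coprime.pow _ _ ((Nat.coprime_primes hs hr).2 hsr)
    have h2 := Characters.CNBasic.commute_of_coprime hnil h1
    exact congrArg Subtype.val h2

end Cfsg.Agent.H946.MinSec
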