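import Mathlib
import Cfsg.Agent.H946.MinSec
import Cfsg.Agent.LieExceptional.SuzukiHyp
import Cfsg.Agent.OddCyclic.ClaimC.SzIso

/-!
# Suzuki groups: non-nilpotent `p'`-subgroups; solvable subgroups containing a torus element
-/

set_option autoImplicit false

namespace Cfsg.Agent.H946.MinSecSz

open Cfsg.Agent.LieExceptional.SuzukiTori Cfsg.Agent.LieExceptional.SuzukiTori.Hyp Cfsg.Agent.H946.MinSec
open MulAction Subgroup

variable {G Ω : Type*} [Group G] [Finite G] [MulAction G Ω] [Finite Ω] {q : ℕ} (H : Hyp G Ω q)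

include H

/-- a torus of order prime to `p` -/
theorem exists_torus {p : ℕ} (hp : p.Prime) : ∃ g ∈ free G Ω, ¬ p ∣ Nat.card (centralizer ({g} : Set G)) ∧
    Nat.card (normalizer ((centralizer ({g} : Set G) : Subgroup G) : Set G)) =
      4 * Nat.card (centralizer ({g} : Set G)) ∧ 1 < Nat.card (centralizer ({g} : Set G)) := by
  obtain ⟨m, hm, hq⟩ := H.q_eq
  have hs : 2 ^ (m + 1) ≤ q := by
    rw [hq]; exact Nat.pow_le_pow_right (by norm_num) (by omega)
  obtain ⟨k, hk, hkp, hk1⟩ : ∃ k ∈ ({q + 2 ^ (m + 1) + 1, q - 2 ^ (m + 1) + 1} : Set ℕ), ¬ p ∣ k ∧ 1 < k := by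
    by_cases h1 : p ∣ q + 2 ^ (m + 1) + 1
    · refine ⟨q - 2 ^ (m + 1) + 1, by simp, ?_, ?_⟩
      · intro h2
        have h3 := Nat.dvd_sub h1 h2
        have h4 : q + 2 ^ (m + 1) + 1 - (q - 2 ^ (m + 1) + 1) = 2 ^ (m + 2) := by
          have : 2 ^ (m + 2) = 2 * 2 ^ (m + 1) := by ring
          omega
        rw [h4] at h3
        have h5 : p = 2 := (Nat.prime_dvd_prime_iff_eq hp Nat.prime_two).1 (hp.dvd_of_dvd_pow h3)
        subst h5
        have h6 : 2 ∣ q := by rw [hq]; exact dvd_pow_self 2 (by omega)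
        have h7 : 2 ∣ 2 ^ (m + 1) := dvd_pow_self 2 (by omega)
        omega
      · have h8 := H.eight_le
        have : 2 ^ (m + 1) < q := by
          rw [hq]; exact Nat.pow_lt_pow_right (by norm_num) (by omega)
        omega
    · refine ⟨_, by simp, h1, ?_⟩
      have h8 := H.eight_le
      have h9 : 0 < 2 ^ (m + 1) := by positivity
      omega
  obtain ⟨g, hg, hc, hn⟩ := H.exists_tori hq k hk
  exact ⟨g, hg, by rw [hc]; exact hkp, by rw [hn, hc], by rw [hc]; exact hk1⟩

theorem wit {p : ℕ} (hp : p.Prime) (hp2 : p ≠ 2) : Wit p G := by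
  classical
  obtain ⟨g, hg, hgp, hn, h1⟩ := exists_torus H hp
  have hcomm := H.comm_of_free hg
  obtain ⟨r, hr, hrd⟩ := Nat.exists_prime_and_dvd h1.ne'
  haveI := Fact.mk hr
  -- an involution in the normaliser
  haveI := Fact.mk Nat.prime_two
  obtain ⟨t, ht⟩ := exists_prime_orderOf_dvd_card' (G := ↥(normalizer ((centralizer ({g} : Set G) : Subgroup G) : Set G))) 2
    (by rw [hn]; exact Dvd.dvd.mul_right (by norm_num) _)
  obtain ⟨x, hx⟩ := exists_prime_orderOf_dvd_card' (G := ↥(centralizer ({g} : Set G))) r hrd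
  let R : Subgroup G :=
    { carrier := {z | z ∈ centralizer ({g} : Set G) ∧ z ^ r = 1}
      one_mem' := ⟨one_mem _, one_pow _⟩
      mul_mem' := by
        rintro a b ⟨ha, ha'⟩ ⟨hb, hb'⟩
        refine ⟨mul_mem ha hb, ?_⟩
        rw [(show Commute a b from hcomm a ha b hb).mul_pow, ha', hb', one_mul]
      inv_mem' := by
        rintro a ⟨ha, ha'⟩
        exact ⟨inv_mem ha, by rw [inv_pow, ha', inv_one]⟩ }
  have htn : (t : G) ^ 2 = 1 := by
    have := pow_orderOf_eq_one t
    rw [ht] at this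
    exact congrArg Subtype.val this
  have ht1 : (t : G) ≠ 1 := by
    intro h
    have : t = 1 := Subtype.ext h
    rw [this, orderOf_one] at ht
    omega
  have hx1 : (x : G) ≠ 1 := by
    intro h
    have : x = 1 := Subtype.ext h
    rw [this, orderOf_one] at hx
    exact hr.one_lt.ne hx
  have hxf : (x : G) ∈ free G Ω := H.free_of_mem hg x.2 hx1
  have hr2 : r ≠ 2 := by
    rintro rfl
    have := H.odd_of_free hxf
    rw [orderOf_coe, hx] at this
    exact absurd this (by decide)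
  refine ⟨r, 2, 1, R, t, hr, Nat.prime_two, ?_, hp2.symm, hr2.symm, ?_, by simpa using htn, ?_, x, ?_, ?_⟩
  · rintro rfl; exact hgp hrd
  · rintro ⟨z, hz⟩
    exact ⟨1, Subtype.ext (by simpa using hz.2)⟩
  · rintro z ⟨hz, hz'⟩
    refine ⟨(mem_normalizer_iff.1 t.2 z).1 hz, ?_⟩
    rw [conj_pow, hz']; group
  · refine ⟨x.2, ?_⟩
    have := pow_orderOf_eq_one x
    rw [hx] at this
    exact congrArg Subtype.val this
  · intro hcon
    have h2 := H.odd_of_free (H.free_of_commute hxf (show Commute (x : G) (t : G) from hcon.symm) ht1)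
    have h3 : orderOf (t : G) ∣ 2 := orderOf_dvd_of_pow_eq_one htn
    rcases (Nat.dvd_prime Nat.prime_two).1 h3 with h | h
    · exact ht1 (orderOf_eq_one_iff.1 h)
    · rw [h] at h2; exact absurd h2 (by decide)

/-- If `x` is fixed-point-free and normalises a nontrivial elementary abelian `ℓ`-group `V`, then `V` consists of
fixed-point-free elements (apart from 1). -/
theorem free_of_normalizes {x : G} (hx : x ∈ free G Ω) {ℓ : ℕ} (hℓ : ℓ.Prime) {V : Subgroup G}
    (hV : ∀ v ∈ V, v ^ ℓ = 1) (hVc : ∀ v ∈ V, ∀ w ∈ V, v * w = w * v) (hxV : ∀ v ∈ V, x * v * x⁻¹ ∈ V)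
    {v : G} (hv : v ∈ V) (hv1 : v ≠ 1) : v ∈ free G Ω := by
  classical
  by_contra hvf
  haveI := Fact.mk hℓ
  -- the fixed points of V
  have hVp : IsPGroup ℓ V := by
    rintro ⟨w, hw⟩
    exact ⟨1, Subtype.ext (by simpa using hV w hw)⟩
  have hmod := hVp.card_modEq_card_fixedPoints Ω
  have hsub : fixedPoints ↥V Ω ⊆ fixedBy Ω v := by
    intro ω hω
    exact hω ⟨v, hv⟩
  have hle : Nat.card (fixedPoints ↥V Ω) ≤ Nat.card (fixedBy Ω v) :=
    Nat.card_mono (Set.toFinite _) hsub
  have h3 := H.three v hv1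
  have h1 : 1 ≤ Nat.card (fixedBy Ω v) := Nat.one_le_iff_ne_zero.2 hvf
  have hne : 1 ≤ Nat.card (fixedPoints ↥V Ω) := by
    by_contra h0
    have h0 : Nat.card (fixedPoints ↥V Ω) = 0 := by omega
    rw [h0, H.card_set] at hmod
    have hdvd : ℓ ∣ q ^ 2 + 1 := (Nat.modEq_zero_iff_dvd).1 hmod
    have h5 := (H.prime_dvd_facts hℓ hdvd).1
    have hm2 := card_modEq_fixedBy (Ω := Ω) hℓ (h := v) (hV v hv)
    rw [H.card_set] at hm2
    have h6 : ℓ ∣ Nat.card (fixedBy Ω v) := (Nat.modEq_zero_iff_dvd).1 (hm2.symm.trans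
      ((Nat.modEq_zero_iff_dvd).2 hdvd))
    have := Nat.le_of_dvd (by omega) h6
    omega
  -- x permutes the at most two fixed points
  have hxF : ∀ ω ∈ fixedPoints ↥V Ω, x • ω ∈ fixedPoints ↥V Ω := by
    intro ω hω
    rintro ⟨w, hw⟩
    have hw' : x⁻¹ * w * x ∈ V := by
      have hinj : Function.Injective (fun w : ↥V => (⟨x * (w : G) * x⁻¹, hxV w w.2⟩ : ↥V)) := by
        intro a b hab
        have := congrArg Subtype.val hab
        simp only at this
        exact Subtype.ext (mul_left_cancel (mul_right_cancel this))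
      obtain ⟨u, hu⟩ := (Finite.injective_iff_surjective.1 hinj) ⟨w, hw⟩
      have h2 : x * (u : G) * x⁻¹ = w := congrArg Subtype.val hu
      rw [← h2]
      simpa [mul_assoc] using u.2
    have h7 : (x⁻¹ * w * x) • ω = ω := hω ⟨_, hw'⟩
    show w • x • ω = x • ω
    calc w • x • ω = x • (x⁻¹ * w * x) • ω := by
          rw [← mul_smul, ← mul_smul]; congr 1; group
      _ = x • ω := by rw [h7]
  have hodd := H.odd_of_free hx
  -- an odd order element permuting a set of size at most two fixes its points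
  obtain ⟨ω, hω⟩ : (fixedPoints ↥V Ω).Nonempty := by
    rw [Set.nonempty_iff_ne_empty]
    intro h
    rw [h] at hne
    simp at hne
  have hx2 : x ^ 2 • ω = ω := by
    by_contra hcon
    have hxω : x • ω ≠ ω := mem_free_iff.1 hx ω
    have hA : ({ω, x • ω, x ^ 2 • ω} : Set Ω) ⊆ fixedBy Ω v := by
      rintro _ (rfl | rfl | rfl)
      · exact hsub hω
      · exact hsub (hxF _ hω)
      · rw [pow_two, mul_smul]; exact hsub (hxF _ (hxF _ hω))
    have hB : ({ω, x • ω, x ^ 2 • ω} : Set Ω).ncard = 3 := by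
      rw [Set.ncard_eq_three]
      refine ⟨ω, x • ω, x ^ 2 • ω, hxω.symm, fun h => hcon h.symm, ?_, rfl⟩
      intro h
      apply hxω
      rw [pow_two, mul_smul] at h
      exact (MulAction.injective x h).symm
    have hC := Set.ncard_le_ncard hA (Set.toFinite _)
    rw [hB, ← Nat.card_coe_set_eq] at hC
    omega
  apply mem_free_iff.1 hx ω
  obtain ⟨j, hj⟩ := hodd
  have h8 : ∀ i : ℕ, x ^ (2 * i) • ω = ω := by
    intro i
    induction i with
    | zero => simp
    | succ i ih => rw [Nat.mul_succ, pow_add, mul_smul, hx2, ih]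
  have h9 : x ^ (orderOf x) • ω = ω := by rw [pow_orderOf_eq_one, one_smul]
  rw [hj, pow_succ', mul_smul, h8] at h9
  exact h9

/-- A solvable subgroup containing a fixed-point-free element normalises its centraliser. -/
theorem mem_norm_of_solvable {x : G} (hx : x ∈ free G Ω) {A : Subgroup G} (hA : Group.IsSolvable A) (hxA : x ∈ A)
    {y : G} (hyA : y * x * y⁻¹ ∈ A) :
    y ∈ normalizer ((centralizer ({x} : Set G) : Subgroup G) : Set G) := by
  classical
  have hx1 : x ≠ 1 := by
    rintro rfl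
    exact H.one_notMem_free hx
  haveI : Nontrivial ↥A := ⟨⟨⟨x, hxA⟩, 1, fun h => hx1 (congrArg Subtype.val h)⟩⟩
  haveI := hA
  obtain ⟨ℓ, hℓ, N, hN, hN1, hNc, hNe⟩ := Characters.CNBasic.exists_normal_elementary ↥A
  obtain ⟨⟨v0, hv0⟩, hv01'⟩ := (Subgroup.ne_bot_iff_exists_ne_one).1 hN1
  have hv01 : v0 ≠ 1 := fun h => hv01' (Subtype.ext h)
  set V : Subgroup G := N.map A.subtype with hVdef
  have hVe : ∀ v ∈ V, v ^ ℓ = 1 := by
    rintro _ ⟨w, hw, rfl⟩
    have := congrArg Subtype.val (hNe w hw)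
    simpa using this
  have hVc : ∀ v ∈ V, ∀ w ∈ V, v * w = w * v := by
    rintro _ ⟨v, hv, rfl⟩ _ ⟨w, hw, rfl⟩
    exact congrArg Subtype.val (hNc v hv w hw)
  have hAV : ∀ a ∈ A, ∀ v ∈ V, a * v * a⁻¹ ∈ V := by
    rintro a ha _ ⟨v, hv, rfl⟩
    exact ⟨⟨a, ha⟩ * v * ⟨a, ha⟩⁻¹, hN.conj_mem v hv _, rfl⟩
  set v : G := ((v0 : ↥A) : G) with hvdef
  have hvV : v ∈ V := ⟨v0, hv0, rfl⟩
  have hv1 : v ≠ 1 := fun h => hv01 (Subtype.ext h)
  have hvf : v ∈ free G Ω := free_of_normalizes H hx hℓ hVe hVc (fun w hw => hAV x hxA w hw) hvV hv1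
  set T : Subgroup G := centralizer ({v} : Set G) with hTdef
  have hVT : ∀ w ∈ V, w ∈ T := by
    intro w hw
    rw [hTdef, mem_centralizer_singleton_iff]
    exact hVc w hw v hvV
  have hAT : ∀ a ∈ A, a ∈ normalizer (T : Set G) := by
    intro a ha
    exact H.ti hvf a v (hVT v hvV) hv1 (hVT _ (hAV a ha v hvV))
  obtain ⟨n, hn1, hn4, hn3, -, hn, -⟩ := H.data hvf
  have hodd : ∀ a ∈ A, Odd (orderOf a) → a ∈ T := by
    intro a ha hao
    have haN := hAT a ha
    have hidx : (T.subgroupOf (normalizer (T : Set G))).index = n := by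
      have h1 := (T.subgroupOf (normalizer (T : Set G))).card_mul_index
      have h2 : Nat.card ↥(T.subgroupOf (normalizer (T : Set G))) = Nat.card ↥T :=
        Nat.card_congr (Subgroup.subgroupOfEquivOfLe Subgroup.le_normalizer).toEquiv
      rw [h2, hn, mul_comm n] at h1
      exact Nat.eq_of_mul_eq_mul_left Nat.card_pos h1
    have hmem := Subgroup.pow_index_mem (T.subgroupOf (normalizer (T : Set G))) ⟨a, haN⟩
    rw [hidx] at hmem
    have hmem' : a ^ n ∈ T := hmem
    have hcop : (orderOf a).Coprime n := by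
      have : n = 1 ∨ n = 2 ∨ n = 4 := by omega
      have h2 : (orderOf a).Coprime 2 := Nat.coprime_two_right.2 hao
      rcases this with h | h | h
      · rw [h]; exact Nat.coprime_one_right _
      · rw [h]; exact h2
      · rw [h, show (4 : ℕ) = 2 ^ 2 by norm_num]; exact h2.pow_right 2
    obtain ⟨k, hk⟩ := exists_pow_eq_self_of_coprime hcop.symm
    rw [← hk]
    exact pow_mem hmem' k
  have hxo := H.odd_of_free hx
  have hxT : x ∈ T := hodd x hxA hxo
  have hzT : y * x * y⁻¹ ∈ T := hodd _ hyA (by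
    have : orderOf (y * x * y⁻¹) = orderOf x := by
      have := orderOf_injective (MulAut.conj y).toMonoidHom (MulAut.conj y).injective x
      simpa using this
    rw [this]; exact hxo)
  have hceq : centralizer ({x} : Set G) = T := H.centralizer_eq hvf hxT hx1
  exact H.ti hx y x (by rw [mem_centralizer_singleton_iff]) hx1 (by rw [hceq]; exact hzT)

end Cfsg.Agent.H946.MinSecSz
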