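import Cfsg.Agent.H290.ElEng
import Cfsg.Agent.S0033

/-!
# The solvable radical of a subgroup with an isolated element (helper946)

`G` a finite group with a faithful representation of degree `n` over a field of characteristic `p`, `O_p(G) = 1`,
`A` a nontrivial elementary abelian normal `t`-subgroup, `t ≠ p`.

* `exists_wts` : the number `W ≤ n` of nontrivial weights of `A`: the prime orders of the elements of `G` which commute
  with no nontrivial element of `A` divide `W`; the elements of prime order `> W` centralise `A`;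
* `cent_nilpotent` : if `x ∈ G` has prime order `ℓ ∤ |C|`, `C` normal, and commutes with no nontrivial element of `C`,
  then `C` is nilpotent;
* `le_of_free` : `p ≤ W`.
-/

set_option autoImplicit false

namespace Cfsg.Agent.H946.Rad

open Cfsg.Agent.H290.ElWt Cfsg.Agent.H912.Bd Module

section Wt

variable {F : Type*} [Field F] {ι : Type*} [Fintype ι] [DecidableEq ι] {G : Type*} [Group G] [Finite G]

/-- **The number of nontrivial weights.** -/
theorem exists_wts {p : ℕ} [CharP F p] {τ : G →* GL ι F} (hτ : Function.Injective τ) {A : Subgroup G} [hAn : A.Normal]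
    (hA : ∀ a ∈ A, ∀ b ∈ A, a * b = b * a) (hp : ¬ p ∣ Nat.card A) (hne : A ≠ ⊥) :
    ∃ W : ℕ, 0 < W ∧ W ≤ Fintype.card ι ∧
      (∀ (x : G) (ℓ : ℕ), ℓ.Prime → orderOf x = ℓ → (∀ a ∈ A, x * a = a * x → a = 1) → ℓ ∣ W) ∧
      (∀ (x : G) (ℓ : ℕ), ℓ.Prime → orderOf x = ℓ → W < ℓ → ∀ a ∈ A, x * a = a * x) := by
  have : CharP (AlgebraicClosure F) p := charP_of_injective_algebraMap (algebraMap F _).injective p
  have hN : ((Nat.card A : ℕ) : AlgebraicClosure F) ≠ 0 := by
    intro h
    exact hp ((CharP.cast_eq_zero_iff (AlgebraicClosure F) p _).1 h)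
  have hAN : ∀ a ∈ A, a ^ Nat.card A = 1 := by
    intro a ha
    have := pow_card_eq_one' (x := (⟨a, ha⟩ : A))
    exact congrArg Subtype.val this
  obtain ⟨hfin, hle⟩ := finite_wts (cl τ) hA hN hAN
  refine ⟨Nat.card (Wts (cl τ) A), ?_, by simpa using hle, ?_, ?_⟩
  · by_contra h0
    have h5 : IsEmpty (Wts (cl τ) A) := by
      rcases Nat.card_eq_zero.1 (Nat.eq_zero_of_not_pos h0) with h | h
      · exact h
      · exact absurd hfin (not_finite_iff_infinite.2 h)
    apply hne
    rw [eq_bot_iff]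
    intro a ha
    by_contra hne'
    obtain ⟨χ, hχ, hχa⟩ := exists_wt (cl τ) hA hN hAN (c := ⟨a, ha⟩) (fun h => hne'
      (Subgroup.mem_bot.2 (cl_injective hτ h)))
    exact h5.false ⟨χ, hχ, ⟨_, hχa⟩⟩
  · intro x ℓ hℓ hx fx
    exact dvd_card_wts (cl τ) hA hN hAN hℓ hx fx
  · intro x ℓ hℓ hx hW a ha
    have h1 : orderOf (MulAction.toPermHom G (Wts (cl τ) A) x) ∣ ℓ := by
      rw [← hx]; exact orderOf_map_dvd _ x
    have h2 : orderOf (MulAction.toPermHom G (Wts (cl τ) A) x) ∣ (Nat.card (Wts (cl τ) A)).factorial := by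
      rw [← Nat.card_perm]
      exact orderOf_dvd_natCard _
    have h3 : MulAction.toPermHom G (Wts (cl τ) A) x = 1 := by
      rw [← orderOf_eq_one_iff]
      rcases (Nat.dvd_prime hℓ).1 h1 with h | h
      · exact h
      · exfalso
        rw [h, hℓ.dvd_factorial] at h2
        omega
    have h4 : ∀ χ : Wts (cl τ) A, x • χ = χ := fun χ => by
      have := DFunLike.congr_fun h3 χ
      exact this
    have hxa : x⁻¹ * a * x ∈ A := by simpa using hAn.conj_mem a ha x⁻¹
    have hc : (x⁻¹ * a * x) * a⁻¹ ∈ A := mul_mem hxa (inv_mem ha)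
    have key : (x⁻¹ * a * x) * a⁻¹ = 1 := by
      by_contra hne'
      obtain ⟨χ, hχ, hχa⟩ := exists_wt (cl τ) hA hN hAN (c := ⟨_, hc⟩) (fun h => hne' (cl_injective hτ h))
      have h5 := congrFun (congrArg Subtype.val (h4 ⟨χ, hχ, ⟨_, hχa⟩⟩)) ⟨a, ha⟩
      have h6 : χ ⟨x⁻¹ * a * x, hxa⟩ = χ ⟨a, ha⟩ := h5
      apply hχa
      have h7 : (⟨(x⁻¹ * a * x) * a⁻¹, hc⟩ : A) = ⟨x⁻¹ * a * x, hxa⟩ * (⟨a, ha⟩ : A)⁻¹ := rfl
      rw [h7, wt_mul (cl τ) hχ, h6, ← wt_mul (cl τ) hχ, mul_inv_cancel, wt_one (cl τ) hχ]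
    have h8 : x⁻¹ * a * x = a := mul_inv_eq_one.1 key
    calc x * a = x * (x⁻¹ * a * x) := by rw [h8]
      _ = a * x := by group

end Wt

section Grp

variable {G : Type*} [Group G] [Finite G]

/-- **Thompson's theorem** for a normal subgroup and an element. -/
theorem nilpotent_of_free {C : Subgroup G} [hC : C.Normal] {x : G} {ℓ : ℕ} (hℓ : ℓ.Prime) (hx : orderOf x = ℓ)
    (hfree : ∀ c ∈ C, x * c = c * x → c = 1) : Group.IsNilpotent ↥C := by
  by_cases hC1 : ∀ c ∈ C, c = 1
  · have : Subsingleton ↥C := ⟨fun a b => Subtype.ext ((hC1 _ a.2).trans (hC1 _ b.2).symm)⟩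
    infer_instance
  · push Not at hC1
    obtain ⟨c₀, hc₀, hc₁⟩ := hC1
    set φ : MulAut ↥C := MulAut.conjNormal x with hφ
    have h1 : φ ^ ℓ = 1 := by rw [hφ, ← map_pow, ← hx, pow_orderOf_eq_one, map_one]
    have h2 : φ ≠ 1 := by
      intro h
      have h3 := congrArg Subtype.val (DFunLike.congr_fun h ⟨c₀, hc₀⟩)
      rw [hφ, MulAut.conjNormal_apply] at h3
      have h4 : x * c₀ * x⁻¹ = c₀ := h3
      exact hc₁ (hfree c₀ hc₀ (by
        have := congrArg (fun z => z * x) h4
        simpa using this))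
    have h3 : orderOf φ = ℓ := by
      have := Fact.mk hℓ
      exact orderOf_eq_prime h1 h2
    refine Cfsg.Agent.S0033.result φ ?_ ℓ hℓ h3
    intro c hc
    have h4 : x * (c : G) * x⁻¹ = c := by
      have := congrArg Subtype.val hc
      simpa [hφ, MulAut.conjNormal_apply] using this
    exact Subtype.ext (hfree c c.2 (by
      have := congrArg (fun z => z * x) h4
      simpa using this))

/-- a nilpotent normal subgroup of order divisible by `s` gives a nontrivial normal `s`-subgroup. -/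
theorem exists_core {C : Subgroup G} [hC : C.Normal] (hn : Group.IsNilpotent ↥C) {s : ℕ} (hs : s.Prime)
    (hd : s ∣ Nat.card ↥C) : ∃ Q : Subgroup G, Q.Normal ∧ IsPGroup s ↥Q ∧ Q ≠ ⊥ ∧ Q ≤ C := by
  have := Fact.mk hs
  obtain ⟨P⟩ : Nonempty (Sylow s ↥C) := inferInstance
  have hPn : (P : Subgroup ↥C).Normal := by
    have := hn
    exact inferInstance
  have hchar : (P : Subgroup ↥C).Characteristic := P.characteristic_of_normal hPn
  refine ⟨(P : Subgroup ↥C).map C.subtype, inferInstance, ?_, ?_, ?_⟩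
  · exact P.2.map _
  · intro h
    rw [Subgroup.map_eq_bot_iff_of_injective _ C.subtype_injective] at h
    have h1 : (P : Subgroup ↥C) ≠ ⊥ := by
      intro h2
      have h3 := P.card_eq_multiplicity
      rw [h2, Subgroup.card_bot] at h3
      have h4 : (Nat.card ↥C).factorization s ≠ 0 := by
        have := (hs.dvd_iff_one_le_factorization (Nat.card_pos (α := ↥C)).ne').1 hd
        omega
      have h5 := Nat.one_lt_pow h4 hs.one_lt
      omega
    exact h1 h
  · exact Subgroup.map_subtype_le _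

/-- the centraliser of `A` in `G` has order prime to the orders of the free elements -/
theorem not_dvd_cent {A : Subgroup G} (hne : A ≠ ⊥) {ℓ : ℕ} (hℓ : ℓ.Prime)
    (h : ∀ y : G, orderOf y = ℓ → ∀ a ∈ A, y * a = a * y → a = 1) :
    ¬ ℓ ∣ Nat.card ↥(Subgroup.centralizer (A : Set G)) := by
  intro hd
  have := Fact.mk hℓ
  obtain ⟨y, hy⟩ := exists_prime_orderOf_dvd_card' ℓ hd
  apply hne
  rw [eq_bot_iff]
  intro a ha
  rw [Subgroup.mem_bot]
  refine h y (by rw [Subgroup.orderOf_coe, hy]) a ha ?_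
  exact (Subgroup.mem_centralizer_iff.1 y.2 a ha).symm

/-- the isolated elements act freely on the centraliser of `A` -/
theorem cent_free {A : Subgroup G} (hne : A ≠ ⊥) {P : ℕ → Prop}
    (hA : ∀ y : G, (orderOf y).Prime → P (orderOf y) → ∀ a ∈ A, y * a = a * y → a = 1)
    (hC : ∀ x y : G, (orderOf x).Prime → P (orderOf x) → Commute x y → (orderOf y).Prime → P (orderOf y)) {x : G}
    (hx : (orderOf x).Prime) (hP : P (orderOf x)) :
    ∀ c ∈ Subgroup.centralizer (A : Set G), x * c = c * x → c = 1 := by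
  intro c hc hxc
  by_contra hc1
  obtain ⟨s, hs, hsd⟩ := Nat.exists_prime_and_dvd (n := orderOf c) (by rwa [Ne, orderOf_eq_one_iff])
  have h1 : orderOf (c ^ (orderOf c / s)) = s := by
    rw [orderOf_pow_of_dvd (by
      have := Nat.le_of_dvd (orderOf_pos c) hsd
      exact (Nat.div_pos this hs.pos).ne') (Nat.div_dvd_of_dvd hsd)]
    exact Nat.div_div_self hsd (orderOf_pos c).ne'
  have h2 : Commute x (c ^ (orderOf c / s)) := Commute.pow_right hxc _
  have h3 := hC x _ hx hP h2 (by rw [h1]; exact hs)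
  rw [h1] at h3
  refine not_dvd_cent hne hs (fun y hy a ha h => hA y (by rw [hy]; exact hs) (by rw [hy]; exact h3) a ha h) ?_
  have h4 : c ^ (orderOf c / s) ∈ Subgroup.centralizer (A : Set G) := pow_mem hc _
  have h5 := orderOf_dvd_natCard (⟨_, h4⟩ : ↥(Subgroup.centralizer (A : Set G)))
  rwa [Subgroup.orderOf_mk, h1] at h5

theorem cent_nil {A : Subgroup G} [A.Normal] (hne : A ≠ ⊥) {P : ℕ → Prop}
    (hA : ∀ y : G, (orderOf y).Prime → P (orderOf y) → ∀ a ∈ A, y * a = a * y → a = 1)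
    (hC : ∀ x y : G, (orderOf x).Prime → P (orderOf x) → Commute x y → (orderOf y).Prime → P (orderOf y)) {x : G}
    (hx : (orderOf x).Prime) (hP : P (orderOf x)) : Group.IsNilpotent ↥(Subgroup.centralizer (A : Set G)) :=
  nilpotent_of_free hx rfl (cent_free hne hA hC hx hP)

/-- no prime whose core is trivial divides the order of the centraliser -/
theorem not_dvd_of_core {A : Subgroup G} [A.Normal] (hne : A ≠ ⊥) {P : ℕ → Prop}
    (hA : ∀ y : G, (orderOf y).Prime → P (orderOf y) → ∀ a ∈ A, y * a = a * y → a = 1)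
    (hC : ∀ x y : G, (orderOf x).Prime → P (orderOf x) → Commute x y → (orderOf y).Prime → P (orderOf y)) {x : G}
    (hx : (orderOf x).Prime) (hP : P (orderOf x)) {s : ℕ} (hs : s.Prime)
    (hcore : ∀ Q : Subgroup G, Q.Normal → IsPGroup s ↥Q → Q = ⊥) :
    ¬ s ∣ Nat.card ↥(Subgroup.centralizer (A : Set G)) := by
  intro hd
  obtain ⟨Q, hQ, hQs, hQ1, -⟩ := exists_core (cent_nil hne hA hC hx hP) hs hd
  exact hQ1 (hcore Q hQ hQs)

end Grp

section Both

variable {F : Type*} [Field F] {ι : Type*} [Fintype ι] [DecidableEq ι] {G : Type*} [Group G] [Finite G]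

/-- **An isolated element acting freely on `A`: the characteristic is at most the degree.** -/
theorem le_of_free {p : ℕ} [hp : Fact p.Prime] [CharP F p] {τ : G →* GL ι F} (hτ : Function.Injective τ)
    (hop : ∀ Q : Subgroup G, Q.Normal → IsPGroup p ↥Q → Q = ⊥) (hpG : p ∣ Nat.card G) {A : Subgroup G} [A.Normal]
    (hAc : ∀ a ∈ A, ∀ b ∈ A, a * b = b * a) (hpA : ¬ p ∣ Nat.card A) (hne : A ≠ ⊥) {P : ℕ → Prop}
    (hA : ∀ y : G, (orderOf y).Prime → P (orderOf y) → ∀ a ∈ A, y * a = a * y → a = 1)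
    (hC : ∀ x y : G, (orderOf x).Prime → P (orderOf x) → Commute x y → (orderOf y).Prime → P (orderOf y)) {x : G}
    (hx : (orderOf x).Prime) (hP : P (orderOf x)) :
    ∃ W : ℕ, 0 < W ∧ W ≤ Fintype.card ι ∧ p ≤ W ∧
      (∀ y : G, (orderOf y).Prime → P (orderOf y) → orderOf y ∣ W) ∧
      (∀ y : G, (orderOf y).Prime → (∀ a ∈ A, y * a = a * y → a = 1) → orderOf y ∣ W) ∧
      (∀ (x : G) (ℓ : ℕ), ℓ.Prime → orderOf x = ℓ → W < ℓ → ∀ a ∈ A, x * a = a * x) := by
  obtain ⟨W, hW0, hW, h1, h2⟩ := exists_wts hτ hAc hpA hne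
  refine ⟨W, hW0, hW, ?_, fun y hy hPy => h1 y _ hy rfl (hA y hy hPy), fun y hy hf => h1 y _ hy rfl hf, h2⟩
  by_contra hlt
  push Not at hlt
  obtain ⟨u, hu⟩ := exists_prime_orderOf_dvd_card' p hpG
  have h3 := h2 u p hp.out hu hlt
  refine not_dvd_of_core hne hA hC hx hP hp.out hop ?_
  have h4 : u ∈ Subgroup.centralizer (A : Set G) := by
    rw [Subgroup.mem_centralizer_iff]
    intro a ha
    exact (h3 a ha).symm
  have h5 := orderOf_dvd_natCard (⟨_, h4⟩ : ↥(Subgroup.centralizer (A : Set G)))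
  rwa [Subgroup.orderOf_mk, hu] at h5

end Both

end Cfsg.Agent.H946.Rad
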