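import Cfsg.Agent.H946.SprFi24D

/-!
# The centralizer of an element of order 14 of `Fi24'` which normalizes a subgroup of order 29 (helper946)

`y` = word `yw` has order 28, `b = y²` and `b ^ 7` is a 2-central involution. The centralizer of `b` acts on the 504
transpositions commuting with `b ^ 7`; the orbit of the point 395 has at most 48 points and its stabilizer has order at
most 2.
-/

set_option autoImplicit false
set_option maxRecDepth 100000
set_option linter.constructorNameAsVariable false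

namespace Cfsg.Agent.H946.SprFi24C

open Cfsg Cfsg.Agent.Lib.PermNet Cfsg.Agent.Lib.PermNetPt Cfsg.Agent.Fischer.Fi24RepDef Cfsg.Agent.Fischer.Fi24Rep
open Cfsg.Agent.Fischer.Fi24RepOrb (UG)
open Cfsg.Agent.Fischer.Fi24Spider (word_append word_cons word_nil)
open Cfsg.Agent.R08.FiTwentyFour (L finite_Fi24)
open Cfsg.Agent.KFacts.FiTF.Pts Cfsg.Agent.KFacts.FiTF.FixMask Cfsg.Agent.H843.Pat Cfsg.Agent.H843.Fi24N
open Cfsg.Agent.KFacts.FiTF.Defs (tr)
open Cfsg.Agent.H946.SprFi24D
open Cfsg.Spor (Fi24)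
open Cfsg.Spor.Fi24 (Gen)

/-! ### The stabilizer -/

theorem fix_pts {h : Fi24} (hb : h * word bw = word bw * h) (h0 : rho h 395 = 395) : ∀ p ∈ ps, rho h p = p := by
  have e0 := fx_of hb h0 (rho_of_chkPt h_b0)
  have e1 := fx_of hb e0 (rho_of_chkPt h_b1)
  have e2 := fx_of hb e1 (rho_of_chkPt h_b2)
  have e3 := fx_of hb e2 (rho_of_chkPt h_b3)
  have e4 := fx_of hb e3 (rho_of_chkPt h_b4)
  have e5 := fx_of hb e4 (rho_of_chkPt h_b5)
  intro p hp
  simp only [ps, List.mem_cons, List.not_mem_nil, or_false] at hp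
  rcases hp with rfl | rfl | rfl | rfl | rfl | rfl | rfl
  · exact h0
  · exact e0
  · exact e1
  · exact e2
  · exact e3
  · exact e4
  · exact e5

theorem fix_sel {h : Fi24} (hb : h * word bw = word bw * h) (h0 : rho h 395 = 395) :
    ∀ q ∈ selp ++ k1, rho h q = q :=
  run_spec st1 ps (fix_pts hb h0) h_st1

theorem sel_eq : sel.map (fun a => a.2.2) = selp := rfl

theorem cand {h : Fi24} (hb : h * word bw = word bw * h) (h0 : rho h 395 = 395) : rho h 0 = 0 ∨ rho h 0 = 20210 := by
  have hU : UG.testBit (rho h 0) = true := bit ((isPt_gen .l).conj h)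
  have h1 : (svs sel UG).testBit (rho h 0) = true := by
    refine svs_spec hU sel UG hU fun a ha => ?_
    have e1 : IsPt (word (a.1 ++ a.2.1 :: a.1.reverse)) a.2.2 := isPt_tr (List.all_eq_true.1 h_sel a ha)
    have e2 : rho h a.2.2 = a.2.2 := by
      refine fix_sel hb h0 _ (List.mem_append_left _ ?_)
      rw [← sel_eq]
      exact List.mem_map_of_mem ha
    have e3 := (e1.comm_iff h).2 e2
    have e4 : rho (word (a.1 ++ a.2.1 :: a.1.reverse)) 0 = 0 := rho_of_chkPt (List.all_eq_true.1 h_sel0 a ha)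
    rw [← Equiv.Perm.mul_apply, ← map_mul, ← e3, map_mul, Equiv.Perm.mul_apply, e4]
  rw [Nat.eq_of_beq_eq_true h_sieve, testBit_msk] at h1
  simpa using h1

theorem one {h : Fi24} (hb : h * word bw = word bw * h) (h0 : rho h 395 = 395) (h1 : rho h 0 = 0) : h = 1 := by
  have e0 : ∀ q ∈ (0 :: ps ++ k1), rho h q = q := by
    intro q hq
    rw [List.cons_append, List.mem_cons, List.mem_append] at hq
    rcases hq with rfl | hq | hq
    · exact h1
    · exact fix_pts hb h0 q hq
    · exact fix_sel hb h0 q (List.mem_append_right _ hq)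
  have e1 := run_spec s2_0 _ e0 h_s2_0
  have e2 := run_spec s2_1 _ e1 h_s2_1
  have e3 := run_spec s2_2 _ e2 h_s2_2
  have e4 := run_spec s2_3 _ e3 h_s2_3
  have e5 := run_spec s2_4 _ e4 h_s2_4
  refine eq_one_of_comm fun c => ((isPt_gen c).comm_iff h).2 (e5 _ ?_)
  cases c <;> decide

/-! ### The orbit -/

theorem bw_eq : word bw = word yw ^ 2 := word_rep 2 yw

theorem zw_eq : word zw = word bw ^ 7 := by
  rw [bw_eq, ← pow_mul]
  exact word_rep 14 yw

theorem not_ex {h : Fi24} (hb : h * word bw = word bw * h) : rho h 395 ∉ exs := by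
  have e0 := chkR_spec h_0 hb _ h_ex0
  have e1 := chkR_spec h_0 hb _ h_ex1
  have e2 := chkR_spec h_0 hb _ h_ex2
  have e3 := chkR_spec h_0 hb _ h_ex3
  have e4 := chkR_spec h_0 hb _ h_ex4
  have e5 := chkR_spec h_0 hb _ h_ex5
  have e6 := chkR_spec h_0 hb _ h_ex6
  have e7 := chkR_spec h_0 hb _ h_ex7
  have e8 := chkR_spec h_0 hb _ h_ex8
  intro hm
  have h1 : exs = ex0.map Prod.fst ++ ex1.map Prod.fst ++ ex2.map Prod.fst ++ ex3.map Prod.fst ++ ex4.map Prod.fst ++ ex5.map Prod.fst ++ ex6.map Prod.fst ++ ex7.map Prod.fst ++ ex8.map Prod.fst := rfl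
  rw [h1] at hm
  simp only [List.mem_append] at hm
  tauto

theorem ws_mem : ∀ s ∈ ws, ∀ w ∈ s, word w ∈ Subgroup.centralizer ({word bw} : Set Fi24) := by
  intro s hs w hw
  simp only [ws, List.mem_cons, List.not_mem_nil, or_false] at hs
  have key : ∀ n : ℕ, word (rep n yw) ∈ Subgroup.centralizer ({word bw} : Set Fi24) := by
    intro n
    rw [Subgroup.mem_centralizer_singleton_iff, word_rep, bw_eq]
    exact ((Commute.refl (word yw)).pow_pow n 2).eq
  rcases hs with rfl | rfl | rfl | rfl <;>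
    simp only [List.mem_cons, List.not_mem_nil, or_false] at hw <;> subst hw <;> exact key _

theorem cvr : Cv ws (msk (exs ++ good)) (appWord (nw gw false) Cfsg.Agent.KFacts.FiTF.FixZChk.FZ) := by
  have e : ws = [[rep 1 yw]] ++ ([[rep 2 yw]] ++ ([[rep 4 yw]] ++ [[rep 8 yw]])) := rfl
  have cq : Cv [[rep 1 yw]] (msk (exs ++ good)) (msk L1) := Cv.of s0
  have c1 : Cv [[rep 2 yw]] (msk L1) (msk L2) := Cv.of s1
  have c2 : Cv [[rep 4 yw]] (msk L2) (msk L3) := Cv.of s2
  rw [e]
  refine Cv.app cq (Cv.app c1 (Cv.app c2 ?_))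
  intro p hp
  have h2 := s3
  rw [seqB_eq] at h2
  exact cov_spec _ _ _ (Cfsg.Agent.KFacts.FiTF.FixZ.sub_spec h2 hp)

theorem two_steps {p q r : ℕ} {g k : Fi24} (h1 : rho k p = q) (h2 : rho g q = r) : rho (g * k) p = r := by
  rw [map_mul, Equiv.Perm.mul_apply, h1, h2]

theorem fz' : rho (word bw * (word bw * (word bw * (word bw * (word bw * (word bw * word bw)))))) 395 = 395 :=
  two_steps (two_steps (two_steps (two_steps (two_steps (two_steps (rho_of_chkPt h_b0) (rho_of_chkPt h_b1))
    (rho_of_chkPt h_b2)) (rho_of_chkPt h_b3)) (rho_of_chkPt h_b4)) (rho_of_chkPt h_b5)) (rho_of_chkPt h_b6)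

theorem seven {G : Type*} [Group G] (b : G) : b * (b * (b * (b * (b * (b * b))))) = b ^ 7 := by
  simp only [pow_succ, pow_zero, one_mul, mul_assoc]

theorem fz : rho (word zw) 395 = 395 := by
  have h1 := fz'
  rw [seven] at h1
  rw [zw_eq]
  exact h1

theorem comm_zw {h : Fi24} (hb : h * word bw = word bw * h) : h * word zw = word zw * h := by
  rw [zw_eq]
  have h2 : Commute h (word bw) := hb
  exact (h2.pow_right 7).eq

theorem g_conj : word gw * word zw = Cfsg.Agent.KFacts.FiTF.Defs.z * word gw := by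
  have h1 := g_eq
  rw [word_append, word_append] at h1
  rw [h1, z_word]

theorem ug {h : Fi24} : UG.testBit (rho h 395) = true := by
  have h0 : IsPt (tr uq cq) 395 := isPt_tr h_0
  exact bit (h0.conj h)

theorem in_FZ {h : Fi24} (hz : rho (word zw) (rho h 395) = rho h 395) :
    Cfsg.Agent.KFacts.FiTF.FixZChk.FZ.testBit (rho (word gw) (rho h 395)) = true := by
  have hUg : UG.testBit (rho (word gw) (rho h 395)) = true := by
    rw [← Equiv.Perm.mul_apply, ← map_mul]
    exact ug
  rw [← Cfsg.Agent.KFacts.FiTF.FixZ.fix_iff' hUg, ← Equiv.Perm.mul_apply, ← map_mul, ← g_conj, map_mul,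
    Equiv.Perm.mul_apply, hz]

theorem in_app {q : ℕ} (h : Cfsg.Agent.KFacts.FiTF.FixZChk.FZ.testBit (rho (word gw) q) = true) :
    (appWord (nw gw false) Cfsg.Agent.KFacts.FiTF.FixZChk.FZ).testBit q = true := by
  rw [testBit_appWord (wok _ _), ← rho_word]
  exact h

theorem covered {h : Fi24} (hb : h * word bw = word bw * h) : ∃ t ∈ TL ws, rho (t * h) 395 ∈ good := by
  obtain ⟨t, ht, h5⟩ := cvr _ (in_app (in_FZ (fx_of' (comm_zw hb) fz)))
  refine ⟨t, ht, ?_⟩
  rw [testBit_msk, List.mem_append] at h5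
  rw [map_mul, Equiv.Perm.mul_apply]
  refine h5.resolve_left fun h6 => ?_
  rw [← Equiv.Perm.mul_apply, ← map_mul] at h6
  refine not_ex ?_ h6
  have h7 := TL_mem (N := Subgroup.centralizer ({word bw} : Set Fi24)) ws_mem t ht
  have h8 : t * word bw = word bw * t := Subgroup.mem_centralizer_singleton_iff.1 h7
  rw [mul_assoc, hb, ← mul_assoc, h8, mul_assoc]

/-- **The centralizer of `b`.** -/
theorem card_le : Nat.card (Subgroup.centralizer ({word bw} : Set Fi24)) ≤ 96 := by
  classical
  set N := Subgroup.centralizer ({word bw} : Set Fi24) with hN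
  let _ := act N
  have hfin : Finite Fi24 := finite_Fi24
  have hmem : ∀ h : N, (h : Fi24) * word bw = word bw * h := fun h => Subgroup.mem_centralizer_singleton_iff.1 h.2
  -- the orbit
  have h1 : (MulAction.orbit N 395).ncard ≤ (TL ws).length * good.length := by
    have h2 : MulAction.orbit N 395 ⊆ (((TL ws).product good).map fun a => rho a.1⁻¹ a.2).toFinset := by
      rintro q ⟨h, rfl⟩
      obtain ⟨t, ht, hq⟩ := covered (hmem h)
      rw [Finset.mem_coe, List.mem_toFinset, List.mem_map]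
      refine ⟨(t, rho (t * h) 395), List.mem_product.2 ⟨ht, hq⟩, ?_⟩
      show rho t⁻¹ (rho (t * h) 395) = rho (h : Fi24) 395
      rw [← Equiv.Perm.mul_apply, ← map_mul, inv_mul_cancel_left]
    refine (Set.ncard_le_ncard h2 (Finset.finite_toSet _)).trans ?_
    rw [Set.ncard_coe_finset]
    refine (List.toFinset_card_le _).trans ?_
    rw [List.length_map]
    exact le_of_eq (List.length_product ..)
  rw [length_TL, show cnt ws * good.length = 48 from by decide] at h1
  -- the stabilizer
  have h2 : Nat.card (MulAction.stabilizer N 395) ≤ 2 := by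
    let f : MulAction.stabilizer N 395 → Bool := fun h => decide (rho ((h : N) : Fi24) 0 = 0)
    have hf : Function.Injective f := by
      intro x y hxy
      have hx : rho ((x : N) : Fi24) 395 = 395 := x.2
      have hy : rho ((y : N) : Fi24) 395 = 395 := y.2
      have hxy' : rho ((x : N) : Fi24) 0 = rho ((y : N) : Fi24) 0 := by
        have h3 : (rho ((x : N) : Fi24) 0 = 0) ↔ (rho ((y : N) : Fi24) 0 = 0) := decide_eq_decide.1 hxy
        rcases cand (hmem x) hx with h4 | h4
        · rw [h4, h3.1 h4]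
        · have h5 : rho ((y : N) : Fi24) 0 ≠ 0 := fun h => by
            rw [h3.2 h] at h4
            exact absurd h4 (by decide)
          rw [h4, (cand (hmem y) hy).resolve_left h5]
      have hz : ((y : N) : Fi24)⁻¹ * ((x : N) : Fi24) = 1 := by
        refine one ?_ ?_ ?_
        · exact hmem ((y : N)⁻¹ * (x : N))
        · rw [map_mul, Equiv.Perm.mul_apply, hx, map_inv, Equiv.Perm.inv_eq_iff_eq, hy]
        · rw [map_mul, Equiv.Perm.mul_apply, hxy', ← Equiv.Perm.mul_apply, ← map_mul, inv_mul_cancel, map_one]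
          rfl
      exact Subtype.ext (Subtype.ext (inv_mul_eq_one.1 hz).symm)
    have h3 := Nat.card_le_card_of_injective f hf
    have h4 : Nat.card Bool = 2 := by rw [Nat.card_eq_fintype_card]; rfl
    rwa [h4] at h3
  have h3 := Subgroup.card_mul_index (MulAction.stabilizer N 395)
  rw [MulAction.index_stabilizer] at h3
  rw [← h3]
  calc Nat.card (MulAction.stabilizer N 395) * (MulAction.orbit N 395).ncard ≤ 2 * 48 := Nat.mul_le_mul h2 h1
    _ = 96 := by norm_num

end Cfsg.Agent.H946.SprFi24C
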