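import Cfsg.Agent.H843.N29
import Cfsg.Agent.KFacts.FiTF.FrameF
import Cfsg.Agent.KFacts.FiTF.FixZ

/-!
# The centralizer of an element of order 14 of `Fi24'` which normalizes a subgroup of order 29 (helper946)

`y` = word `yw` has order 28, `b = y²` and `b ^ 7` is a 2-central involution. The centralizer of `b` acts on the 504
transpositions commuting with `b ^ 7`; the orbit of `q0` has at most 48 points and the stabilizer of `q0` has order at
most 2.
-/

set_option autoImplicit false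
set_option maxRecDepth 100000
set_option Elab.async false
set_option linter.constructorNameAsVariable false

namespace Cfsg.Agent.H946.SprFi24D

open Cfsg Cfsg.Agent.Lib.PermNet Cfsg.Agent.Lib.PermNetPt Cfsg.Agent.Fischer.Fi24RepDef Cfsg.Agent.Fischer.Fi24Rep
open Cfsg.Agent.Fischer.Fi24RepOrb (UG)
open Cfsg.Agent.Fischer.Fi24Spider (word_append word_cons word_nil)
open Cfsg.Agent.R08.FiTwentyFour (L finite_Fi24)
open Cfsg.Agent.KFacts.FiTF.Pts Cfsg.Agent.KFacts.FiTF.FixMask Cfsg.Agent.H843.Pat Cfsg.Agent.H843.Fi24N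
open Cfsg.Agent.KFacts.FiTF.Defs (tr)
open Cfsg.Spor (Fi24)
open Cfsg.Spor.Fi24 (Gen)

/-! ### Checks -/

/-- the words `l1`, `l2` in `t`, `b`, `b⁻¹` have the same effect on `q` -/
noncomputable def tst (tw bw : List Gen) (l1 l2 : List (Fin 3)) (q : ℕ) : Bool :=
  Nat.beq (winv (nw (ex tw bw l1).reverse false) q) (winv (nw (ex tw bw l2).reverse false) q)

theorem tst_iff {tw bw : List Gen} {l1 l2 : List (Fin 3)} {q : ℕ} :
    tst tw bw l1 l2 q = true ↔ rho (word (ex tw bw l1)) q = rho (word (ex tw bw l2)) q := by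
  unfold tst
  rw [winv_reverse, winv_reverse]
  exact ⟨Nat.eq_of_beq_eq_true, fun h => by rw [h]; exact Nat.beq_refl _⟩

/-- conjugation of a word in `t`, `b` -/
theorem ex_conj {h : Fi24} {tw tw' bw : List Gen} (ht : h * word tw * h⁻¹ = word tw')
    (hb : h * word bw = word bw * h) : ∀ l : List (Fin 3), h * word (ex tw bw l) = word (ex tw' bw l) * h
  | [] => by show h * word [] = word [] * h; rw [word_nil, mul_one, one_mul]
  | a :: l => by
    have ih := ex_conj ht hb l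
    have key : ∀ v v' : List Gen, h * word v = word v' * h →
        h * word (v ++ ex tw bw l) = word (v' ++ ex tw' bw l) * h := by
      intro v v' hv
      rw [word_append, word_append, ← mul_assoc, hv, mul_assoc, ih, mul_assoc]
    by_cases h0 : a = 0
    · subst h0
      refine key tw tw' ?_
      rw [← ht, inv_mul_cancel_right]
    · by_cases h1 : a = 1
      · subst h1
        exact key bw bw hb
      · have e1 : ex tw bw (a :: l) = bw.reverse ++ ex tw bw l := by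
          show (if a = 0 then tw else if a = 1 then bw else bw.reverse) ++ ex tw bw l = _
          rw [if_neg h0, if_neg h1]
        have e2 : ex tw' bw (a :: l) = bw.reverse ++ ex tw' bw l := by
          show (if a = 0 then tw' else if a = 1 then bw else bw.reverse) ++ ex tw' bw l = _
          rw [if_neg h0, if_neg h1]
        rw [e1, e2]
        refine key bw.reverse bw.reverse ?_
        rw [word_reverse]
        have h2 : Commute h (word bw) := hb
        exact h2.inv_right.eq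

/-- a point in the orbit of `q0` satisfies the same relations -/
theorem tst_eq {h : Fi24} {u u' : List Gen} {c c' : Gen} {bw : List Gen} {q0 q : ℕ}
    (h0 : chkPt (nw u false) (pn c) q0 = true) (h1 : chkPt (nw u' false) (pn c') q = true)
    (hb : h * word bw = word bw * h) (hq : rho h q0 = q) (l1 l2 : List (Fin 3)) :
    tst (u ++ c :: u.reverse) bw l1 l2 q0 = tst (u' ++ c' :: u'.reverse) bw l1 l2 q := by
  have e1 : IsPt (word (u ++ c :: u.reverse)) q0 := isPt_tr h0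
  have e2 : IsPt (word (u' ++ c' :: u'.reverse)) q := isPt_tr h1
  have e3 := e1.conj_eq e2 hq
  rw [Bool.eq_iff_iff, tst_iff, tst_iff]
  have key : ∀ l, rho (word (ex (u' ++ c' :: u'.reverse) bw l)) q = rho h (rho (word (ex (u ++ c :: u.reverse) bw l)) q0) := by
    intro l
    rw [← hq, ← Equiv.Perm.mul_apply, ← map_mul, ← ex_conj e3 hb l, map_mul, Equiv.Perm.mul_apply]
  rw [key, key, EmbeddingLike.apply_eq_iff_eq]

/-- the words have the same effect on the points of the generators of the list -/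
noncomputable def chkE (u v : List Gen) (gs : List Gen) : Bool :=
  gs.all fun x => Nat.beq (winv (nw u.reverse false) (pn x)) (winv (nw v.reverse false) (pn x))

theorem chkE_spec {u v gs : List Gen} (h : chkE u v gs = true) {x : Gen} (hx : x ∈ gs) :
    rho (word u) (pn x) = rho (word v) (pn x) := by
  have h1 := Nat.eq_of_beq_eq_true (List.all_eq_true.1 h x hx)
  rwa [winv_reverse, winv_reverse] at h1

/-- the certificates of a list of points -/
noncomputable def chkR (tw0 bw : List Gen) (q0 : ℕ) : List (ℕ × List Gen × Gen × List (Fin 3) × List (Fin 3)) → Bool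
  | [] => true
  | (q, u, c, l1, l2) :: l => (chkPt (nw u false) (pn c) q && (tst tw0 bw l1 l2 q0 != tst (u ++ c :: u.reverse) bw l1 l2 q)) &&
      chkR tw0 bw q0 l

theorem chkR_spec {u0 : List Gen} {c0 : Gen} {bw : List Gen} {q0 : ℕ} (h0 : chkPt (nw u0 false) (pn c0) q0 = true)
    {h : Fi24} (hb : h * word bw = word bw * h) :
    ∀ l : List (ℕ × List Gen × Gen × List (Fin 3) × List (Fin 3)), chkR (u0 ++ c0 :: u0.reverse) bw q0 l = true →
      rho h q0 ∉ l.map Prod.fst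
  | [], _ => by simp
  | (q, u, c, l1, l2) :: l, hl => by
    unfold chkR at hl
    rw [Bool.and_eq_true, Bool.and_eq_true] at hl
    obtain ⟨⟨h1, h2⟩, h3⟩ := hl
    intro hm
    rw [List.map_cons, List.mem_cons] at hm
    rcases hm with hm | hm
    · rw [tst_eq h0 h1 hb hm, bne_self_eq_false] at h2
      exact absurd h2 (by decide)
    · exact chkR_spec h0 hb l h3 hm

/-- steps: the point `p` is carried to `q` by the transposition at the point `t` -/
abbrev St := ℕ × List Gen × Gen × ℕ × ℕ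

/-- run the steps -/
noncomputable def run (K' : List ℕ) : List St → List ℕ → Bool
  | [], K => K'.all fun q => K.any fun p => Nat.beq p q
  | (p, u, c, t, q) :: l, K => ((K.any fun r => Nat.beq r p) && (K.any fun r => Nat.beq r t)) &&
      ((chkPt (nw u false) (pn c) t && chkPt (nw (u ++ c :: u.reverse) false) p q) && run K' l (q :: K))

theorem mem_of_any {K : List ℕ} {p : ℕ} (h : (K.any fun r => Nat.beq r p) = true) : p ∈ K := by
  obtain ⟨r, hr, h1⟩ := List.any_eq_true.1 h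
  rwa [← Nat.eq_of_beq_eq_true h1]

/-- a fixed point is moved to a fixed point by a commuting element -/
theorem fx_of {h g : Fi24} {p q : ℕ} (hg : h * g = g * h) (hp : rho h p = p) (hq : rho g p = q) : rho h q = q := by
  rw [← hq, ← Equiv.Perm.mul_apply, ← map_mul, hg, map_mul, Equiv.Perm.mul_apply, hp]

theorem run_spec {h : Fi24} {K' : List ℕ} : ∀ (l : List St) (K : List ℕ), (∀ p ∈ K, rho h p = p) →
    run K' l K = true → ∀ q ∈ K', rho h q = q
  | [], K, hK, hr => by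
    intro q hq
    unfold run at hr
    exact hK q (mem_of_any (List.all_eq_true.1 hr q hq))
  | (p, u, c, t, q) :: l, K, hK, hr => by
    unfold run at hr
    rw [Bool.and_eq_true, Bool.and_eq_true, Bool.and_eq_true, Bool.and_eq_true] at hr
    obtain ⟨⟨h1, h2⟩, ⟨h3, h4⟩, h5⟩ := hr
    refine run_spec l (q :: K) ?_ h5
    intro r hr
    rcases List.mem_cons.1 hr with rfl | hr
    · exact fx_of (((isPt_tr h3).comm_iff h).2 (hK t (mem_of_any h2))) (hK p (mem_of_any h1)) (rho_of_chkPt h4)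
    · exact hK r hr

/-- the points fixed by the transposition `u c u⁻¹` (and maybe others) -/
noncomputable def fxT (u : List Gen) (c : Gen) : ℕ := appWord (nw u.reverse false) (sv (nw [c] false) bl UG)

theorem fxT_spec {u : List Gen} {c : Gen} {q : ℕ} (hU : UG.testBit q = true)
    (h : rho (word (u ++ c :: u.reverse)) q = q) : (fxT u c).testBit q = true := by
  unfold fxT
  rw [testBit_appWord (wok _ _), ← rho_word]
  have h1 : UG.testBit (rho (word u.reverse) q) = true := by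
    obtain ⟨d, hd⟩ := Cfsg.Agent.KFacts.FiTF.FixZ.exists_of_UG hU
    exact bit (hd.conj _)
  refine sv_spec (wok _ _) bl h1 ?_
  rw [← rho_word, ← Equiv.Perm.mul_apply, ← map_mul, ← word_append]
  have h2 : word (u ++ c :: u.reverse) = word u * word ([c] ++ u.reverse) := by rw [word_append]; rfl
  rw [h2, map_mul, Equiv.Perm.mul_apply] at h
  have h3 : rho (word ([c] ++ u.reverse)) q = (rho (word u))⁻¹ q := by
    rw [Equiv.Perm.eq_inv_iff_eq]
    exact h
  rw [h3, word_reverse, map_inv]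

/-- sieve by the transpositions of the list -/
noncomputable def svs : List (List Gen × Gen × ℕ) → ℕ → ℕ
  | [], A => A
  | (u, c, _) :: l, A => seq (Nat.land A (fxT u c)) (svs l)

theorem svs_spec {q : ℕ} (hU : UG.testBit q = true) : ∀ (l : List (List Gen × Gen × ℕ)) (A : ℕ), A.testBit q = true →
    (∀ a ∈ l, rho (word (a.1 ++ a.2.1 :: a.1.reverse)) q = q) → (svs l A).testBit q = true
  | [], A, hA, _ => hA
  | (u, c, t) :: l, A, hA, h => by
    show (seq (Nat.land A (fxT u c)) (svs l)).testBit q = true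
    rw [seq_eq]
    refine svs_spec hU l _ ?_ fun a ha => h a (List.mem_cons_of_mem _ ha)
    show (A &&& fxT u c).testBit q = true
    rw [Nat.testBit_and, hA, fxT_spec hU (h (u, c, t) List.mem_cons_self)]
    rfl

theorem fx_of' {h g : Fi24} {p : ℕ} (hg : h * g = g * h) (hp : rho g p = p) : rho g (rho h p) = rho h p := by
  rw [← Equiv.Perm.mul_apply, ← map_mul, ← hg, map_mul, Equiv.Perm.mul_apply, hp]

/-! ### Data -/

def yw : List Gen := [.a, .h, .i, .g, .j, .l, .j, .e, .h, .k, .c, .b, .d, .c, .j, .h, .d, .f, .h, .e, .d]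

def bw : List Gen := rep 2 yw

def zw : List Gen := rep 14 yw

/-- an involution inverting an element of order 29 -/
def tw : List Gen := [.a, .l, .c, .d, .e, .h, .d, .c, .h, .d, .e, .g]

def uw : List Gen := [.f, .e, .g, .f, .d, .c, .h, .b, .c, .d, .e, .h, .d, .c, .b, .k, .l, .a, .k, .b, .c, .d, .e, .h, .d, .c, .b]

def gw : List Gen := [.f, .g, .d, .e, .h, .d, .i, .h, .f, .e, .g, .f, .b, .c, .d, .h, .e, .d, .c, .b, .a, .b, .c, .d, .e, .h, .d, .c, .b, .i, .j, .f, .e, .g, .f, .j, .d, .h, .e, .b, .c, .d, .e, .h, .d, .c, .i, .h, .f, .e, .g, .f, .d, .c, .e, .d, .b, .c, .j, .k, .l, .a, .k, .b, .c, .d, .e, .f, .g, .j, .h, .d, .e, .f, .i, .h, .d, .c, .b]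

theorem h_u : chkEq (uw ++ tw) ([.l, .a, .c, .e] ++ uw) = true := by decide +kernel

theorem h_g0 : chkE (gw ++ zw) ([.l, .a, .c, .e] ++ gw) [.l, .k, .a] = true := by decide +kernel

theorem h_g1 : chkE (gw ++ zw) ([.l, .a, .c, .e] ++ gw) [.b, .c, .d] = true := by decide +kernel

theorem h_g2 : chkE (gw ++ zw) ([.l, .a, .c, .e] ++ gw) [.e, .f, .g] = true := by decide +kernel

theorem h_g3 : chkE (gw ++ zw) ([.l, .a, .c, .e] ++ gw) [.j, .h, .i] = true := by decide +kernel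

theorem g_eq : word (gw ++ zw) = word ([.l, .a, .c, .e] ++ gw) := by
  apply eq_of_pts
  intro x
  cases x
  · exact chkE_spec h_g0 (by simp)
  · exact chkE_spec h_g0 (by simp)
  · exact chkE_spec h_g0 (by simp)
  · exact chkE_spec h_g1 (by simp)
  · exact chkE_spec h_g1 (by simp)
  · exact chkE_spec h_g1 (by simp)
  · exact chkE_spec h_g2 (by simp)
  · exact chkE_spec h_g2 (by simp)
  · exact chkE_spec h_g2 (by simp)
  · exact chkE_spec h_g3 (by simp)
  · exact chkE_spec h_g3 (by simp)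
  · exact chkE_spec h_g3 (by simp)

def uq : List Gen := [.j, .g, .f, .e, .d, .h, .i, .b, .c, .d, .h, .e, .d, .c, .b]

def cq : Gen := .a

theorem h_0 : chkPt (nw uq false) (pn cq) 395 = true := by decide +kernel

def ex0 : List (ℕ × List Gen × Gen × List (Fin 3) × List (Fin 3)) := [
  (6170, [.h, .f, .g, .e, .f, .c, .d, .e, .b, .c, .d, .h, .i, .f, .e, .b, .c, .d, .h, .j, .g, .f, .e, .d, .c, .b], .a, [0, 1, 1], [1, 1]),
  (189994, [.g, .f, .e, .c, .d, .h, .i, .g, .e, .f, .d, .e, .b, .c, .d, .h, .j, .g, .f, .e, .d, .c, .b, .a], .k, [0, 1], [1]),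
  (10770, [.h, .i, .h, .f, .d, .e, .b, .c, .d, .h, .j, .g, .f, .e, .d, .c, .b], .a, [0, 1], [1]),
  (1744, [.b, .c, .d, .h, .i, .f, .e, .d, .h, .j, .g, .f, .e, .d, .c, .b], .a, [0, 1], [1])]

theorem h_ex0 : chkR (uq ++ cq :: uq.reverse) bw 395 ex0 = true := by decide +kernel

def ex1 : List (ℕ × List Gen × Gen × List (Fin 3) × List (Fin 3)) := [
  (34858, [.g, .f, .c, .d, .e, .b, .c, .d, .h, .i, .g, .f, .e, .c, .d, .h, .j, .g, .f, .e, .d, .c, .b, .a], .k, [0, 1], [1]),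
  (2720, [.b, .c, .d, .h, .i, .f, .g, .e, .f, .c, .d, .e, .b, .c, .d, .h, .j, .g, .f, .e, .d, .c, .b], .a, [0, 1], [1]),
  (3026, [.c, .d, .h, .i, .f, .g, .d, .e, .f, .c, .d, .e, .b, .c, .d, .h, .j, .g, .f, .e, .d, .c, .b], .a, [0, 1], [1]),
  (33811, [.k, .a, .b, .c, .d, .h, .i, .f, .d, .e, .b, .c, .d, .h, .j, .g, .f, .e, .d, .c, .b], .a, [0, 1], [1])]

theorem h_ex1 : chkR (uq ++ cq :: uq.reverse) bw 395 ex1 = true := by decide +kernel

def ex2 : List (ℕ × List Gen × Gen × List (Fin 3) × List (Fin 3)) := [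
  (266066, [.c, .d, .h, .i, .f, .d, .e, .c, .d, .h, .j, .g, .f, .e, .d, .c, .b, .a, .k], .l, [0, 1, 1], [1, 1]),
  (3686, [.i, .c, .d, .h, .e, .f, .d, .e, .c, .d, .h, .i, .f, .c, .d, .e, .b, .c, .d, .h, .j, .g, .f, .e, .d, .c, .b], .a, [0, 1], [1]),
  (34067, [.h, .f, .d, .e, .c, .d, .h, .i, .e, .f, .d, .e, .a, .b, .c, .d, .h, .g, .f, .e, .d, .c, .b, .a, .k], .l, [0, 1], [1]),
  (44291, [.c, .d, .h, .e, .f, .d, .e, .k, .a, .b, .c, .d, .h, .i, .e, .b, .c, .d, .h, .j, .g, .f, .e, .d, .c, .b], .a, [0, 1], [1])]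

theorem h_ex2 : chkR (uq ++ cq :: uq.reverse) bw 395 ex2 = true := by decide +kernel

def ex3 : List (ℕ × List Gen × Gen × List (Fin 3) × List (Fin 3)) := [
  (210906, [.i, .h, .d, .e, .b, .c, .d, .h, .f, .g, .e, .f, .d, .e, .c, .d, .h, .i, .b, .c, .d, .h, .j, .g, .f, .e, .d, .c, .b, .a, .k], .l, [0, 1, 1, 1], [1, 1, 1]),
  (33489, [.h, .d, .e, .a, .b, .c, .d, .h, .i, .f, .e, .d, .h, .j, .g, .f, .e, .d, .c, .b, .a, .k], .l, [0, 1], [1]),
  (9555, [.a, .b, .c, .d, .h, .e, .f, .d, .e, .a, .b, .c, .d, .h, .i, .f, .e, .b, .c, .d, .h, .j, .g, .f, .e, .d, .c, .b], .a, [0, 1, 1, 1], [1, 1, 1]),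
  (33334, [.f, .e, .b, .c, .d, .h, .i, .f, .d, .e, .b, .c, .d, .h, .g, .f, .e, .d, .c, .b, .a], .k, [0, 1], [1])]

theorem h_ex3 : chkR (uq ++ cq :: uq.reverse) bw 395 ex3 = true := by decide +kernel

def ex4 : List (ℕ × List Gen × Gen × List (Fin 3) × List (Fin 3)) := [
  (228906, [.g, .f, .e, .d, .h, .g, .f, .c, .d, .e, .b, .c, .d, .h, .i, .f, .d, .e, .c, .d, .h, .g, .f, .e, .d, .c, .b, .a], .k, [0, 1], [1]),
  (33458, [.f, .e, .b, .c, .d, .h, .i, .d, .e, .b, .c, .d, .h, .j, .g, .f, .e, .d, .c, .b, .a], .k, [0, 1], [1]),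
  (12888, [.b, .c, .d, .h, .i, .g, .f, .d, .e, .c, .d, .h, .j, .g, .f, .e, .d, .c, .b], .a, [0, 1], [1]),
  (13533, [.g, .f, .e, .b, .c, .d, .h, .i, .h, .f, .g, .e, .f, .d, .e, .c, .d, .h, .j, .g, .f, .e, .d, .c, .b], .a, [0, 1], [1])]

theorem h_ex4 : chkR (uq ++ cq :: uq.reverse) bw 395 ex4 = true := by decide +kernel

def ex5 : List (ℕ × List Gen × Gen × List (Fin 3) × List (Fin 3)) := [
  (33912, [.f, .d, .e, .a, .b, .c, .d, .h, .i, .h, .d, .e, .c, .d, .h, .g, .f, .e, .d, .c, .b, .a, .k], .l, [0, 1], [1]),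
  (41363, [.h, .f, .c, .d, .e, .k, .a, .b, .c, .d, .h, .i, .g, .f, .e, .b, .c, .d, .h, .j, .g, .f, .e, .d, .c, .b], .a, [0, 1], [1]),
  (41370, [.h, .g, .f, .c, .d, .e, .k, .a, .b, .c, .d, .h, .i, .g, .f, .e, .b, .c, .d, .h, .j, .g, .f, .e, .d, .c, .b, .a], .k, [0, 1, 1, 1], [1, 1, 1]),
  (194152, [.l, .k, .a, .b, .c, .d, .h, .g, .e, .f, .d, .e, .a, .b, .c, .d, .h, .i, .g, .f, .e, .b, .c, .d, .h, .j, .g, .f, .e, .d, .c, .b, .a], .k, [0, 1, 1], [1, 1])]

theorem h_ex5 : chkR (uq ++ cq :: uq.reverse) bw 395 ex5 = true := by decide +kernel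

def ex6 : List (ℕ × List Gen × Gen × List (Fin 3) × List (Fin 3)) := [
  (37704, [.g, .f, .e, .b, .c, .d, .h, .i, .h, .g, .e, .f, .d, .e, .c, .d, .h, .j, .g, .f, .e, .d, .c, .b, .a, .k], .l, [0, 1], [1]),
  (50481, [.h, .i, .a, .b, .c, .d, .h, .e, .f, .d, .e, .a, .b, .c, .d, .h, .i, .e, .b, .c, .d, .h, .j, .g, .f, .e, .d, .c, .b, .a], .k, [0, 1], [1]),
  (50824, [.d, .h, .g, .f, .b, .c, .d, .e, .a, .b, .c, .d, .h, .i, .g, .f, .d, .e, .c, .d, .h, .j, .g, .f, .e, .d, .c, .b, .a, .k], .l, [0, 1], [1]),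
  (56048, [.h, .i, .b, .c, .d, .h, .e, .f, .d, .e, .a, .b, .c, .d, .h, .i, .f, .e, .b, .c, .d, .h, .j, .g, .f, .e, .d, .c, .b, .a], .k, [0, 1], [1])]

theorem h_ex6 : chkR (uq ++ cq :: uq.reverse) bw 395 ex6 = true := by decide +kernel

def ex7 : List (ℕ × List Gen × Gen × List (Fin 3) × List (Fin 3)) := [
  (191510, [.e, .c, .d, .h, .f, .g, .e, .f, .d, .e, .c, .d, .h, .i, .g, .f, .d, .e, .b, .c, .d, .h, .j, .g, .f, .e, .d, .c, .b, .a, .k], .l, [0, 1], [1]),
  (69057, [.i, .d, .h, .f, .b, .c, .d, .e, .a, .b, .c, .d, .h, .i, .g, .e, .f, .c, .d, .e, .b, .c, .d, .h, .j, .g, .f, .e, .d, .c, .b, .a, .k], .l, [0, 1], [1]),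
  (82998, [.e, .c, .d, .h, .f, .g, .d, .e, .f, .b, .c, .d, .e, .a, .b, .c, .d, .h, .i, .g, .f, .d, .e, .b, .c, .d, .h, .j, .g, .f, .e, .d, .c, .b, .a], .k, [0, 1, 1, 1], [1, 1, 1]),
  (102906, [.h, .i, .c, .d, .h, .f, .g, .d, .e, .f, .c, .d, .e, .b, .c, .d, .h, .i, .h, .g, .e, .f, .d, .e, .b, .c, .d, .h, .j, .g, .f, .e, .d, .c, .b, .a, .k], .l, [0, 1, 1], [1, 1])]

theorem h_ex7 : chkR (uq ++ cq :: uq.reverse) bw 395 ex7 = true := by decide +kernel

def ex8 : List (ℕ × List Gen × Gen × List (Fin 3) × List (Fin 3)) := [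
  (12881, [.a, .b, .c, .d, .h, .i, .f, .d, .e, .c, .d, .h, .j, .g, .f, .e, .d, .c, .b], .a, [2, 0, 2, 2, 2, 0, 2, 0, 2, 2], [1, 0, 1, 1, 1, 0, 1, 0, 1, 1])]

theorem h_ex8 : chkR (uq ++ cq :: uq.reverse) bw 395 ex8 = true := by decide +kernel

def good : List ℕ := [395, 306042, 307356]

def exs : List ℕ := [6170, 189994, 10770, 1744, 34858, 2720, 3026, 33811, 266066, 3686, 34067, 44291, 210906, 33489, 9555, 33334, 228906, 33458, 12888, 13533, 33912, 41363, 41370, 194152, 37704, 50481, 50824, 56048, 191510, 69057, 82998, 102906, 12881]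

def ws : List (List (List Gen)) := [[rep 1 yw], [rep 2 yw], [rep 4 yw], [rep 8 yw]]

def L1 : List ℕ := [395, 922, 988, 1744, 2720, 3026, 3685, 3686, 6170, 9414, 9555, 10770, 12881, 12888, 13533, 13991, 16707, 33334, 33458, 33489, 33811, 33912, 34067, 34092, 34478, 34858, 37704, 39328, 41363, 41370, 41412, 44291, 50481, 50824, 56048, 69057, 70143, 82998, 102906, 115209, 134881, 152467, 152580, 180838, 181493, 189994, 191510, 193608, 194152, 195043, 210906, 215770, 228906, 229013, 232066, 232075, 247396, 247598, 251170, 251179, 266066, 270181, 293858, 296296, 297100, 297423, 305170, 306042, 306866, 307067, 307160, 307356]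

def L2 : List ℕ := [395, 922, 988, 1097, 1655, 1744, 2440, 2720, 3026, 3685, 3686, 6170, 8907, 9414, 9555, 10770, 12065, 12881, 12888, 13533, 13991, 13997, 16707, 18868, 19355, 19575, 22564, 25788, 27540, 30274, 31048, 33334, 33458, 33489, 33811, 33912, 34067, 34092, 34478, 34858, 37704, 39328, 41198, 41363, 41370, 41412, 41421, 43044, 44291, 45845, 49618, 50481, 50535, 50824, 52140, 52787, 53036, 53044, 56048, 59633, 61408, 63250, 65835, 68297, 68333, 69057, 70143, 77150, 82998, 93990, 102906, 108652, 115209, 115409, 116742, 118159, 125397, 127209, 134881, 140576, 147198, 147664, 152467, 152580, 157554, 173164, 179085, 180838, 181493, 189994, 191510, 193608, 194152, 195043, 199779, 205818, 210906, 212552, 215426, 215770, 223515, 225733, 228453, 228906, 229013, 232066, 232075, 233155, 233962, 234284, 236152, 239169, 239565, 240261, 241494, 242162, 242231, 246157, 247396, 247598, 251170, 251179, 254522, 256892, 257655, 261966, 263360,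 266066, 270181, 277574, 277588, 280823, 290738, 293858, 296296, 297100, 297423, 305170, 306042, 306866, 307067, 307160, 307356, 307985]

def L3 : List ℕ := [395, 841, 922, 988, 1097, 1655, 1744, 2440, 2595, 2720, 3026, 3210, 3685, 3686, 5308, 6170, 8907, 9374, 9414, 9496, 9555, 10770, 11843, 12065, 12881, 12888, 13533, 13991, 13997, 15779, 16707, 18868, 19355, 19575, 22564, 22594, 23405, 25788, 26244, 27033, 27540, 27927, 28364, 30274, 30391, 30649, 31048, 33334, 33458, 33489, 33811, 33912, 34067, 34092, 34478, 34858, 37704, 39328, 40857, 41198, 41363, 41370, 41412, 41421, 41690, 42735, 43044, 44291, 45069, 45845, 46857, 47226, 49618, 50481, 50535, 50824, 52140, 52724, 52787, 53036, 53044, 56048, 59362, 59633, 61408, 61755, 63086, 63250, 63286, 65835, 66016, 68297, 68333, 68504, 69057, 69064, 69604, 70143, 70211, 73834, 75043, 75438, 77150, 77927, 78104, 79908, 80932, 80947, 81490, 82998, 84800, 87801, 89405, 89469, 89873, 93990,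 94676, 95146, 95830, 99068, 102906, 103517, 106193, 106481, 107038, 108539, 108652, 110806, 111391, 111803, 112563, 114994, 115209, 115409, 116742, 118150, 118159, 122459, 124609, 125397, 126226, 127209, 131078, 133546, 133818, 134881, 135625, 136574, 137521, 139109, 140158, 140576, 143064, 143347, 143881, 143995, 145995, 147198, 147664, 147752, 148611, 152467, 152580, 153714, 155249, 156351, 157269, 157554, 163261, 166652, 169956, 172763, 173164, 173408, 176849, 177426, 178711, 179076, 179085, 179140, 179168, 180838, 181493, 183129, 183165, 187751, 189994, 191510, 193173, 193277, 193608, 194152, 195043, 195716, 198331, 199779, 200501, 200533, 200571, 200974, 204137, 205818, 210618, 210906, 212426, 212552, 212914, 215426, 215770, 222499, 223515, 225733, 228453, 228906, 229013, 232066, 232075, 233155, 233162, 233962, 234284, 234854, 236152, 237909, 238358, 239169, 239565, 239742, 240261, 240871, 241494, 242162, 242231, 242352, 242359,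 243811, 244332, 245472, 246157, 246291, 246301, 246310, 246463, 247396, 247598, 250034, 251170, 251179, 252871, 254515, 254522, 256892, 257395, 257655, 261966, 262792, 263186, 263360, 263950, 266066, 269017, 269680, 270181, 270904, 273403, 277574, 277588, 279343, 280823, 283622, 290738, 290783, 293858, 294399, 296296, 297100, 297423, 297495, 297604, 299024, 305170, 305303, 306042, 306866, 307067, 307160, 307356, 307985]

theorem s0 : Nat.beq (cov [[rep 1 yw]] (msk (exs ++ good))) (msk L1) = true := by decide +kernel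

theorem s1 : Nat.beq (cov [[rep 2 yw]] (msk L1)) (msk L2) = true := by decide +kernel

theorem s2 : Nat.beq (cov [[rep 4 yw]] (msk L2)) (msk L3) = true := by decide +kernel

theorem s3 : seqB (appWord (nw gw false) Cfsg.Agent.KFacts.FiTF.FixZChk.FZ)
    (fun F => Nat.beq (Nat.land F (cov [[rep 8 yw]] (msk L3))) F) = true := by
  decide +kernel

theorem h_b0 : chkPt (nw bw false) 395 49627 = true := by decide +kernel

theorem h_b1 : chkPt (nw bw false) 49627 303111 = true := by decide +kernel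

theorem h_b2 : chkPt (nw bw false) 303111 136604 = true := by decide +kernel

theorem h_b3 : chkPt (nw bw false) 136604 26244 = true := by decide +kernel

theorem h_b4 : chkPt (nw bw false) 26244 257395 = true := by decide +kernel

theorem h_b6 : chkPt (nw bw false) 1655 395 = true := by decide +kernel

theorem h_b5 : chkPt (nw bw false) 257395 1655 = true := by decide +kernel

def ps : List ℕ := [395, 49627, 303111, 136604, 26244, 257395, 1655]

def st1 : List St := [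
  (136604, [.j, .g, .f, .e, .d, .h, .i, .b, .c, .d, .h, .e, .d, .c, .b], .a, 395, 242400),
  (242400, [.i, .h, .a, .b, .c, .d, .e, .k, .a, .b, .c, .d, .h, .i, .g, .f, .c, .d, .e, .b, .c, .d, .h, .j, .g, .f, .e, .d, .c, .b, .a], .k, 49627, 121974),
  (26244, [.d, .h, .i, .e, .d, .h, .c, .d, .e, .b, .c, .d, .h, .i, .d, .e, .f, .c, .d, .e, .b, .c, .d, .h, .j, .g, .f, .e, .d, .c, .b], .a, 1655, 9414),
  (136604, [.d, .e, .f, .c, .d, .e, .b, .c, .d, .h, .i, .g, .f, .d, .e, .b, .c, .d, .h, .j, .g, .f, .e, .d, .c, .b], .a, 9414, 244332),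
  (244332, [.h, .i, .e, .c, .d, .h, .j, .e, .f, .g, .d, .e, .f, .c, .d, .e, .b, .c, .d, .h, .i, .e, .f, .c, .d, .e, .b, .c, .d, .h, .j, .g, .f, .e, .d, .c, .b, .a], .k, 121974, 1744),
  (257395, [.i, .h, .a, .b, .c, .d, .e, .k, .a, .b, .c, .d, .h, .i, .g, .f, .c, .d, .e, .b, .c, .d, .h, .j, .g, .f, .e, .d, .c, .b, .a], .k, 49627, 228906),
  (242400, [.g, .f, .e, .d, .h, .g, .f, .c, .d, .e, .b, .c, .d, .h, .i, .f, .d, .e, .c, .d, .h, .g, .f, .e, .d, .c, .b, .a], .k, 228906, 922),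
  (136604, [.i, .h, .a, .b, .c, .d, .e, .k, .a, .b, .c, .d, .h, .i, .g, .f, .c, .d, .e, .b, .c, .d, .h, .j, .g, .f, .e, .d, .c, .b, .a], .k, 49627, 126226),
  (126226, [.d, .e, .f, .c, .d, .e, .b, .c, .d, .h, .i, .g, .f, .d, .e, .b, .c, .d, .h, .j, .g, .f, .e, .d, .c, .b], .a, 9414, 45434),
  (303111, [.d, .h, .i, .e, .d, .h, .c, .d, .e, .b, .c, .d, .h, .i, .d, .e, .f, .c, .d, .e, .b, .c, .d, .h, .j, .g, .f, .e, .d, .c, .b], .a, 1655, 45575),
  (45575, [.g, .f, .e, .d, .h, .g, .f, .c, .d, .e, .b, .c, .d, .h, .i, .f, .d, .e, .c, .d, .h, .g, .f, .e, .d, .c, .b, .a], .k, 228906, 50824),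
  (50824, [.h, .g, .f, .b, .c, .d, .e, .a, .b, .c, .d, .h, .i, .g, .f, .d, .e, .a, .b, .c, .d, .h, .j, .g, .f, .e, .d, .c, .b, .a], .k, 45434, 12881),
  (49627, [.d, .h, .i, .e, .d, .h, .c, .d, .e, .b, .c, .d, .h, .i, .d, .e, .f, .c, .d, .e, .b, .c, .d, .h, .j, .g, .f, .e, .d, .c, .b], .a, 1655, 42350),
  (303111, [.j, .g, .f, .e, .d, .h, .i, .b, .c, .d, .h, .e, .d, .c, .b], .a, 395, 281619),
  (281619, [.f, .g, .e, .f, .c, .d, .e, .b, .c, .d, .h, .i, .g, .f, .c, .d, .e, .b, .c, .d, .h, .j, .g, .f, .e, .d, .c, .b, .a], .k, 42350, 2720)]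

/-- the transpositions of the sieve -/
def sel : List (List Gen × Gen × ℕ) := [
  ([.j, .g, .f, .e, .d, .h, .i, .b, .c, .d, .h, .e, .d, .c, .b], .a, 395),
  ([.b, .c, .d, .h, .i, .f, .e, .d, .h, .j, .g, .f, .e, .d, .c, .b], .a, 1744),
  ([.d, .e, .f, .c, .d, .e, .b, .c, .d, .h, .i, .g, .f, .d, .e, .b, .c, .d, .h, .j, .g, .f, .e, .d, .c, .b], .a, 9414),
  ([.i, .b, .c, .d, .h, .e, .f, .d, .e, .c, .d, .h, .i, .g, .f, .e, .d, .h, .j, .g, .f, .e, .d, .c, .b], .a, 922),
  ([.a, .b, .c, .d, .h, .i, .f, .d, .e, .c, .d, .h, .j, .g, .f, .e, .d, .c, .b], .a, 12881),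
  ([.d, .h, .i, .e, .d, .h, .c, .d, .e, .b, .c, .d, .h, .i, .d, .e, .f, .c, .d, .e, .b, .c, .d, .h, .j, .g, .f, .e, .d, .c, .b], .a, 1655),
  ([.b, .c, .d, .h, .i, .f, .g, .e, .f, .c, .d, .e, .b, .c, .d, .h, .j, .g, .f, .e, .d, .c, .b], .a, 2720)]

def selp : List ℕ := [395, 1744, 9414, 922, 12881, 1655, 2720]

theorem h_sel : (sel.all fun a => chkPt (nw a.1 false) (pn a.2.1) a.2.2) = true := by decide +kernel

theorem h_sel0 : (sel.all fun a => chkPt (nw (a.1 ++ a.2.1 :: a.1.reverse) false) 0 0) = true := by decide +kernel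

def k1 : List ℕ := [242400, 121974, 9414, 244332, 1744, 228906, 922, 126226, 45434, 45575, 50824, 12881, 42350, 281619, 2720]

theorem h_st1 : run (selp ++ k1) st1 ps = true := by decide +kernel

theorem h_sieve : Nat.beq (svs sel UG) (msk [0, 20210]) = true := by decide +kernel

def s2_0 : List St := [
  (228906, [], .l, 0, 228874),
  (257395, [.j, .g, .f, .e, .d, .h, .i, .b, .c, .d, .h, .e, .d, .c, .b], .a, 395, 46911),
  (46911, [.g, .f, .e, .d, .h, .g, .f, .c, .d, .e, .b, .c, .d, .h, .i, .f, .d, .e, .c, .d, .h, .g, .f, .e, .d, .c, .b, .a, .k], .l, 228874, 12677),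
  (922, [.b, .c, .d, .h, .i, .f, .e, .d, .h, .j, .g, .f, .e, .d, .c, .b], .a, 1744, 13533),
  (26244, [.g, .f, .e, .b, .c, .d, .h, .i, .h, .f, .g, .e, .f, .d, .e, .c, .d, .h, .j, .g, .f, .e, .d, .c, .b], .a, 13533, 6501),
  (6501, [.i, .e, .d, .h, .f, .e, .d, .c], .b, 12677, 13672),
  (42350, [], .l, 0, 42318),
  (42318, [.g, .f, .e, .d, .h, .g, .f, .c, .d, .e, .b, .c, .d, .h, .i, .f, .d, .e, .c, .d, .h, .g, .f, .e, .d, .c, .b, .a], .k, 228906, 13584),
  (303111, [.b, .c, .d, .h, .i, .f, .e, .d, .h, .j, .g, .f, .e, .d, .c, .b], .a, 1744, 257655),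
  (257655, [.h, .j, .g, .f, .d, .e, .c, .d, .h, .i, .f, .d, .e, .c, .d, .h, .g, .f, .e, .d, .c, .b], .a, 13584, 35400),
  (35400, [.j, .g, .e, .f, .d, .e, .b, .c, .d, .h, .i, .f, .e, .b, .c, .d, .h, .j, .g, .f, .e, .d, .c, .b], .a, 13672, 307872),
  (45434, [.b, .c, .d, .h, .i, .f, .e, .d, .h, .j, .g, .f, .e, .d, .c, .b], .a, 1744, 307067),
  (50824, [], .l, 0, 50856),
  (50856, [.f, .g, .e, .f, .d, .e, .a, .b, .c, .d, .h, .j, .g, .f, .e, .d, .c, .b, .a, .k], .l, 307067, 1794),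
  (1655, [.g, .f, .e, .d, .h, .g, .f, .c, .d, .e, .b, .c, .d, .h, .i, .f, .d, .e, .c, .d, .h, .g, .f, .e, .d, .c, .b, .a, .k], .l, 228874, 239201),
  (239201, [.b, .c, .d, .h, .i, .f, .c, .d, .e, .b, .c, .d, .h, .j, .g, .f, .e, .d, .c, .b], .a, 1794, 36801)]

def k2_0 : List ℕ := [0, 395, 49627, 303111, 26244, 257395, 121974, 9414, 244332, 1744, 228906, 922, 126226, 45434, 45575, 12881, 42350, 281619, 2720, 46911, 12677, 13584, 307872, 50856, 1794, 36801]

theorem h_s2_0 : run k2_0 s2_0 (0 :: ps ++ k1) = true := by decide +kernel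

def s2_1 : List St := [
  (49627, [.d, .h, .g, .f, .b, .c, .d, .e, .a, .b, .c, .d, .h, .i, .g, .f, .d, .e, .c, .d, .h, .j, .g, .f, .e, .d, .c, .b, .a], .k, 50856, 37860),
  (45434, [], .l, 0, 45402),
  (45402, [.g, .f, .e, .d, .h, .g, .f, .c, .d, .e, .b, .c, .d, .h, .i, .f, .d, .e, .c, .d, .h, .g, .f, .e, .d, .c, .b, .a], .k, 228906, 261867),
  (261867, [.e, .f, .d, .e, .b, .c, .d, .h, .i, .h, .e, .f, .d, .e, .c, .d, .h, .j, .g, .f, .e, .d, .c, .b, .a], .k, 37860, 36800),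
  (36800, [.f, .d, .e, .k, .a, .b, .c, .d, .h, .i, .f, .e, .b, .c, .d, .h, .g, .f, .e, .d, .c, .b], .a, 36801, 1),
  (257395, [.b, .c, .d, .h, .i, .f, .e, .d, .h, .j, .g, .f, .e, .d, .c, .b], .a, 1744, 250034),
  (244332, [.j, .g, .f, .e, .d, .h, .i, .b, .c, .d, .h, .e, .d, .c, .b], .a, 395, 63250),
  (63250, [], .l, 0, 63282),
  (63282, [.b, .c, .d, .h, .d, .e, .f, .c, .d, .e, .b, .c, .d, .h, .i, .g, .f, .e, .b, .c, .d, .h, .j, .g, .f, .e, .d, .c, .b, .a], .k, 250034, 194),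
  (2720, [.a, .b, .c, .d, .h, .i, .f, .d, .e, .c, .d, .h, .j, .g, .f, .e, .d, .c, .b], .a, 12881, 3582),
  (126226, [.g, .f, .e, .c, .d, .h, .i, .g, .f, .d, .e, .b, .c, .d, .h, .j, .g, .f, .e, .d, .c, .b], .a, 3582, 34478),
  (34478, [.c, .b], .a, 194, 35310),
  (303111, [.g, .f, .e, .d, .h, .g, .f, .c, .d, .e, .b, .c, .d, .h, .i, .f, .d, .e, .c, .d, .h, .g, .f, .e, .d, .c, .b, .a], .k, 228906, 94933),
  (94933, [.b, .c, .d, .h, .i, .f, .e, .d, .h, .j, .g, .f, .e, .d, .c, .b], .a, 1744, 71684),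
  (71684, [.i, .e, .d, .h, .f, .e, .d, .c], .b, 12677, 36910),
  (36910, [.c, .d, .e, .b, .c, .d, .h, .i, .h, .g, .f, .d, .e, .b, .c, .d, .h, .j, .g, .f, .e, .d, .c, .b, .a, .k], .l, 35310, 193)]

def k2_1 : List ℕ := [0, 395, 49627, 303111, 26244, 257395, 121974, 9414, 244332, 228906, 922, 126226, 45434, 45575, 12881, 42350, 281619, 2720, 46911, 13584, 307872, 50856, 1794, 45402, 1, 63282, 194, 193]

theorem h_s2_1 : run k2_1 s2_1 k2_0 = true := by decide +kernel

def s2_2 : List St := [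
  (126226, [.g, .f, .e, .d, .h, .g, .f, .c, .d, .e, .b, .c, .d, .h, .i, .f, .d, .e, .c, .d, .h, .g, .f, .e, .d, .c, .b, .a], .k, 228906, 53036),
  (49627, [], .l, 0, 49659),
  (49659, [.i, .e, .d, .h, .b, .c, .d, .e, .a, .b, .c, .d, .h, .i, .g, .f, .d, .e, .a, .b, .c, .d, .h, .j, .g, .f, .e, .d, .c, .b, .a], .k, 53036, 2914),
  (126226, [], .l, 0, 126258),
  (257395, [.k, .a, .b, .c, .d, .h, .f, .g, .e, .f, .b, .c, .d, .e, .a, .b, .c, .d, .h, .i, .g, .f, .c, .d, .e, .b, .c, .d, .h, .j, .g, .f, .e, .d, .c, .b, .a], .k, 126258, 4258),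
  (45434, [.j, .g, .f, .e, .d, .h, .i, .b, .c, .d, .h, .e, .d, .c, .b], .a, 395, 39328),
  (281619, [], .l, 0, 281651),
  (281651, [.f, .d, .e, .b, .c, .d, .h, .i, .g, .e, .f, .d, .e, .b, .c, .d, .h, .j, .g, .f, .e, .d, .c, .b, .a], .k, 39328, 13453),
  (13453, [.b, .c, .d, .h, .i, .f, .e, .d, .h, .j, .g, .f, .e, .d], .c, 4258, 2639),
  (2639, [], .d, 2914, 2345),
  (257395, [.h, .g, .f, .b, .c, .d, .e, .a, .b, .c, .d, .h, .i, .g, .f, .d, .e, .a, .b, .c, .d, .h, .j, .g, .f, .e, .d, .c, .b, .a, .k], .l, 45402, 14078),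
  (26244, [.a, .b, .c, .d, .h, .i, .f, .d, .e, .c, .d, .h, .j, .g, .f, .e, .d, .c, .b], .a, 12881, 9374),
  (9374, [.h, .g, .e, .f, .c, .d, .e, .b, .c, .d, .h, .i, .e, .f, .d, .e, .b, .c, .d, .h, .g, .f, .e, .d, .c, .b], .a, 14078, 2347),
  (2347, [.i, .d, .h, .e, .f, .d, .e, .c, .d, .h, .g, .f, .e, .d, .c], .b, 2345, 2),
  (257395, [.b, .c, .d, .h, .i, .f, .g, .e, .f, .c, .d, .e, .b, .c, .d, .h, .j, .g, .f, .e, .d, .c, .b], .a, 2720, 252441),
  (252441, [.d, .e, .f, .b, .c, .d, .e, .l, .k, .a, .b, .c, .d, .h, .i, .g, .e, .f, .d, .e, .c, .d, .h, .j, .g, .f, .e, .d, .c, .b, .a, .k], .l, 63282, 34801)]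

def k2_2 : List ℕ := [0, 395, 303111, 26244, 121974, 9414, 244332, 228906, 922, 45434, 45575, 12881, 42350, 281619, 46911, 13584, 307872, 50856, 1794, 1, 194, 193, 2914, 126258, 39328, 2, 252441, 34801]

theorem h_s2_2 : run k2_2 s2_2 k2_1 = true := by decide +kernel

def s2_3 : List St := [
  (45575, [], .l, 0, 45607),
  (45607, [.f, .g, .e, .f, .c, .d, .e, .b, .c, .d, .h, .i, .g, .f, .c, .d, .e, .b, .c, .d, .h, .j, .g, .f, .e, .d, .c, .b, .a], .k, 42350, 5958),
  (244332, [.a, .b, .c, .d, .h, .i, .f, .d, .e, .c, .d, .h, .j, .g, .f, .e, .d, .c, .b], .a, 12881, 177453),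
  (177453, [.e, .f, .c, .d, .e, .b, .c, .d, .h, .i, .g, .f, .e, .d, .h, .j, .g, .f, .e, .d, .c, .b], .a, 5958, 34805),
  (34805, [.j, .g, .f, .e, .k, .a, .b, .c, .d, .h, .i, .e, .c, .d, .h, .g, .f, .e, .d, .c, .b, .a], .k, 34801, 3),
  (228906, [.a, .b, .c, .d, .h, .i, .f, .d, .e, .c, .d, .h, .j, .g, .f, .e, .d, .c, .b], .a, 12881, 176777),
  (176777, [.i, .c, .d, .h, .d, .e, .f, .c, .d, .e, .b, .c, .d, .h, .i, .c, .d, .e, .b, .c, .d, .h, .g, .f, .e, .d, .c, .b, .a, .k], .l, 46911, 13998),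
  (13998, [.c, .b], .a, 194, 10953),
  (303111, [], .l, 0, 303143),
  (303143, [.h, .g, .f, .b, .c, .d, .e, .a, .b, .c, .d, .h, .i, .g, .f, .d, .e, .a, .b, .c, .d, .h, .j, .g, .f, .e, .d, .c, .b, .a], .k, 45434, 15209),
  (15209, [.h, .j, .g, .f, .d, .e, .c, .d, .h, .i, .f, .d, .e, .c, .d, .h, .g, .f, .e, .d, .c, .b], .a, 13584, 11200),
  (11200, [.d, .e, .c, .d, .h, .i, .h, .g, .f, .c, .d, .e, .b, .c, .d, .h, .j, .g, .f, .e, .d, .c, .b], .a, 10953, 676),
  (9414, [.a, .b, .c, .d, .h, .i, .f, .d, .e, .c, .d, .h, .j, .g, .f, .e, .d, .c, .b], .a, 12881, 30521),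
  (30521, [.e, .f, .c, .d, .e, .b, .c, .d, .h, .i, .g, .f, .e, .d, .h, .j, .g, .f, .e, .d, .c, .b], .a, 5958, 3939),
  (50856, [.f, .d, .e, .b, .c, .d, .h, .i, .g, .e, .f, .d, .e, .b, .c, .d, .h, .j, .g, .f, .e, .d, .c, .b, .a], .k, 39328, 13656),
  (13656, [.c, .b], .a, 194, 3947)]

def k2_3 : List ℕ := [0, 395, 303111, 26244, 121974, 244332, 922, 281619, 307872, 1794, 1, 194, 193, 2914, 126258, 2, 252441, 45607, 5958, 3, 676, 3939, 3947]

theorem h_s2_3 : run k2_3 s2_3 k2_2 = true := by decide +kernel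

def s2_4 : List St := [
  (3947, [.f, .d, .e, .c, .d, .h, .i, .h, .d, .e, .b, .c, .d, .h, .j, .g, .f, .e, .d, .c, .b], .a, 3939, 8),
  (121974, [.b, .c, .d, .h, .i, .e, .d, .h, .f, .g, .e, .f, .c, .d, .e, .a, .b, .c, .d, .h, .i, .e, .f, .d, .e, .b, .c, .d, .h, .j, .g, .f, .e, .d, .c, .b], .a, 26244, 220182),
  (220182, [.e, .f, .c, .d, .e, .b, .c, .d, .h, .i, .g, .f, .e, .d, .h, .j, .g, .f, .e, .d, .c, .b], .a, 5958, 296250),
  (26244, [.j, .g, .f, .e, .d, .h, .i, .b, .c, .d, .h, .e, .d, .c, .b], .a, 395, 22564),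
  (252441, [.i, .f, .e, .d, .h, .f, .g, .e, .f, .c, .d, .e, .b, .c, .d, .h, .i, .g, .f, .c, .d, .e, .b, .c, .d, .h, .j, .g, .f, .e, .d, .c, .b], .a, 22564, 266066),
  (266066, [], .l, 0, 266098),
  (266098, [.c, .d, .h, .i, .f, .d, .e, .c, .d, .h, .g, .f, .e, .d, .c, .b, .a], .k, 296250, 136),
  (126258, [.i, .e, .k, .a, .b, .c, .d, .h, .e, .f, .c, .d, .e, .b, .c, .d, .h, .i, .g, .f, .e, .b, .c, .d, .h, .j, .g, .f, .e, .d, .c, .b, .a, .k], .l, 303111, 17456),
  (17456, [.b, .c, .d, .h, .i, .f, .c, .d, .e, .b, .c, .d, .h, .j, .g, .f, .e, .d, .c, .b], .a, 1794, 7471),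
  (244332, [.j, .f, .g, .e, .f, .c, .d, .e, .a, .b, .c, .d, .h, .i, .g, .f, .d, .e, .b, .c, .d, .h, .j, .g, .f, .e, .d, .c, .b, .a], .k, 45607, 16782),
  (16782, [.j, .g, .f, .e, .d, .h, .i, .b, .c, .d, .h, .e, .d, .c, .b], .a, 395, 7487),
  (7487, [.d, .e, .c, .d, .h, .i, .g, .e, .f, .d, .e, .c, .d, .h, .j, .g, .f, .e, .d, .c], .b, 7471, 4),
  (922, [.c, .b], .a, 194, 2444),
  (281619, [.j, .f, .g, .e, .f, .c, .d, .e, .a, .b, .c, .d, .h, .i, .g, .f, .d, .e, .b, .c, .d, .h, .j, .g, .f, .e, .d, .c, .b, .a], .k, 45607, 253),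
  (253, [.d, .e, .b, .c, .d, .h, .i, .f, .g, .e, .f, .d, .e, .c, .d, .h, .j, .g, .f, .e, .d, .c, .b], .a, 2444, 176)]

def gp : List ℕ := [0, 307872, 1, 193, 2, 2914, 3, 676, 8, 136, 4, 176]

theorem h_s2_4 : run gp s2_4 k2_3 = true := by decide +kernel


end Cfsg.Agent.H946.SprFi24D
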