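import Cfsg.Agent.H946.SprFi24C
import Cfsg.Agent.KFacts.FiTF.FrameF

/-!
# Elements of order 14 of `Fi24'` which normalize a subgroup of order 29 (helper946)

They are conjugate to the element `b` of `SprFi24C`, so their centralizers in `Fi24'` have order at most 48.
-/

set_option autoImplicit false
set_option linter.constructorNameAsVariable false

namespace Cfsg.Agent.H946.SprFi24E

open Subgroup

/-! ### Conjugate centralizers -/

section

variable {G : Type*} [Group G]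

/-- the centralizers of `a` and `b` are conjugate -/
def CC (a b : G) : Prop := ∃ g : G, ∀ h : G, h * a = a * h ↔ (g⁻¹ * h * g) * b = b * (g⁻¹ * h * g)

theorem CC.trans {a b c : G} (h1 : CC a b) (h2 : CC b c) : CC a c := by
  obtain ⟨g, hg⟩ := h1
  obtain ⟨k, hk⟩ := h2
  refine ⟨g * k, fun h => (hg h).trans ((hk _).trans ?_)⟩
  have h3 : k⁻¹ * (g⁻¹ * h * g) * k = (g * k)⁻¹ * h * (g * k) := by group
  rw [h3]

theorem CC.conj (a g : G) : CC (g * a * g⁻¹) a := by
  refine ⟨g, fun h => ⟨fun e => ?_, fun e => ?_⟩⟩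
  · calc g⁻¹ * h * g * a = g⁻¹ * (h * (g * a * g⁻¹)) * g := by group
      _ = g⁻¹ * ((g * a * g⁻¹) * h) * g := by rw [e]
      _ = a * (g⁻¹ * h * g) := by group
  · calc h * (g * a * g⁻¹) = g * ((g⁻¹ * h * g) * a) * g⁻¹ := by group
      _ = g * (a * (g⁻¹ * h * g)) * g⁻¹ := by rw [e]
      _ = (g * a * g⁻¹) * h := by group

theorem conj_pow' (a g : G) (n : ℕ) : (g * a * g⁻¹) ^ n = g * a ^ n * g⁻¹ := conj_pow

theorem comm_pow {h a : G} (e : h * a = a * h) (n : ℕ) : h * a ^ n = a ^ n * h :=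
  (show Commute h a from e).pow_right n

theorem comm_zpow {h a : G} (e : h * a = a * h) (n : ℤ) : h * a ^ n = a ^ n * h :=
  (show Commute h a from e).zpow_right n

/-- an element of order 14 is determined by its powers -/
theorem comm_of_pow {h a : G} (ha : a ^ 14 = 1) (h7 : h * a ^ 7 = a ^ 7 * h) (h8 : h * a ^ 8 = a ^ 8 * h) :
    h * a = a * h := by
  have h1 : a = a ^ 7 * a ^ 8 := by
    rw [← pow_add, show 7 + 8 = 14 + 1 from rfl, pow_add, ha, one_mul, pow_one]
  have h2 : Commute h (a ^ 7 * a ^ 8) := (show Commute h (a ^ 7) from h7).mul_right h8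
  rw [← h1] at h2
  exact h2

theorem comm_back {g h c d : G} (e : (g⁻¹ * h * g) * d = d * (g⁻¹ * h * g)) (hc : c = g * d * g⁻¹) : h * c = c * h := by
  subst hc
  calc h * (g * d * g⁻¹) = g * ((g⁻¹ * h * g) * d) * g⁻¹ := by group
    _ = g * (d * (g⁻¹ * h * g)) * g⁻¹ := by rw [e]
    _ = (g * d * g⁻¹) * h := by group

theorem comm_forth {g h c d : G} (e : h * c = c * h) (hc : c = g * d * g⁻¹) :
    (g⁻¹ * h * g) * d = d * (g⁻¹ * h * g) := by
  subst hc
  calc g⁻¹ * h * g * d = g⁻¹ * (h * (g * d * g⁻¹)) * g := by group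
    _ = g⁻¹ * ((g * d * g⁻¹) * h) * g := by rw [e]
    _ = d * (g⁻¹ * h * g) := by group

/-- elements of order 14 with the same seventh power -/
theorem cc_of_seven [Finite G] {z a b : G} (ha : a ^ 7 = z) (hb : b ^ 7 = z) (ha14 : orderOf a = 14)
    (hb14 : orderOf b = 14) (hz : ¬ 7 ^ 2 ∣ Nat.card (centralizer ({z} : Set G))) : CC a b := by
  have haK : a ∈ centralizer ({z} : Set G) := by
    rw [mem_centralizer_singleton_iff, ← ha]
    exact comm_pow rfl 7
  have hbK : b ∈ centralizer ({z} : Set G) := by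
    rw [mem_centralizer_singleton_iff, ← hb]
    exact comm_pow rfl 7
  have ord8 : ∀ (c : G) (hc : c ∈ centralizer ({z} : Set G)), orderOf c = 14 →
      Nat.card (zpowers ((⟨c, hc⟩ : centralizer ({z} : Set G)) ^ 8)) = 7 := by
    intro c hc h14
    rw [Nat.card_zpowers, orderOf_pow, Subgroup.orderOf_mk, h14]
    norm_num
  obtain ⟨g, hg⟩ := Cfsg.Agent.H843.Syl.exists_conj (by norm_num : Nat.Prime 7) hz _ _ (ord8 b hbK hb14) (ord8 a haK ha14)
  have ha' : a ^ 14 = 1 := by rw [← ha14, pow_orderOf_eq_one]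
  have hb' : b ^ 14 = 1 := by rw [← hb14, pow_orderOf_eq_one]
  have hgz : (g : G) * z = z * g := mem_centralizer_singleton_iff.1 g.2
  have hzz : z = (g : G) * z * (g : G)⁻¹ := by rw [hgz, mul_inv_cancel_right]
  -- the two inclusions
  have e1 : ∃ i : ℤ, (g : G) * b ^ 8 * (g : G)⁻¹ = (a ^ 8) ^ i := by
    have h1 : g * (⟨b, hbK⟩ ^ 8) * g⁻¹ ∈ zpowers ((⟨a, haK⟩ : centralizer ({z} : Set G)) ^ 8) := by
      rw [← hg]
      exact ⟨_, mem_zpowers _, rfl⟩
    obtain ⟨i, hi⟩ := mem_zpowers_iff.1 h1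
    exact ⟨i, (congrArg Subtype.val hi).symm⟩
  have e2 : ∃ i : ℤ, a ^ 8 = (g : G) * (b ^ 8) ^ i * (g : G)⁻¹ := by
    have h1 : (⟨a, haK⟩ : centralizer ({z} : Set G)) ^ 8 ∈
        (zpowers ((⟨b, hbK⟩ : centralizer ({z} : Set G)) ^ 8)).map (MulAut.conj g).toMonoidHom := by
      rw [hg]
      exact mem_zpowers _
    obtain ⟨w, hw, hw2⟩ := h1
    obtain ⟨i, rfl⟩ := mem_zpowers_iff.1 hw
    exact ⟨i, (congrArg Subtype.val hw2).symm⟩
  refine ⟨g, fun h => ⟨fun e => ?_, fun e => ?_⟩⟩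
  · refine comm_of_pow hb' ?_ ?_
    · rw [hb]
      have h7 := comm_pow e 7
      rw [ha] at h7
      exact comm_forth h7 hzz
    · obtain ⟨i, hi⟩ := e1
      refine comm_forth (c := (a ^ 8) ^ i) ?_ hi.symm
      exact comm_zpow (comm_pow e 8) i
  · refine comm_of_pow ha' ?_ ?_
    · rw [ha]
      have h7 := comm_pow e 7
      rw [hb] at h7
      exact comm_back h7 hzz
    · obtain ⟨i, hi⟩ := e2
      exact comm_back (comm_zpow (comm_pow e 8) i) hi

/-- an involution which normalizes a self-centralizing subgroup of order 29 inverts it -/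
theorem inv_of_norm {t x : G} (hx : orderOf x = 29) (hC : ∀ c : G, c * x = x * c → c ∈ zpowers x) (ht : t ^ 2 = 1)
    (ht1 : t ≠ 1) (hn : t * x * t⁻¹ ∈ zpowers x) : t * x * t⁻¹ = x⁻¹ := by
  obtain ⟨m, hm⟩ := mem_zpowers_iff.1 hn
  have htt : t * t = 1 := by rw [← pow_two, ht]
  have hti : t⁻¹ = t := inv_eq_of_mul_eq_one_left htt
  have h1 : x ^ (m * m) = x := by
    rw [zpow_mul, hm, conj_zpow, hm, hti]
    calc t * (t * x * t) * t = (t * t) * x * (t * t) := by group
      _ = x := by rw [htt, one_mul, mul_one]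
  have h2 : ((29 : ℕ) : ℤ) ∣ m * m - 1 := by
    rw [← hx, orderOf_dvd_iff_zpow_eq_one, zpow_sub, h1, zpow_one, mul_inv_cancel]
  have h3 : m * m - 1 = (m - 1) * (m + 1) := by ring
  rw [h3] at h2
  rcases Int.Prime.dvd_mul' (by norm_num : Nat.Prime 29) h2 with h4 | h4
  · exfalso
    have h5 : x ^ m = x := by
      have h6 : x ^ (m - 1) = 1 := by
        rw [← orderOf_dvd_iff_zpow_eq_one, hx]
        exact h4
      rw [zpow_sub, zpow_one] at h6
      exact mul_inv_eq_one.1 h6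
    have h6 : t * x = x * t := by
      rw [h5] at hm
      calc t * x = (t * x * t⁻¹) * t := by group
        _ = x * t := by rw [← hm]
    have h7 := Subgroup.orderOf_dvd_natCard _ (hC t h6)
    rw [Nat.card_zpowers, hx] at h7
    have h8 : orderOf t ∣ 2 := orderOf_dvd_of_pow_eq_one ht
    have h9 : orderOf t = 1 := Nat.eq_one_of_dvd_coprimes (by norm_num : Nat.Coprime 29 2) h7 h8
    exact ht1 (orderOf_eq_one_iff.1 h9)
  · have h6 : x ^ (m + 1) = 1 := by
      rw [← orderOf_dvd_iff_zpow_eq_one, hx]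
      exact h4
    rw [zpow_add, zpow_one, hm] at h6
    exact eq_inv_of_mul_eq_one_left h6

/-- the elements inverting `x` are conjugate -/
theorem conj_of_inv {t w x : G} (hx : orderOf x = 29) (hC : ∀ c : G, c * x = x * c → c ∈ zpowers x)
    (ht : t * x * t⁻¹ = x⁻¹) (hw : w * x * w⁻¹ = x⁻¹) : ∃ k : G, t = k * w * k⁻¹ := by
  have h1 : w⁻¹ * x * w = x⁻¹ := by
    have h2 : x = w⁻¹ * x⁻¹ * w := by rw [← hw]; group
    calc w⁻¹ * x * w = (w⁻¹ * x⁻¹ * w)⁻¹ := by group
      _ = x⁻¹ := by rw [← h2]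
  have h2 : (t * w⁻¹) * x = x * (t * w⁻¹) := by
    have h3 : (t * w⁻¹) * x * (t * w⁻¹)⁻¹ = x := by
      calc (t * w⁻¹) * x * (t * w⁻¹)⁻¹ = t * (w⁻¹ * x * w) * t⁻¹ := by group
        _ = (t * x * t⁻¹)⁻¹ := by rw [h1]; group
        _ = x := by rw [ht, inv_inv]
    calc (t * w⁻¹) * x = ((t * w⁻¹) * x * (t * w⁻¹)⁻¹) * (t * w⁻¹) := by group
      _ = x * (t * w⁻¹) := by rw [h3]
  obtain ⟨i, hi⟩ := mem_zpowers_iff.1 (hC _ h2)
  refine ⟨x ^ (15 * i), ?_⟩
  have h3 : w * (x ^ (15 * i))⁻¹ = x ^ (15 * i) * w := by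
    have h4 : w * (x ^ (15 * i))⁻¹ * w⁻¹ = x ^ (15 * i) := by
      calc w * (x ^ (15 * i))⁻¹ * w⁻¹ = ((w * x * w⁻¹) ^ (15 * i))⁻¹ := by rw [conj_zpow]; group
        _ = x ^ (15 * i) := by rw [hw, inv_zpow, inv_inv]
    have h5 : w * (x ^ (15 * i))⁻¹ = (w * (x ^ (15 * i))⁻¹ * w⁻¹) * w := by rw [inv_mul_cancel_right]
    rw [h5, h4]
  rw [mul_assoc, h3, ← mul_assoc, ← zpow_add]
  have h4 : x ^ (15 * i + 15 * i) = x ^ i := by
    have h5 : 15 * i + 15 * i = i + 29 * i := by ring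
    have h6 : x ^ (29 * i) = 1 := by
      rw [zpow_mul]
      have : x ^ (29 : ℤ) = 1 := by
        have h7 : x ^ 29 = 1 := by rw [← hx, pow_orderOf_eq_one]
        exact_mod_cast h7
      rw [this, one_zpow]
    rw [h5, zpow_add, h6, mul_one]
  rw [h4, hi]
  group

end

/-! ### `Fi24` -/

section

open Cfsg Cfsg.Agent.Fischer.Fi24Rep Cfsg.Agent.Lib.PermNet Cfsg.Agent.Lib.PermNetPt Cfsg.Agent.Fischer.Fi24RepDef
open Cfsg.Agent.Fischer.Fi24Spider (word_append word_cons word_nil)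
open Cfsg.Agent.KFacts.FiTF.Pts Cfsg.Agent.KFacts.FiTF.FixMask Cfsg.Agent.H843.Pat Cfsg.Agent.H843.Fi24N
open Cfsg.Agent.R08.FiTwentyFour (L finite_Fi24)
open Cfsg.Agent.H946.SprFi24D
open Cfsg.Agent.H946.SprFi24C (card_le g_conj bw_eq zw_eq)
open Cfsg.Spor (Fi24)
open Cfsg.Spor.Fi24 (Gen)

/-- the element of order 29 -/
noncomputable abbrev X : Fi24 := Cfsg.Agent.H843.D29.D.x

theorem self {c : Fi24} (h : c * X = X * c) : c ∈ zpowers X := by
  have := finite_Fi24
  have h1 : zpowers X = centralizer (zpowers X : Set Fi24) := by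
    refine eq_of_le_of_card_ge ?_ ?_
    · rw [zpowers_le]
      exact Cfsg.Agent.H843.Cyc.mem_centralizer_zpowers.2 rfl
    · rw [Cfsg.Agent.H843.D29.main.2, Nat.card_zpowers, Cfsg.Agent.H843.D29.order]
  rw [h1]
  exact Cfsg.Agent.H843.Cyc.mem_centralizer_zpowers.2 h

theorem tau_inv : word tw * X * (word tw)⁻¹ = X⁻¹ := by
  have h1 : word Cfsg.Agent.H843.D29.w28 * word Cfsg.Agent.H843.D29.xw * (word Cfsg.Agent.H843.D29.w28)⁻¹ =
      (word Cfsg.Agent.H843.D29.xw)⁻¹ ^ 1 := conj_of' Cfsg.Agent.H843.D29.h28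
  rw [pow_one] at h1
  exact h1

theorem tau_conj : ∃ k : Fi24, word tw = k * word zw * k⁻¹ := by
  have h1 := word_eq_of h_u
  rw [word_append, word_append, ← z_word] at h1
  have h2 := g_conj
  refine ⟨(word SprFi24D.uw)⁻¹ * word gw, ?_⟩
  calc word tw = (word SprFi24D.uw)⁻¹ * (word SprFi24D.uw * word tw) := by group
    _ = (word SprFi24D.uw)⁻¹ * (Cfsg.Agent.KFacts.FiTF.Defs.z * word gw) * (word gw)⁻¹ * word SprFi24D.uw := by rw [h1]; group
    _ = (word SprFi24D.uw)⁻¹ * word gw * word zw * ((word SprFi24D.uw)⁻¹ * word gw)⁻¹ := by rw [← h2]; group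

theorem card_conj {G : Type*} [Group G] {g c d : G} (hz : c = g * d * g⁻¹) :
    Nat.card (centralizer ({d} : Set G)) = Nat.card (centralizer ({c} : Set G)) := by
  have e : (centralizer ({d} : Set G)).map (MulAut.conj g).toMonoidHom = centralizer ({c} : Set G) := by
    ext h
    rw [mem_centralizer_singleton_iff]
    constructor
    · rintro ⟨k, hk, rfl⟩
      refine comm_back (g := g) (d := d) ?_ hz
      have h3 : g⁻¹ * (MulAut.conj g).toMonoidHom k * g = k := by
        show g⁻¹ * (g * k * g⁻¹) * g = k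
        group
      rw [h3]
      exact mem_centralizer_singleton_iff.1 hk
    · intro h3
      refine ⟨g⁻¹ * h * g, mem_centralizer_singleton_iff.2 (comm_forth h3 hz), ?_⟩
      show g * (g⁻¹ * h * g) * g⁻¹ = h
      group
  rw [← e, card_map_of_injective (MulAut.conj g).injective]

theorem card_zw : Nat.card (centralizer ({word zw} : Set Fi24)) = 321052999680 := by
  rw [← Cfsg.Agent.KFacts.FiTF.Order.card]
  exact card_conj (g := word gw) (by rw [g_conj, mul_inv_cancel_right])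

theorem ne_one_of_card {G : Type*} [Group G] {z : G} {n m : ℕ} (h : Nat.card (centralizer ({z} : Set G)) = n)
    (hG : Nat.card G = m) (hne : n ≠ m) : z ≠ 1 := by
  rintro rfl
  have h4 : centralizer ({(1 : G)} : Set G) = ⊤ := by
    rw [eq_top_iff]
    intro g _
    rw [mem_centralizer_singleton_iff, mul_one, one_mul]
  rw [h4, Subgroup.card_top, hG] at h
  exact hne h.symm

theorem zw_ne : word zw ≠ 1 := ne_one_of_card card_zw card_Fi24 (by norm_num)

theorem conj_sq {G : Type*} [Group G] {g c d : G} (h : g * d = c * g) (hc : c * c = 1) : d ^ 2 = 1 := by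
  have h3 : d = g⁻¹ * c * g := by rw [mul_assoc, ← h, inv_mul_cancel_left]
  rw [pow_two, h3]
  calc g⁻¹ * c * g * (g⁻¹ * c * g) = g⁻¹ * (c * c) * g := by group
    _ = 1 := by rw [hc]; group

theorem zw_sq : word zw ^ 2 = 1 := conj_sq g_conj Cfsg.Agent.KFacts.FiTF.Tet.zz

/-- the order of an element with a known seventh power -/
theorem order14 {G : Type*} [Group G] {b z : G} (h7 : b ^ 7 = z) (hz : z ^ 2 = 1) (hz1 : z ≠ 1) (hb : b ≠ z) :
    orderOf b = 14 := by
  have h1 : orderOf b ∣ 14 := by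
    rw [orderOf_dvd_iff_pow_eq_one, show 14 = 7 * 2 from rfl, pow_mul, h7, hz]
  have h2 : ¬ orderOf b ∣ 7 := fun h => hz1 (by rw [← h7]; exact orderOf_dvd_iff_pow_eq_one.1 h)
  have h3 : ¬ orderOf b ∣ 2 := fun h => hb (by
    have h4 : b ^ 2 = 1 := orderOf_dvd_iff_pow_eq_one.1 h
    rw [← h7, show 7 = 2 * 3 + 1 from rfl, pow_succ, pow_mul, h4, one_pow, one_mul])
  have h4 : orderOf b ∈ Nat.divisors 14 := Nat.mem_divisors.2 ⟨h1, by norm_num⟩
  have h5 : Nat.divisors 14 = {1, 2, 7, 14} := by decide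
  rw [h5] at h4
  simp only [Finset.mem_insert, Finset.mem_singleton] at h4
  rcases h4 with h | h | h | h
  · exact absurd (by rw [h]; norm_num) h2
  · exact absurd (by rw [h]) h3
  · exact absurd (by rw [h]) h2
  · exact h

theorem b_ne : word bw ≠ word zw := by
  intro h
  have h1 : rho (word bw) 395 = 49627 := rho_of_chkPt h_b0
  have h2 : rho (word zw) 395 = 395 := Cfsg.Agent.H946.SprFi24C.fz
  rw [h, h2] at h1
  exact absurd h1 (by decide)

theorem order_b : orderOf (word bw) = 14 := order14 zw_eq.symm zw_sq zw_ne b_ne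

/-- **The elements of order 14 normalizing a subgroup of order 29.** -/
theorem cc {s a : Fi24} (hs : orderOf s = 29) (ha : orderOf a = 14) (has : a * s * a⁻¹ ∈ zpowers s) :
    CC a (word bw) := by
  have hfin := finite_Fi24
  have hX : orderOf X = 29 := Cfsg.Agent.H843.D29.order
  obtain ⟨g, hg⟩ := Cfsg.Agent.H843.Syl.exists_conj (G := Fi24) (by norm_num : Nat.Prime 29)
    (by rw [card_Fi24]; norm_num) (zpowers X) (zpowers s) (by rw [Nat.card_zpowers, hX]) (by rw [Nat.card_zpowers, hs])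
  -- `a' = g⁻¹ a g` normalizes `⟨X⟩`
  have hn : (g⁻¹ * a * g) * X * (g⁻¹ * a * g)⁻¹ ∈ zpowers X := by
    have h1 : g * X * g⁻¹ ∈ zpowers s := by rw [← hg]; exact ⟨X, mem_zpowers X, rfl⟩
    obtain ⟨i, hi⟩ := mem_zpowers_iff.1 h1
    have h2 : a * (g * X * g⁻¹) * a⁻¹ ∈ zpowers s := by
      rw [← hi, ← conj_zpow]
      exact zpow_mem has i
    rw [← hg] at h2
    obtain ⟨w, hw, hw2⟩ := h2
    have h3 : g * w * g⁻¹ = a * (g * X * g⁻¹) * a⁻¹ := hw2
    have h4 : (g⁻¹ * a * g) * X * (g⁻¹ * a * g)⁻¹ = w := by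
      calc (g⁻¹ * a * g) * X * (g⁻¹ * a * g)⁻¹ = g⁻¹ * (a * (g * X * g⁻¹) * a⁻¹) * g := by group
        _ = w := by rw [← h3]; group
    rw [h4]
    exact hw
  set a' := g⁻¹ * a * g with ha'
  have hord : orderOf a' = 14 := by
    rw [← ha, ha']
    have h1 := orderOf_injective (MulAut.conj g⁻¹).toMonoidHom (MulAut.conj g⁻¹).injective a
    rw [← h1]
    congr 1
    show g⁻¹ * a * g = g⁻¹ * a * g⁻¹⁻¹
    rw [inv_inv]
  have hca : CC a a' := by
    have h1 := CC.conj a' g
    have h2 : g * a' * g⁻¹ = a := by rw [ha']; group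
    rwa [h2] at h1
  -- the seventh power
  have h14 : a' ^ 14 = 1 := by rw [← hord, pow_orderOf_eq_one]
  have ht : (a' ^ 7) ^ 2 = 1 := by rw [← pow_mul]; exact h14
  have ht1 : a' ^ 7 ≠ 1 := fun h => by
    have h1 := orderOf_dvd_of_pow_eq_one h
    rw [hord] at h1
    norm_num at h1
  have hpow : ∀ n : ℕ, a' ^ n * X * (a' ^ n)⁻¹ ∈ zpowers X := by
    intro n
    induction n with
    | zero => rw [pow_zero]; simp
    | succ n ih =>
      obtain ⟨i, hi⟩ := mem_zpowers_iff.1 ih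
      have h1 : a' ^ (n + 1) * X * (a' ^ (n + 1))⁻¹ = (a' * X * a'⁻¹) ^ i := by
        rw [conj_zpow, hi, pow_succ']
        group
      rw [h1]
      exact zpow_mem hn i
  have hinv := inv_of_norm hX (fun c hc => self hc) ht ht1 (hpow 7)
  obtain ⟨k, hk⟩ := conj_of_inv hX (fun c hc => self hc) hinv tau_inv
  obtain ⟨k', hk'⟩ := tau_conj
  -- `a'' = (k k')⁻¹ a' (k k')`
  set m := k * k' with hm
  have h7 : (m⁻¹ * a' * m) ^ 7 = word zw := by
    have h1 : (m⁻¹ * a' * m) ^ 7 = m⁻¹ * a' ^ 7 * m := by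
      have h2 := conj_pow (i := 7) (a := m⁻¹) (b := a')
      rw [inv_inv] at h2
      exact h2
    rw [h1, hk, hk', hm]
    group
  have hord' : orderOf (m⁻¹ * a' * m) = 14 := by
    rw [← hord]
    have h1 := orderOf_injective (MulAut.conj m⁻¹).toMonoidHom (MulAut.conj m⁻¹).injective a'
    rw [← h1]
    congr 1
    show m⁻¹ * a' * m = m⁻¹ * a' * m⁻¹⁻¹
    rw [inv_inv]
  have hcb : CC a' (m⁻¹ * a' * m) := by
    have h1 := CC.conj (m⁻¹ * a' * m) m
    have h2 : m * (m⁻¹ * a' * m) * m⁻¹ = a' := by group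
    rwa [h2] at h1
  have hcc : CC (m⁻¹ * a' * m) (word bw) :=
    cc_of_seven h7 zw_eq.symm hord' order_b (by rw [card_zw]; norm_num)
  exact hca.trans (hcb.trans hcc)

theorem sgn_word : ∀ l : List Gen, Cfsg.Agent.Fischer.Fi24Final.sgn (word l) = (-1) ^ l.length
  | [] => by rw [word_nil, map_one]; rfl
  | x :: l => by
    rw [word_cons, map_mul, sgn_word l, List.length_cons, pow_succ', Cfsg.Agent.Fischer.Fi24Final.sgn_gen x]

/-- the word `y` is odd -/
theorem y_odd : word yw ∉ _root_.commutator Fi24 := by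
  rw [Cfsg.Agent.R08.FiTwentyFour.mem_commutator_iff, sgn_word]
  decide

/-- **The centralizers in `Fi24'`.** -/
theorem card_centralizer_le {s a : Cfsg.Spor.Fi24'} (hs : orderOf s = 29) (ha : orderOf a = 14)
    (has : a * s * a⁻¹ ∈ zpowers s) : Nat.card (centralizer ({a} : Set Cfsg.Spor.Fi24')) ≤ 48 := by
  have hfin := finite_Fi24
  have has' : (a : Fi24) * s * (a : Fi24)⁻¹ ∈ zpowers (s : Fi24) := by
    obtain ⟨i, hi⟩ := mem_zpowers_iff.1 has
    exact mem_zpowers_iff.2 ⟨i, by have := congrArg Subtype.val hi; simpa using this⟩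
  obtain ⟨g, hg⟩ := cc (s := (s : Fi24)) (a := (a : Fi24)) (by rw [Subgroup.orderOf_coe, hs])
    (by rw [Subgroup.orderOf_coe, ha]) has'
  set C := centralizer ({(a : Fi24)} : Set Fi24) with hC
  -- the order of `C`
  have h1 : Nat.card C ≤ 96 := by
    refine le_trans ?_ card_le
    refine Nat.card_le_card_of_injective (fun h : C => (⟨g⁻¹ * (h : Fi24) * g, ?_⟩ :
      centralizer ({word bw} : Set Fi24))) ?_
    · rw [mem_centralizer_singleton_iff]
      exact (hg _).1 (mem_centralizer_singleton_iff.1 h.2)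
    · intro x y h
      have h2 : g⁻¹ * (x : Fi24) * g = g⁻¹ * (y : Fi24) * g := congrArg Subtype.val h
      exact Subtype.ext (mul_left_cancel (mul_right_cancel h2))
  -- an odd element
  have h2 : g * word yw * g⁻¹ ∈ C := by
    rw [hC, mem_centralizer_singleton_iff, hg]
    have h3 : g⁻¹ * (g * word yw * g⁻¹) * g = word yw := by group
    rw [h3, bw_eq]
    exact comm_pow rfl 2
  have h3 : g * word yw * g⁻¹ ∉ _root_.commutator Fi24 := fun h => by
    apply y_odd
    have h4 := (inferInstance : (_root_.commutator Fi24).Normal).conj_mem _ h g⁻¹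
    have h5 : g⁻¹ * (g * word yw * g⁻¹) * g⁻¹⁻¹ = word yw := by group
    rwa [h5] at h4
  have h4 : (_root_.commutator Fi24).relIndex C ∣ 2 := by
    rw [← Cfsg.Agent.R08.FiTwentyFour.index_commutator]
    exact Subgroup.relIndex_dvd_index_of_normal _ _
  have h5 : (_root_.commutator Fi24).relIndex C ≠ 1 := fun h => by
    rw [Subgroup.relIndex_eq_one] at h
    exact h3 (h h2)
  have h6 : (_root_.commutator Fi24).relIndex C = 2 := ((Nat.dvd_prime Nat.prime_two).1 h4).resolve_left h5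
  have h7 : Nat.card ((_root_.commutator Fi24).subgroupOf C) * 2 = Nat.card C := by
    rw [← h6]
    exact Subgroup.card_mul_index _
  have h8 : Nat.card (centralizer ({a} : Set Cfsg.Spor.Fi24')) ≤ Nat.card ((_root_.commutator Fi24).subgroupOf C) := by
    refine Nat.card_le_card_of_injective (fun h : centralizer ({a} : Set Cfsg.Spor.Fi24') =>
      (⟨⟨((h : Cfsg.Spor.Fi24') : Fi24), ?_⟩, ?_⟩ : (_root_.commutator Fi24).subgroupOf C)) ?_
    · rw [hC, mem_centralizer_singleton_iff]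
      exact congrArg Subtype.val (mem_centralizer_singleton_iff.1 h.2)
    · rw [mem_subgroupOf]
      exact (h : Cfsg.Spor.Fi24').2
    · intro x y h
      apply Subtype.ext
      apply Subtype.ext
      exact congrArg (fun w : (_root_.commutator Fi24).subgroupOf C => ((w : C) : Fi24)) h
  omega

end

end Cfsg.Agent.H946.SprFi24E
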